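import Cfsg.Agent.Lib.Small.Cover2.Basic

/-!
Self-adjoint roots of the cubic of Artin and Schreier moved by an isometry, in characteristic three.
-/

set_option autoImplicit false
set_option linter.unusedSectionVars false
set_option linter.style.haveILetI false

namespace Cfsg.Agent.Small.Cover2.Six

open Polynomial

/-- The expansion of a shifted cube. -/
theorem shift_cube {R : Type*} [Ring R] (h3 : ∀ x : R, x + x + x = 0) {D t u w : R}
    (hu : D * t = t * D + u) (hw : D * u = u * D + w) (hc : u * t = t * u) :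
    (D + t) ^ 3 = D ^ 3 + w + t ^ 3 := by
  have hu' : ∀ x, D * (t * x) = t * (D * x) + u * x := fun x => by rw [← mul_assoc, hu, add_mul, mul_assoc]
  have hc' : ∀ x, u * (t * x) = t * (u * x) := fun x => by rw [← mul_assoc, hc, mul_assoc]
  calc (D + t) ^ 3 = D ^ 3 + w + t ^ 3 + (t * D * D + t * D * D + t * D * D) + (u * D + u * D + u * D) +
      (t * t * D + t * t * D + t * t * D) + (t * u + t * u + t * u) := by
        simp only [pow_succ, pow_zero, one_mul, add_mul, mul_add, mul_assoc, hu, hu', hw, hc]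
        abel
    _ = D ^ 3 + w + t ^ 3 := by rw [h3, h3, h3, h3, add_zero, add_zero, add_zero, add_zero]

/-- The polynomial of Artin and Schreier. -/
noncomputable def asCubic {F : Type*} [Field F] (e : F) : F[X] := X ^ 3 - X - C e

theorem asCubic_natDegree {F : Type*} [Field F] (e : F) : (asCubic e).natDegree = 3 := by
  rw [asCubic]; compute_degree!

theorem aeval_asCubic {F R : Type*} [Field F] [Ring R] [Algebra F R] (e : F) (x : R) :
    aeval x (asCubic e) = x ^ 3 - x - algebraMap F R e := by
  simp [asCubic]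

/-- A six-dimensional symplectic space. -/
structure Space (F V : Type*) [Field F] [AddCommGroup V] [Module F V] where
  /-- The form. -/
  B : LinearMap.BilinForm F V
  alt : ∀ x, B x x = 0
  nd : ∀ x, (∀ y, B x y = 0) → x = 0
  dim : Module.finrank F V = 6

variable {F V : Type*} [Field F] [AddCommGroup V] [Module F V]

namespace Space

variable (ω : Space F V)

theorem swap (x y : V) : ω.B y x = -ω.B x y := by
  have h := ω.alt (x + y)
  simp only [map_add, LinearMap.add_apply, ω.alt, zero_add, add_zero] at h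
  linear_combination h

theorem nd' (y : V) (h : ∀ x, ω.B x y = 0) : y = 0 := ω.nd y fun x => by rw [ω.swap, h, neg_zero]

theorem isRefl : ω.B.IsRefl := fun x y h => by rw [ω.swap, h, neg_zero]

theorem nondeg : ω.B.Nondegenerate := ⟨ω.nd, ω.nd'⟩

include ω in
theorem findim : FiniteDimensional F V := Module.finite_of_finrank_pos (by rw [ω.dim]; norm_num)

/-- `Y` is adjoint to `X`. -/
def IsAdj (X Y : Module.End F V) : Prop := ∀ u v, ω.B (X u) v = ω.B u (Y v)

variable {ω} {X X' Y Y' : Module.End F V}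

theorem IsAdj.symm (h : ω.IsAdj X Y) : ω.IsAdj Y X := fun u v => by
  rw [ω.swap v (Y u), ← h, ω.swap u (X v), neg_neg]

theorem IsAdj.add (h : ω.IsAdj X Y) (h' : ω.IsAdj X' Y') : ω.IsAdj (X + X') (Y + Y') := fun u v => by
  simp only [LinearMap.add_apply, map_add, h u v, h' u v]

theorem IsAdj.neg (h : ω.IsAdj X Y) : ω.IsAdj (-X) (-Y) := fun u v => by
  simp only [LinearMap.neg_apply, map_neg, h u v]

theorem IsAdj.sub (h : ω.IsAdj X Y) (h' : ω.IsAdj X' Y') : ω.IsAdj (X - X') (Y - Y') := fun u v => by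
  simp only [LinearMap.sub_apply, map_sub, h u v, h' u v]

theorem IsAdj.smul (c : F) (h : ω.IsAdj X Y) : ω.IsAdj (c • X) (c • Y) := fun u v => by
  simp only [LinearMap.smul_apply, map_smul, h u v]

theorem IsAdj.mul (h : ω.IsAdj X Y) (h' : ω.IsAdj X' Y') : ω.IsAdj (X * X') (Y' * Y) := fun u v => by
  rw [Module.End.mul_apply, Module.End.mul_apply, h, h']

theorem isAdj_one : ω.IsAdj 1 1 := fun _ _ => rfl

theorem isAdj_scalar (c : F) : ω.IsAdj (algebraMap F (Module.End F V) c) (algebraMap F (Module.End F V) c) := by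
  rw [Algebra.algebraMap_eq_smul_one]
  exact isAdj_one.smul c

theorem IsAdj.pow (h : ω.IsAdj X Y) (n : ℕ) : ω.IsAdj (X ^ n) (Y ^ n) := by
  induction n with
  | zero => exact isAdj_one
  | succ n ih =>
    rw [pow_succ, pow_succ']
    exact ih.mul h

theorem IsAdj.trans_eq (h : ω.IsAdj X Y) (e : Y = Y') : ω.IsAdj X Y' := e ▸ h

theorem IsAdj.unique (h : ω.IsAdj X Y) (h' : ω.IsAdj X Y') : Y = Y' := LinearMap.ext fun v =>
  sub_eq_zero.mp (ω.nd' _ fun u => by rw [map_sub, ← h, ← h', sub_self])

theorem IsAdj.aeval (h : ω.IsAdj X X) (P : F[X]) : ω.IsAdj (aeval X P) (aeval X P) := by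
  induction P using Polynomial.induction_on' with
  | add a b ha hb => rw [map_add]; exact ha.add hb
  | monomial n c =>
    have := (h.pow n).smul c
    rwa [aeval_monomial, ← Algebra.smul_def]

theorem exists_adj (X : Module.End F V) : ∃ Y, ω.IsAdj X Y := by
  haveI := ω.findim
  let f : V →ₗ[F] Module.Dual F V :=
    { toFun := fun u => (ω.B u).comp X
      map_add' := fun u u' => by rw [map_add, LinearMap.add_comp]
      map_smul' := fun c u => by rw [map_smul, LinearMap.smul_comp]; rfl }
  exact ⟨(ω.B.toDual ω.nondeg).symm.toLinearMap ∘ₗ f, IsAdj.symm (fun u v => by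
    simp [f, LinearMap.BilinForm.apply_toDual_symm_apply])⟩

end Space

variable [CharP F 3]

theorem three_zero : (3 : F) = 0 := by exact_mod_cast CharP.cast_eq_zero F 3

theorem end_three (X : Module.End F V) : X + X + X = 0 := by
  calc X + X + X = ((1 : F) + 1 + 1) • X := by rw [add_smul, add_smul, one_smul]
    _ = 0 := by rw [show (1 : F) + 1 + 1 = 0 by linear_combination three_zero (F := F), zero_smul]

/-- A root of the cubic moved by the isometry. -/
def HasRoot (ω : Space F V) (e : F) (g : Module.End F V) : Prop :=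
  ∃ (J : Module.End F V) (r : F), ω.IsAdj J J ∧ aeval J (asCubic e) = 0 ∧
    g * J = (J + algebraMap F (Module.End F V) r) * g

/-- A shifting self-adjoint idempotent cube and a scalar cube give a root. -/
theorem root_of_shift {ω : Space F V} {g gi h hi J0 : Module.End F V} {γ : F} (hγ : γ ≠ 0) [Fintype F]
    (hJ : ω.IsAdj J0 J0) (hJ3 : J0 ^ 3 = J0) (hh : h * hi = 1) (hh' : hi * h = 1) (ha : ω.IsAdj h hi)
    (hsh : J0 * h = h * J0 + h) (hg : J0 * g = g * J0 + g) (hgh : Commute g h) (hgi : gi * g = 1) (hgi' : g * gi = 1)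
    (hcube : h ^ 3 + hi ^ 3 = algebraMap F (Module.End F V) γ) (e : F) : HasRoot ω e g := by
  obtain ⟨x, hx⟩ : ∃ x : F, x ^ 3 = e / γ := by
    haveI : Fact (Nat.Prime 3) := ⟨Nat.prime_three⟩
    obtain ⟨x, hx⟩ := (Finite.injective_iff_surjective).mp (frobenius F 3).injective (e / γ)
    exact ⟨x, hx⟩
  have hshi : J0 * hi = hi * J0 - hi := by
    have h1 := congrArg (fun z => hi * z * hi) hsh
    simp only [mul_add, add_mul, mul_assoc, hh, mul_one] at h1
    simp only [← mul_assoc, hh', one_mul] at h1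
    rw [eq_sub_iff_add_eq, ← h1]
  have hcc : h * hi = hi * h := hh.trans hh'.symm
  obtain ⟨t, ht⟩ : ∃ t, t = x • (h + hi) := ⟨_, rfl⟩
  have hu : J0 * t = t * J0 + x • (h - hi) := by
    rw [ht, mul_smul_comm, smul_mul_assoc, ← smul_add, mul_add, hsh, hshi, add_mul]
    congr 1
    abel
  have hw : J0 * (x • (h - hi)) = x • (h - hi) * J0 + t := by
    rw [ht, mul_smul_comm, smul_mul_assoc, ← smul_add, mul_sub, hsh, hshi, sub_mul]
    congr 1
    abel
  have hc : x • (h - hi) * t = t * x • (h - hi) := by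
    have hcm : Commute (h - hi) (h + hi) :=
      ((Commute.refl h).add_right hcc).sub_left ((Commute.symm hcc).add_right (Commute.refl hi))
    rw [ht]
    exact ((hcm.smul_left x).smul_right x).eq
  have hgt : g * t = t * g := by
    have : Commute g hi := by
      show g * hi = hi * g
      calc g * hi = hi * h * g * hi := by rw [hh', one_mul]
        _ = hi * g * (h * hi) := by rw [mul_assoc hi, ← hgh.eq]; simp only [mul_assoc]
        _ = hi * g := by rw [hh, mul_one]
    rw [ht]
    exact ((hgh.add_right this).smul_right x).eq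
  refine ⟨J0 + t, -1, hJ.add (ht ▸ ((ha.add ha.symm).smul x).trans_eq (by rw [add_comm hi h])), ?_, ?_⟩
  · rw [aeval_asCubic, shift_cube end_three hu hw hc, hJ3]
    have h2 : t ^ 3 = algebraMap F (Module.End F V) e := by
      have hhh : (h + hi) ^ 3 = h ^ 3 + hi ^ 3 := by
        have hhi : ∀ z, h * (hi * z) = z := fun z => by rw [← mul_assoc, hh, one_mul]
        have hhi' : ∀ z, hi * (h * z) = z := fun z => by rw [← mul_assoc, hh', one_mul]
        calc (h + hi) ^ 3 = h ^ 3 + hi ^ 3 + (h + h + h) + (hi + hi + hi) := by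
              simp only [pow_succ, pow_zero, one_mul, add_mul, mul_add, mul_assoc, hh, hh', mul_one]
              abel
          _ = _ := by rw [end_three, end_three, add_zero, add_zero]
      rw [ht, _root_.smul_pow, hhh, hcube, hx, Algebra.algebraMap_eq_smul_one,
        Algebra.algebraMap_eq_smul_one, smul_smul, div_mul_cancel₀ e hγ]
    rw [h2]
    abel
  · rw [map_neg, map_one, add_mul, add_mul, hg, mul_add, hgt, neg_mul, one_mul]
    abel

/-- A shift becomes self-adjoint when the centraliser is commutative. -/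
theorem exists_selfAdj_shift {ω : Space F V} {g gi D : Module.End F V} (hgi : gi * g = 1) (hgi' : g * gi = 1)
    (ha : ω.IsAdj g gi) (hcomm : ∀ x y : Module.End F V, Commute x g → Commute y g → Commute x y)
    (hD : D * g = g * D + g) (hD3 : D ^ 3 = D) :
    ∃ J0, ω.IsAdj J0 J0 ∧ J0 ^ 3 = J0 ∧ J0 * g = g * J0 + g := by
  obtain ⟨D', hD'⟩ := Space.exists_adj (ω := ω) D
  obtain ⟨a, haD⟩ : ∃ a, a = D' - D := ⟨_, rfl⟩
  have hD'g : D' * g = g * D' + g := by
    have h := (hD'.mul ha).unique (hD ▸ ((ha.mul hD').add ha) : ω.IsAdj (D * g) (D' * gi + gi))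
    have h1 := congrArg (fun z => g * z * g) h
    simp only [mul_add, add_mul, mul_assoc, hgi, mul_one] at h1
    simp only [← mul_assoc, hgi', one_mul] at h1
    rw [h1]
  have hag : Commute a g := by
    show a * g = g * a
    rw [haD, sub_mul, hD'g, hD, mul_sub]
    abel
  obtain ⟨r, hr⟩ : ∃ r, r = -a := ⟨_, rfl⟩
  have hrg : Commute r g := hr ▸ hag.neg_left
  have haa : ω.IsAdj a (-a) := by
    have := hD'.symm.sub hD'
    rwa [← haD, show D - D' = -a by rw [haD, neg_sub]] at this
  have hra : ω.IsAdj r (-r) := hr ▸ haa.neg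
  have dcomm : ∀ z, Commute z g → Commute (D * z - z * D) g := fun z hz => by
    show (D * z - z * D) * g = g * (D * z - z * D)
    have e1 : D * (z * g) = g * (D * z) + g * z := by rw [hz.eq, ← mul_assoc, hD, add_mul, mul_assoc]
    rw [sub_mul, mul_assoc, e1, mul_assoc, hD, mul_add, ← mul_assoc z g D, hz.eq, mul_sub, mul_assoc g z D]
    abel
  obtain ⟨u, hu⟩ : ∃ u, u = D * r - r * D := ⟨_, rfl⟩
  obtain ⟨w, hw⟩ : ∃ w, w = D * u - u * D := ⟨_, rfl⟩
  have hug : Commute u g := hu ▸ dcomm r hrg
  have hD'eq : D' = D + a := by rw [haD]; abel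
  have hua : ω.IsAdj u u := by
    have h := (hD'.mul hra).sub (hra.mul hD')
    rw [← hu] at h
    refine h.trans_eq ?_
    rw [hu, hD'eq, mul_add, add_mul, neg_mul, neg_mul, mul_neg, mul_neg, (hcomm r a hrg hag).eq]
    abel
  have hwa : ω.IsAdj w (-w) := by
    have h := (hD'.mul hua).sub (hua.mul hD')
    rw [← hw] at h
    refine h.trans_eq ?_
    rw [hw, hD'eq, mul_add, add_mul, (hcomm u a hug hag).eq]
    abel
  have hJ : ω.IsAdj (D + r) (D + r) := by
    refine (hD'.add hra).trans_eq ?_
    rw [hr, hD'eq]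
    calc D + a + - -a = D + -a + (a + a + a) := by abel
      _ = D + -a := by rw [end_three, add_zero]
  refine ⟨D + r, hJ, ?_, ?_⟩
  · have hexp : (D + r) ^ 3 - (D + r) = w + r ^ 3 - r := by
      rw [shift_cube end_three (show D * r = r * D + u by rw [hu]; abel)
        (show D * u = u * D + w by rw [hw]; abel) (hcomm u r hug hrg).eq, hD3]
      abel
    have hE : ω.IsAdj ((D + r) ^ 3 - (D + r)) ((D + r) ^ 3 - (D + r)) := (hJ.pow 3).sub hJ
    have hE' : ω.IsAdj ((D + r) ^ 3 - (D + r)) (-((D + r) ^ 3 - (D + r))) := by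
      rw [hexp]
      refine ((hwa.add (hra.pow 3)).sub hra).trans_eq ?_
      rw [Odd.neg_pow (by decide)]
      abel
    have h0 := hE.unique hE'
    rw [← sub_eq_zero]
    calc (D + r) ^ 3 - (D + r) = (((D + r) ^ 3 - (D + r)) + ((D + r) ^ 3 - (D + r)) + ((D + r) ^ 3 - (D + r))) -
          (((D + r) ^ 3 - (D + r)) - (-((D + r) ^ 3 - (D + r)))) := by abel
      _ = 0 := by rw [end_three, ← h0, sub_self, sub_zero]
  · rw [add_mul, hD, hrg.eq, mul_add]
    abel

end Cfsg.Agent.Small.Cover2.Six
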