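import Cfsg.Agent.Lib.Small.Cover2.SixUnip

/-!
Every isometry of a six-dimensional symplectic space in characteristic three fixes a nondegenerate plane
or moves a self-adjoint root of an irreducible cubic of Artin and Schreier by a scalar.
-/

set_option autoImplicit false
set_option linter.unusedSectionVars false
set_option linter.style.haveILetI false
set_option linter.unusedSimpArgs false

namespace Cfsg.Agent.Small.Cover2.Six

open Polynomial

variable {F V : Type*} [Field F] [Fintype F] [CharP F 3] [AddCommGroup V] [Module F V]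

theorem two_ne : (2 : F) ≠ 0 := fun h => one_ne_zero (α := F) (by linear_combination three_zero (F := F) - h)

/-- An alternating form in dimension three is degenerate. -/
theorem exists_null {W : Type*} [AddCommGroup W] [Module F W] [FiniteDimensional F W]
    (hW : Module.finrank F W = 3) (β : LinearMap.BilinForm F W) (halt : ∀ x, β x x = 0) :
    ∃ y, y ≠ 0 ∧ ∀ x, β x y = 0 := by
  classical
  let b := Module.finBasisOfFinrankEq F W hW
  obtain ⟨A, hA⟩ : ∃ A : Matrix (Fin 3) (Fin 3) F, A = Matrix.of fun i j => β (b i) (b j) := ⟨_, rfl⟩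
  have hskew : A.transpose = -A := by
    ext i j
    have h := halt (b i + b j)
    simp only [map_add, LinearMap.add_apply, halt, zero_add, add_zero] at h
    simp only [hA, Matrix.transpose_apply, Matrix.of_apply, Matrix.neg_apply]
    linear_combination h
  have hdet : A.det = 0 := by
    have h := congrArg Matrix.det hskew
    rw [Matrix.det_transpose, Matrix.det_neg, Fintype.card_fin] at h
    exact (mul_eq_zero.mp (show (2 : F) * A.det = 0 by linear_combination h)).resolve_left two_ne
  obtain ⟨c, hc0, hc⟩ := Matrix.exists_mulVec_eq_zero_iff.mpr hdet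
  refine ⟨∑ j, c j • b j, fun h => hc0 (funext fun j => Fintype.linearIndependent_iff.mp b.linearIndependent c h j),
    fun x => ?_⟩
  have hi : ∀ i, β (b i) (∑ j, c j • b j) = 0 := fun i => by
    have h := congrFun hc i
    simp only [hA, Matrix.mulVec, dotProduct, Matrix.of_apply, Pi.zero_apply] at h
    rw [map_sum, ← h]
    exact Finset.sum_congr rfl fun j _ => by rw [map_smul, smul_eq_mul, mul_comm]
  conv_lhs => rw [← b.sum_repr x]
  rw [map_sum β, LinearMap.sum_apply]
  exact Finset.sum_eq_zero fun i _ => by rw [map_smul, LinearMap.smul_apply, hi, smul_zero]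

/-- A nondegenerate subspace is not a line and not of dimension three. -/
theorem nondeg_dim (ω : Space F V) {W : Submodule F V} (h : ∀ x ∈ W, (∀ y ∈ W, ω.B x y = 0) → x = 0) :
    Module.finrank F W ≠ 1 ∧ Module.finrank F W ≠ 3 := by
  haveI := ω.findim
  constructor
  · intro h1
    obtain ⟨⟨v, hvW⟩, hv0, hv⟩ := finrank_eq_one_iff'.mp h1
    refine hv0 (Subtype.ext (h v hvW fun y hy => ?_))
    obtain ⟨c, hc⟩ := hv ⟨y, hy⟩
    rw [← show c • v = y from congrArg Subtype.val hc, map_smul, ω.alt, smul_zero]
  · intro h3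
    obtain ⟨y, hy0, hy⟩ := exists_null h3 (ω.B.restrict W) (fun x => ω.alt _)
    refine hy0 (Subtype.ext (h y.1 y.2 fun x hx => ?_))
    rw [ω.swap, show ω.B x y = 0 from hy ⟨x, hx⟩, neg_zero]

/-- An invariant nondegenerate plane. -/
theorem hasPlane_of_sub (ω : Space F V) {g : Module.End F V} {W : Submodule F V}
    (hW : ∀ x ∈ W, g x ∈ W) (h : ∀ x ∈ W, (∀ y ∈ W, ω.B x y = 0) → x = 0) (h2 : Module.finrank F W = 2) :
    HasPlane ω g := by
  haveI := ω.findim
  have hne : W ≠ ⊥ := fun e => by rw [e, finrank_bot] at h2; omega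
  obtain ⟨v, hv, hv0⟩ := Submodule.exists_mem_ne_zero_of_ne_bot hne
  obtain ⟨w, hw, hvw⟩ : ∃ w ∈ W, ω.B v w ≠ 0 := by
    by_contra! hc
    exact hv0 (h v hv hc)
  have hind : LinearIndependent F ![v, w] := by
    refine LinearIndependent.pair_iff.mpr fun a b hab => ?_
    have ha := congrArg (fun z => ω.B z w) hab
    have hb := congrArg (fun z => ω.B v z) hab
    simp [ω.alt, hvw] at ha hb
    exact ⟨ha, hb⟩
  have hle : Submodule.span F {v, w} ≤ W := by
    rw [Submodule.span_le, Set.insert_subset_iff, Set.singleton_subset_iff]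
    exact ⟨hv, hw⟩
  have hfr : Module.finrank F (Submodule.span F {v, w}) = 2 := by
    have := finrank_span_eq_card hind
    rwa [Matrix.range_cons_cons_empty, Fintype.card_fin] at this
  have hsp : Submodule.span F {v, w} = W := Submodule.eq_of_le_of_finrank_eq hle (by rw [hfr, h2])
  exact hasPlane_of_ne hvw (hsp ▸ hW v hv) (hsp ▸ hW w hw)

theorem pow_six (ω : Space F V) {N : Module.End F V} (hN : IsNilpotent N) : N ^ 6 = 0 := by
  haveI := ω.findim
  obtain ⟨k, hk⟩ := hN
  refine LinearMap.ker_eq_top.mp (top_le_iff.mp ?_)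
  have h := Module.End.ker_pow_le_ker_pow_finrank N k
  rwa [hk, LinearMap.ker_zero, ω.dim] at h

/-- Splitting at an eigenvalue. -/
theorem plane_or_nilpotent (ω : Space F V) {g N : Module.End F V} (hN : ω.IsAdj N N) (hgN : Commute g N)
    {v : V} (hv : v ≠ 0) (hNv : N v = 0) : HasPlane ω g ∨ N ^ 6 = 0 := by
  haveI := ω.findim
  obtain ⟨M, hM⟩ : ∃ M, M = N ^ 6 := ⟨_, rfl⟩
  have hMa : ω.IsAdj M M := hM ▸ hN.pow 6
  have hMg : Commute g M := hM ▸ hgN.pow_right 6
  have hstab : ∀ x, M (M x) = 0 → M x = 0 := fun x hx => by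
    have h := Module.End.ker_pow_le_ker_pow_finrank N 12
    rw [ω.dim, ← hM] at h
    refine LinearMap.mem_ker.mp (h ?_)
    rw [LinearMap.mem_ker, show 12 = 6 + 6 from rfl, pow_add, ← hM, Module.End.mul_apply, hx]
  have hker_g : ∀ x ∈ LinearMap.ker M, g x ∈ LinearMap.ker M := fun x hx => by
    rw [LinearMap.mem_ker] at hx ⊢
    rw [← Module.End.mul_apply, ← hMg.eq, Module.End.mul_apply, hx, map_zero]
  have hran_g : ∀ x ∈ LinearMap.range M, g x ∈ LinearMap.range M := by
    rintro _ ⟨z, rfl⟩
    exact ⟨g z, by rw [← Module.End.mul_apply, ← hMg.eq, Module.End.mul_apply]⟩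
  have hsum := M.finrank_range_add_finrank_ker
  rw [ω.dim] at hsum
  have hdis : Disjoint (LinearMap.ker M) (LinearMap.range M) := by
    rw [Submodule.disjoint_def]
    rintro _ hx ⟨z, rfl⟩
    exact hstab z hx
  have htop : LinearMap.ker M ⊔ LinearMap.range M = ⊤ := by
    refine Submodule.eq_top_of_finrank_eq ?_
    have := Submodule.finrank_sup_add_finrank_inf_eq (LinearMap.ker M) (LinearMap.range M)
    rw [hdis.eq_bot, finrank_bot] at this
    rw [ω.dim]
    omega
  have horth : ∀ x ∈ LinearMap.ker M, ∀ y ∈ LinearMap.range M, ω.B x y = 0 := by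
    rintro x hx _ ⟨z, rfl⟩
    rw [← hMa, LinearMap.mem_ker.mp hx, map_zero, LinearMap.zero_apply]
  have hndk : ∀ x ∈ LinearMap.ker M, (∀ y ∈ LinearMap.ker M, ω.B x y = 0) → x = 0 := fun x hx h => ω.nd x fun y => by
    obtain ⟨a, ha, b, hb, rfl⟩ := Submodule.mem_sup.mp (htop ▸ trivial : y ∈ LinearMap.ker M ⊔ LinearMap.range M)
    rw [map_add, h a ha, horth x hx b hb, add_zero]
  have hndr : ∀ x ∈ LinearMap.range M, (∀ y ∈ LinearMap.range M, ω.B x y = 0) → x = 0 := fun x hx h => ω.nd x fun y => by
    obtain ⟨a, ha, b, hb, rfl⟩ := Submodule.mem_sup.mp (htop ▸ trivial : y ∈ LinearMap.ker M ⊔ LinearMap.range M)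
    rw [map_add, h b hb, add_zero, ω.swap, horth a ha x hx, neg_zero]
  have hk0 : Module.finrank F (LinearMap.ker M) ≠ 0 := fun h => hv (by
    have : v ∈ LinearMap.ker M := by
      rw [LinearMap.mem_ker, hM, pow_succ, Module.End.mul_apply, hNv, map_zero]
    rwa [Submodule.finrank_eq_zero.mp h, Submodule.mem_bot] at this)
  obtain ⟨k1, k3⟩ := nondeg_dim ω hndk
  obtain ⟨r1, r3⟩ := nondeg_dim ω hndr
  by_cases h6 : Module.finrank F (LinearMap.ker M) = 6
  · right
    rw [← hM]
    exact LinearMap.range_eq_bot.mp (Submodule.finrank_eq_zero.mp (by omega))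
  · left
    by_cases h2 : Module.finrank F (LinearMap.ker M) = 2
    · exact hasPlane_of_sub ω hker_g hndk h2
    · exact hasPlane_of_sub ω hran_g hndr (by omega)

/-- Unipotent isometries. -/
theorem unip_good (ω : Space F V) {g gi : Module.End F V} (hgi : gi * g = 1) (hgi' : g * gi = 1)
    (ha : ω.IsAdj g gi) (hn : IsNilpotent (g - 1)) (e : F) : HasPlane ω g ∨ HasRoot ω e g := by
  classical
  haveI := ω.findim
  obtain ⟨n, hnd⟩ : ∃ n, n = g - 1 := ⟨_, rfl⟩
  have h6 : n ^ 6 = 0 := pow_six ω (hnd ▸ hn)
  have hg : g = n + 1 := by rw [hnd]; abel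
  have hgv : ∀ x, g x = n x + x := fun x => by rw [hg]; rfl
  have hgi1 : ∀ x, gi x = x - gi (n x) := fun x => by
    have h := LinearMap.congr_fun hgi x
    rw [Module.End.mul_apply, Module.End.one_apply, hgv, map_add] at h
    rw [eq_sub_iff_add_eq, add_comm, h]
  -- adjoint of `n`
  have hna : ∀ x y, ω.B (n x) y = ω.B x (gi y - y) := fun x y => by
    rw [hnd, LinearMap.sub_apply, map_sub, LinearMap.sub_apply, map_sub, ha, Module.End.one_apply]
  by_cases h3 : n ^ 3 = 0
  · by_cases h2 : n ^ 2 = 0
    · left
      by_cases h1 : n = 0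
      · obtain ⟨v, w, hvw⟩ := exists_hyp ω
        refine ⟨v, w, hvw, ?_, ?_⟩ <;>
          rw [hgv, h1, LinearMap.zero_apply, zero_add]
        · exact Submodule.subset_span (Set.mem_insert _ _)
        · exact Submodule.subset_span (Set.mem_insert_of_mem _ rfl)
      · have hnn : ∀ x, n (n x) = 0 := fun x => by
          rw [← Module.End.mul_apply, ← pow_two, h2, LinearMap.zero_apply]
        obtain ⟨v, hv⟩ : ∃ v, ω.B v (n v) ≠ 0 := by
          by_contra! hc
          refine h1 (LinearMap.ext fun y => ω.nd' _ fun x => ?_)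
          have hadd := hc (x + y)
          simp only [map_add, LinearMap.add_apply, hc, zero_add, add_zero] at hadd
          have e1 : ω.B (n x) y = -ω.B x (n y) := by
            rw [hna, hgi1 y, sub_sub_cancel_left, map_neg]
            congr 1
            rw [hgi1 (n y), hnn, map_zero, sub_zero]
          rw [ω.swap (n x) y, e1, neg_neg] at hadd
          exact (mul_eq_zero.mp (show (2 : F) * ω.B x (n y) = 0 by linear_combination hadd)).resolve_left two_ne
        refine hasPlane_of_vec (v := v) (a := -1) (b := 2) (by rwa [hgv, map_add, ω.alt, add_zero]) ?_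
        rw [hgv (g v), hgv v, map_add, hnn, zero_add]
        module
    · exact Or.inr (root_blocks ω hgi hgi' ha (hnd ▸ h3) (hnd ▸ h2) e)
  · by_cases h5 : n ^ 5 = 0
    · left
      by_contra hpl
      refine h3 ?_
      -- the kernel lies in the image
      have hnk : ∀ x, n x = 0 → gi x = x := fun x hx => by rw [hgi1, hx, map_zero, sub_zero]
      have hperp : ∀ x, n x = 0 → x ∈ LinearMap.range n := by
        intro x hx
        have hle : LinearMap.range n ≤ ω.B.orthogonal (LinearMap.ker n) := by
          rintro _ ⟨z, rfl⟩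
          refine LinearMap.BilinForm.mem_orthogonal_iff.mpr fun y hy => ?_
          show ω.B y (n z) = 0
          rw [ω.swap, hna, hnk y (LinearMap.mem_ker.mp hy), sub_self, map_zero, neg_zero]
        have heq : LinearMap.range n = ω.B.orthogonal (LinearMap.ker n) := by
          refine Submodule.eq_of_le_of_finrank_eq hle ?_
          have := n.finrank_range_add_finrank_ker
          rw [LinearMap.BilinForm.finrank_orthogonal ω.nondeg, ω.dim]
          rw [ω.dim] at this
          omega
        rw [heq, LinearMap.BilinForm.mem_orthogonal_iff]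
        intro y hy
        show ω.B y x = 0
        by_contra hyx
        refine hpl (hasPlane_of_ne hyx ?_ ?_) <;> rw [hgv]
        · rw [LinearMap.mem_ker.mp hy, zero_add]
          exact Submodule.subset_span (Set.mem_insert _ _)
        · rw [hx, zero_add]
          exact Submodule.subset_span (Set.mem_insert_of_mem _ rfl)
      have hb : ∀ x, n (n x) = 0 → ω.B x (n x) = 0 := fun x hx => by
        by_contra hne
        refine hpl (hasPlane_of_vec (v := x) (a := -1) (b := 2) (by rwa [hgv, map_add, ω.alt, add_zero]) ?_)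
        rw [hgv (g x), hgv x, map_add, hx, zero_add]
        module
      have hTI : ∀ x y, n (n x) = 0 → n (n y) = 0 → ω.B x (n y) = 0 := by
        intro x y hx hy
        have hadd := hb (x + y) (by rw [map_add, map_add, hx, hy, add_zero])
        simp only [map_add, LinearMap.add_apply, hb x hx, hb y hy, zero_add, add_zero] at hadd
        have e1 : ω.B (n x) y = -ω.B x (n y) := by
          rw [hna, hgi1 y, sub_sub_cancel_left, map_neg, hnk _ hy]
        rw [ω.swap (n x) y, e1, neg_neg] at hadd
        exact (mul_eq_zero.mp (show (2 : F) * ω.B x (n y) = 0 by linear_combination hadd)).resolve_left two_ne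
      have hk2 : ∀ x, n x = 0 → ∃ z, n (n z) = x := by
        intro x hx
        obtain ⟨y, rfl⟩ := hperp x hx
        have hle : LinearMap.range (n * n) ≤ ω.B.orthogonal (LinearMap.ker (n * n)) := by
          rintro _ ⟨z, rfl⟩
          refine LinearMap.BilinForm.mem_orthogonal_iff.mpr fun y hy => ?_
          show ω.B y ((n * n) z) = 0
          have hy' : n (n y) = 0 := hy
          have e1 : gi y - y = -gi (n y) := by rw [hgi1 y]; abel
          rw [ω.swap, Module.End.mul_apply, hna, e1, hnk _ hy', map_neg, hna, hnk _ hy', sub_self, map_zero,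
            neg_zero, neg_zero]
        have heq : LinearMap.range (n * n) = ω.B.orthogonal (LinearMap.ker (n * n)) := by
          refine Submodule.eq_of_le_of_finrank_eq hle ?_
          have := (n * n).finrank_range_add_finrank_ker
          rw [LinearMap.BilinForm.finrank_orthogonal ω.nondeg, ω.dim]
          rw [ω.dim] at this
          omega
        have hmem : n y ∈ LinearMap.range (n * n) := by
          rw [heq, LinearMap.BilinForm.mem_orthogonal_iff]
          exact fun x' hx' => hTI x' y hx' hx
        exact hmem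
      have hsurj : ∀ j : ℕ, j ≤ 1 → ∀ x, (n ^ (j + 1)) x = 0 → ∃ z, (n ^ (j + 2)) z = 0 ∧ n z = x := by
        intro j hj x hx
        have key : ∀ x, n x = 0 → ∃ z, n z = x := fun x hx => hperp x hx
        interval_cases j
        · rw [pow_one] at hx
          obtain ⟨z, hz⟩ := key x hx
          exact ⟨z, by rw [pow_two, Module.End.mul_apply, hz, hx], hz⟩
        · rw [pow_two, Module.End.mul_apply] at hx
          obtain ⟨z, hz⟩ := hk2 (n x) hx
          obtain ⟨w, hw⟩ := key (x - n z) (by rw [map_sub, hz, sub_self])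
          refine ⟨w + z, ?_, by rw [map_add, hw, sub_add_cancel]⟩
          rw [show 1 + 2 = 2 + 1 from rfl, pow_succ, Module.End.mul_apply, map_add n, hw, sub_add_cancel, pow_two,
            Module.End.mul_apply, hx]
      have hstep : ∀ j : ℕ, j ≤ 1 → Module.finrank F (LinearMap.ker (n ^ (j + 2))) =
          Module.finrank F (LinearMap.ker (n ^ (j + 1))) + Module.finrank F (LinearMap.ker n) := by
        intro j hj
        let f : LinearMap.ker (n ^ (j + 2)) →ₗ[F] LinearMap.ker (n ^ (j + 1)) :=
          n.restrict fun x hx => by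
            rw [LinearMap.mem_ker] at hx ⊢
            rw [← Module.End.mul_apply, ← pow_succ]
            exact hx
        have hf : LinearMap.range f = ⊤ := LinearMap.range_eq_top.mpr fun x => by
          obtain ⟨z, hz, hzx⟩ := hsurj j hj x.1 x.2
          exact ⟨⟨z, hz⟩, Subtype.ext hzx⟩
        have hkf : Module.finrank F (LinearMap.ker f) = Module.finrank F (LinearMap.ker n) := by
          refine LinearEquiv.finrank_eq (LinearEquiv.ofBijective (LinearMap.restrict ((LinearMap.ker (n ^ (j + 2))).subtype)
            (fun x (hx : x ∈ LinearMap.ker f) => LinearMap.mem_ker.mpr (congrArg Subtype.val (LinearMap.mem_ker.mp hx)))) ⟨?_, ?_⟩)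
          · exact fun a b h => Subtype.ext (Subtype.ext (congrArg Subtype.val h :))
          · intro x
            have hx : (n ^ (j + 2)) x.1 = 0 := by
              rw [pow_succ, Module.End.mul_apply, LinearMap.mem_ker.mp x.2, map_zero]
            exact ⟨⟨⟨x.1, hx⟩, Subtype.ext (LinearMap.mem_ker.mp x.2)⟩, rfl⟩
        have := f.finrank_range_add_finrank_ker
        rw [hf, finrank_top, hkf] at this
        exact this.symm
      have s2 : Module.finrank F (LinearMap.ker (n ^ 2)) =
          Module.finrank F (LinearMap.ker (n ^ 1)) + Module.finrank F (LinearMap.ker n) := hstep 0 (by norm_num)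
      have s3 : Module.finrank F (LinearMap.ker (n ^ 3)) =
          Module.finrank F (LinearMap.ker (n ^ 2)) + Module.finrank F (LinearMap.ker n) := hstep 1 le_rfl
      rw [pow_one] at s2
      have hsub : ∀ a b : ℕ, Module.finrank F (LinearMap.ker (n ^ (a + b))) ≤
          Module.finrank F (LinearMap.ker (n ^ a)) + Module.finrank F (LinearMap.ker (n ^ b)) := by
        intro a b
        let f : LinearMap.ker (n ^ (a + b)) →ₗ[F] LinearMap.ker (n ^ a) :=
          (n ^ b).restrict fun x hx => by
            rw [LinearMap.mem_ker] at hx ⊢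
            rw [← Module.End.mul_apply, ← pow_add]
            exact hx
        have hr := f.finrank_range_add_finrank_ker
        have hk : Module.finrank F (LinearMap.ker f) ≤ Module.finrank F (LinearMap.ker (n ^ b)) :=
          LinearMap.finrank_le_finrank_of_injective (f := LinearMap.restrict ((LinearMap.ker (n ^ (a + b))).subtype)
            (fun x (hx : x ∈ LinearMap.ker f) => LinearMap.mem_ker.mpr (congrArg Subtype.val (LinearMap.mem_ker.mp hx))))
            fun x y h => Subtype.ext (Subtype.ext (congrArg Subtype.val h :))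
        have := Submodule.finrank_le (LinearMap.range f)
        omega
      have h5' : Module.finrank F (LinearMap.ker (n ^ 5)) = 6 := by
        rw [h5, LinearMap.ker_zero, finrank_top, ω.dim]
      have a2 : Module.finrank F (LinearMap.ker (n ^ 5)) ≤
          Module.finrank F (LinearMap.ker (n ^ 3)) + Module.finrank F (LinearMap.ker (n ^ 2)) := hsub 3 2
      have hle := Submodule.finrank_le (LinearMap.ker (n ^ 3))
      rw [ω.dim] at hle
      refine LinearMap.ker_eq_top.mp (Submodule.eq_top_of_finrank_eq ?_)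
      rw [ω.dim]
      omega
    · right
      obtain ⟨v, hv⟩ : ∃ v, (n ^ 5) v ≠ 0 := by
        by_contra! h
        exact h5 (LinearMap.ext h)
      have hQn : n ^ 2 = g * g - (2 : F) • g + 1 := by
        rw [hg, pow_two, two_smul]
        noncomm_ring
      refine root_cyclic ω hgi hgi' ha 2 hQn (by rw [← pow_mul]; exact h6) (v := v) (fun a b hab => ?_) e
      rw [← pow_mul, show 2 * 2 = 4 from rfl, hgv, ← Module.End.mul_apply n, ← pow_succ'] at hab
      have hab' := congrArg (fun z => n z) hab
      simp only [map_add, map_smul, map_zero] at hab'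
      rw [← Module.End.mul_apply n (n ^ (4 + 1)), ← pow_succ', h6, LinearMap.zero_apply,
        ← Module.End.mul_apply n (n ^ 4), ← pow_succ', zero_add, ← add_smul] at hab'
      have e0 : a + b = 0 := (smul_eq_zero.mp hab').resolve_right hv
      have hb : b • (n ^ 5) v = 0 := by
        rw [← hab, show 4 + 1 = 5 from rfl, show a = -b by linear_combination e0]
        module
      have b0 := (smul_eq_zero.mp hb).resolve_right hv
      exact ⟨by linear_combination e0 - b0, b0⟩

/-- Isometries with an eigenvalue of `g + g⁻¹`. -/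
theorem eigen_good (ω : Space F V) {g gi : Module.End F V} (hgi : gi * g = 1) (hgi' : g * gi = 1)
    (ha : ω.IsAdj g gi) {v0 : V} (hv0 : v0 ≠ 0) {c : F} (hv : (g + gi) v0 = c • v0) (e : F) :
    HasPlane ω g ∨ HasRoot ω e g := by
  classical
  haveI := ω.findim
  obtain ⟨N, hN⟩ : ∃ N, N = g + gi - algebraMap F (Module.End F V) c := ⟨_, rfl⟩
  have hcg : Commute g gi := hgi'.trans hgi.symm
  have hNa : ω.IsAdj N N := by
    have h := (ha.add ha.symm).sub (Space.isAdj_scalar c)
    rw [← hN] at h
    exact h.trans_eq (by rw [hN, add_comm gi g])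
  have hgN : Commute g N := hN ▸ ((Commute.refl g).add_right hcg).sub_right (Algebra.commute_algebraMap_right c g)
  have hgiN : Commute gi N := hN ▸ (hcg.symm.add_right (Commute.refl gi)).sub_right (Algebra.commute_algebraMap_right c gi)
  rcases plane_or_nilpotent ω hNa hgN hv0 (by rw [hN, LinearMap.sub_apply, hv, Module.algebraMap_end_apply, sub_self])
    with h | h6
  · exact Or.inl h
  have hgN' : g * N = g * g - c • g + 1 := by
    rw [hN, mul_sub, mul_add, hgi', ← Algebra.commutes, ← Algebra.smul_def]
    abel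
  by_cases hc4 : c ^ 2 = 4
  · -- `± g` is unipotent
    obtain ⟨ε, hε⟩ : ∃ ε : F, ε = -c := ⟨_, rfl⟩
    have hεε : ε * ε = 1 := by rw [hε]; linear_combination hc4 + three_zero (F := F)
    have hnil : IsNilpotent (ε • g - 1) := by
      refine ⟨2 * 6, ?_⟩
      rw [pow_mul]
      have e1 : (ε • g - 1) ^ 2 = g * N := by
        rw [hgN', pow_two, sub_mul, mul_sub, smul_mul_smul_comm, hεε, one_smul, one_mul, mul_one]
        have : ε • g + ε • g = c • g := by
          rw [← add_smul, hε, show -c + -c = c by linear_combination (-c) * three_zero (F := F)]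
        rw [← this]
        abel
      rw [e1, hgN.mul_pow, h6, mul_zero]
    have key := unip_good ω (g := ε • g) (gi := ε • gi) (by rw [smul_mul_smul_comm, hεε, one_smul, hgi])
      (by rw [smul_mul_smul_comm, hεε, one_smul, hgi']) (by
        have := (ha.smul ε)
        exact this) hnil e
    have hback : g = ε • (ε • g) := by rw [smul_smul, hεε, one_smul]
    rw [hback]
    exact key.imp (fun h => h.smul ε) (fun h => h.smul ε)
  by_cases h2 : N ^ 2 = 0
  · left
    by_contra hpl
    have hNN : ∀ x, N (N x) = 0 := fun x => by rw [← Module.End.mul_apply, ← pow_two, h2, LinearMap.zero_apply]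
    have hgNc : ∀ x, N (g x) = g (N x) := fun x => LinearMap.congr_fun hgN.eq.symm x
    have hrel : ∀ x, N x = 0 → g (g x) = (-1 : F) • x + c • g x := by
      intro x hx
      have h := LinearMap.congr_fun hgN' x
      simp only [Module.End.mul_apply, hx, map_zero, LinearMap.add_apply, LinearMap.sub_apply, LinearMap.smul_apply,
        Module.End.one_apply] at h
      rw [← sub_eq_zero, h]
      module
    have hq : ∀ x, N x = 0 → ω.B x (g x) = 0 := fun x hx => by
      by_contra hne
      exact hpl (hasPlane_of_vec hne (hrel x hx))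
    have hTI : ∀ x y, N x = 0 → N y = 0 → ω.B x y = 0 := by
      intro x y hx hy
      obtain ⟨d, hd⟩ : ∃ d : Module.End F V, d = g - gi := ⟨_, rfl⟩
      have hpol : ∀ z, N z = 0 → ω.B x (d z) = 0 := by
        intro z hz
        have h := hq (x + z) (by rw [map_add, hx, hz, add_zero])
        simp only [map_add, LinearMap.add_apply, hq x hx, hq z hz, zero_add, add_zero] at h
        rw [ω.swap (g x) z, ha] at h
        rw [hd, LinearMap.sub_apply, map_sub]
        linear_combination h
      have hNd : ∀ z, N z = 0 → N (d z) = 0 := fun z hz => by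
        rw [hd, LinearMap.sub_apply, map_sub, hgNc, hz, map_zero, zero_sub, neg_eq_zero]
        rw [← Module.End.mul_apply, ← hgiN.eq, Module.End.mul_apply, hz, map_zero]
      have hdd : d (d y) = (c ^ 2 - 4) • y := by
        have hs : (g + gi) y = c • y := by
          have h := hy
          rw [hN, LinearMap.sub_apply, Module.algebraMap_end_apply, sub_eq_zero] at h
          exact h
        have hgy' : gi y = c • y - g y := by rw [← hs, LinearMap.add_apply]; abel
        have e1 : d y = (2 : F) • g y - c • y := by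
          rw [hd, LinearMap.sub_apply, hgy']
          module
        rw [e1, map_sub, map_smul, map_smul, e1, hd, LinearMap.sub_apply, ← Module.End.mul_apply gi g, hgi,
          Module.End.one_apply, hrel y hy]
        module
      have := hpol (d y) (hNd y hy)
      rw [hdd, map_smul, smul_eq_mul] at this
      exact (mul_eq_zero.mp this).resolve_left (sub_ne_zero.mpr hc4)
    obtain ⟨K, hK⟩ : ∃ K : Submodule F V, K = LinearMap.ker N := ⟨_, rfl⟩
    have hKle : Module.finrank F K ≤ 3 := by
      have hle : K ≤ ω.B.orthogonal K := fun x hx => LinearMap.BilinForm.mem_orthogonal_iff.mpr fun y hy =>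
        hTI y x (by rw [hK] at hy; exact hy) (by rw [hK] at hx; exact hx)
      have := Submodule.finrank_mono hle
      rw [LinearMap.BilinForm.finrank_orthogonal ω.nondeg, ω.dim] at this
      omega
    have hrk : Module.finrank F (LinearMap.range N) ≤ Module.finrank F K := Submodule.finrank_mono (by
      rintro _ ⟨z, rfl⟩
      rw [hK]
      exact LinearMap.mem_ker.mpr (hNN z))
    have hsum := N.finrank_range_add_finrank_ker
    rw [ω.dim, ← hK] at hsum
    obtain ⟨W, hW⟩ := Submodule.exists_isCompl K
    have hWdim : Module.finrank F W = 3 := by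
      have := Submodule.finrank_add_eq_of_isCompl hW
      rw [ω.dim] at this
      omega
    obtain ⟨y, hy0, hy⟩ := exists_null hWdim (ω.B.comp W.subtype (N ∘ₗ W.subtype)) fun x => by
      show ω.B x.1 (N x.1) = 0
      have h1 := hNa x.1 x.1
      rw [ω.swap] at h1
      exact (mul_eq_zero.mp (show (2 : F) * ω.B x.1 (N x.1) = 0 by linear_combination -h1)).resolve_left two_ne
    have hNy : N y.1 = 0 := ω.nd' _ fun x => by
      obtain ⟨a, ha', b, hb, rfl⟩ := Submodule.mem_sup.mp (hW.sup_eq_top ▸ trivial : x ∈ K ⊔ W)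
      rw [map_add, LinearMap.add_apply, show ω.B b (N y.1) = 0 from hy ⟨b, hb⟩, add_zero, ← hNa,
        show N a = 0 by rw [hK] at ha'; exact ha', map_zero, LinearMap.zero_apply]
    have : y.1 ∈ K ⊓ W := ⟨by rw [hK]; exact hNy, y.2⟩
    rw [hW.inf_eq_bot, Submodule.mem_bot] at this
    exact hy0 (Subtype.ext this)
  right
  have hindep : ∀ j, 1 ≤ j → N ^ j ≠ 0 → ∃ v, ∀ a b : F, a • (N ^ j) v + b • g ((N ^ j) v) = 0 → a = 0 ∧ b = 0 := by
    intro j hj hj0
    obtain ⟨M, hM⟩ : ∃ M, M = N ^ j := ⟨_, rfl⟩
    rw [← hM] at hj0 ⊢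
    have hMa : ω.IsAdj M M := hM ▸ hNa.pow j
    have hMg : Commute g M := hM ▸ hgN.pow_right j
    have hnot : ∀ r : F, ∃ z, g (M z) ≠ r • M z := by
      intro r
      by_contra! hall
      have hgM : g * M = r • M := LinearMap.ext hall
      have hr : r ≠ 0 := fun h => hj0 (by
        rw [← one_mul M, ← hgi, mul_assoc, hgM, h, zero_smul, mul_zero])
      have hgiM : gi * M = r • M := by
        have h0 : ω.IsAdj (g * M) (r • M) := fun u w => by rw [hgM]; exact hMa.smul r u w
        have h' := (ha.mul hMa).unique h0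
        rw [← h']
        show gi * M = M * gi
        calc gi * M = gi * (M * g) * gi := by rw [mul_assoc, mul_assoc M g gi, hgi', mul_one]
          _ = M * gi := by rw [← hMg.eq, ← mul_assoc, hgi, one_mul]
      have hNM : N * M = (r + r - c) • M := by
        rw [hN, sub_mul, add_mul, hgM, hgiM, ← Algebra.smul_def, sub_smul, add_smul]
      have hpow : ∀ k, N ^ k * M = (r + r - c) ^ k • M := by
        intro k
        induction k with
        | zero => rw [pow_zero, pow_zero, one_mul, one_smul]
        | succ k ih => rw [pow_succ', mul_assoc, ih, mul_smul_comm, hNM, smul_smul, ← pow_succ]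
      have hz := hpow 6
      rw [h6, zero_mul] at hz
      have hrc : r + r - c = 0 := (pow_eq_zero_iff (by norm_num)).mp ((smul_eq_zero.mp hz.symm).resolve_right hj0)
      have hrr : r * r = 1 := by
        have h1 : gi * (g * M) = M := by rw [← mul_assoc, hgi, one_mul]
        rw [hgM, mul_smul_comm, hgiM, smul_smul] at h1
        have h2 : (r * r - 1) • M = 0 := by rw [sub_smul, h1, one_smul, sub_self]
        exact sub_eq_zero.mp ((smul_eq_zero.mp h2).resolve_right hj0)
      exact hc4 (by linear_combination (-(r + r) - c) * hrc + 4 * hrr)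
    have hgood : ∀ z, M z ≠ 0 → (∀ r : F, g (M z) ≠ r • M z) → ∀ a b : F, a • M z + b • g (M z) = 0 → a = 0 ∧ b = 0 := by
      intro z hz hne a b hab
      by_cases hb : b = 0
      · subst hb
        rw [zero_smul, add_zero] at hab
        exact ⟨(smul_eq_zero.mp hab).resolve_right hz, rfl⟩
      · refine absurd ?_ (hne (-a / b))
        rw [← sub_eq_zero]
        have h := congrArg (fun u => b⁻¹ • u) hab
        simp only [smul_add, smul_smul, smul_zero, inv_mul_cancel₀ hb, one_smul] at h
        rw [← h, div_eq_inv_mul]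
        module
    obtain ⟨v, hv⟩ : ∃ v, M v ≠ 0 := by
      by_contra! h
      exact hj0 (LinearMap.ext h)
    by_cases hvb : ∀ r : F, g (M v) ≠ r • M v
    · exact ⟨v, hgood v hv hvb⟩
    push Not at hvb
    obtain ⟨r, hr⟩ := hvb
    obtain ⟨w, hw⟩ := hnot r
    have hw0 : M w ≠ 0 := fun h => hw (by rw [h, map_zero, smul_zero])
    by_cases hwb : ∀ r : F, g (M w) ≠ r • M w
    · exact ⟨w, hgood w hw0 hwb⟩
    push Not at hwb
    obtain ⟨r', hr'⟩ := hwb
    have hne : r ≠ r' := fun h => hw (h ▸ hr')
    have hsum : ∀ r'' : F, g (M (v + w)) ≠ r'' • M (v + w) := by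
      intro r'' h
      rw [map_add, map_add, hr, hr', smul_add] at h
      have h1 : (r - r'') • M v + (r' - r'') • M w = 0 := by
        rw [sub_smul, sub_smul, ← sub_eq_zero.mpr h]; abel
      have h2 := congrArg (fun u => g u) h1
      simp only [map_add, map_smul, hr, hr', map_zero] at h2
      have h3 : ((r - r') * (r - r'')) • M v = 0 := by
        calc ((r - r') * (r - r'')) • M v = ((r - r'') • r • M v + (r' - r'') • r' • M w) -
              r' • ((r - r'') • M v + (r' - r'') • M w) := by module
          _ = 0 := by rw [h1, h2, smul_zero, sub_zero]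
      have e1 := (mul_eq_zero.mp ((smul_eq_zero.mp h3).resolve_right hv)).resolve_left (sub_ne_zero.mpr hne)
      rw [e1, zero_smul, zero_add] at h1
      exact hne ((sub_eq_zero.mp e1).trans (sub_eq_zero.mp ((smul_eq_zero.mp h1).resolve_right hw0)).symm)
    refine ⟨v + w, hgood (v + w) (fun h => hsum 0 (by rw [h, map_zero, smul_zero])) hsum⟩
  have hdown : ∀ j, 3 ≤ j → N ^ (j + 1) = 0 → N ^ j = 0 := by
    intro j hj hj1
    by_contra hj0
    obtain ⟨v, hv⟩ := hindep j (by omega) hj0
    obtain ⟨v', hv'⟩ : ∃ v', v' = (N ^ (j - 3)) v := ⟨_, rfl⟩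
    have e3 : (N ^ 3) v' = (N ^ j) v := by
      rw [hv', ← Module.End.mul_apply, ← pow_add, Nat.add_sub_cancel' hj]
    have e4 : (N ^ (3 + 1)) v' = 0 := by
      rw [hv', ← Module.End.mul_apply, ← pow_add, show 3 + 1 + (j - 3) = j + 1 by omega, hj1, LinearMap.zero_apply]
    obtain ⟨Φ, hΦ⟩ : ∃ Φ : ((Fin 4 → F) × (Fin 4 → F)) →ₗ[F] V, ∀ z,
        Φ z = ∑ i : Fin 4, (z.1 i • (N ^ (i : ℕ)) v' + z.2 i • g ((N ^ (i : ℕ)) v')) := ⟨
      { toFun := fun z => ∑ i : Fin 4, (z.1 i • (N ^ (i : ℕ)) v' + z.2 i • g ((N ^ (i : ℕ)) v'))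
        map_add' := fun z z' => by
          rw [← Finset.sum_add_distrib]
          exact Finset.sum_congr rfl fun i _ => by simp only [Prod.fst_add, Prod.snd_add, Pi.add_apply, add_smul]; abel
        map_smul' := fun r z => by
          rw [RingHom.id_apply, Finset.smul_sum]
          exact Finset.sum_congr rfl fun i _ => by
            simp only [Prod.smul_fst, Prod.smul_snd, Pi.smul_apply, smul_eq_mul, smul_add, smul_smul] }, fun z => rfl⟩
    have hinj : Function.Injective Φ := by
      rw [← LinearMap.ker_eq_bot, Submodule.eq_bot_iff]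
      intro z hz
      rw [LinearMap.mem_ker, hΦ] at hz
      obtain ⟨a, b⟩ := z
      have h := chain_indep hgN.symm 3 (by rw [e3]; exact hv) e4
        (fun i => if h : i < 4 then a ⟨i, h⟩ else 0) (fun i => if h : i < 4 then b ⟨i, h⟩ else 0) (by
          rw [Finset.sum_range]
          refine Eq.trans (Finset.sum_congr rfl fun i _ => ?_) hz
          simp)
      refine Prod.ext (funext fun i => ?_) (funext fun i => ?_)
      · simpa using (h i.1 (by omega)).1
      · simpa using (h i.1 (by omega)).2
    have := LinearMap.finrank_le_finrank_of_injective hinj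
    rw [Module.finrank_prod, Module.finrank_fin_fun, ω.dim] at this
    omega
  have hN3 : N ^ 3 = 0 := hdown 3 le_rfl (hdown 4 (by norm_num) (hdown 5 (by norm_num) h6))
  obtain ⟨v, hv⟩ := hindep 2 (by norm_num) h2
  refine root_cyclic ω hgi hgi' ha c (Q := g * N) hgN' (by rw [hgN.mul_pow, hN3, mul_zero]) (v := v) (fun a b hab => ?_) e
  rw [hgN.mul_pow, Module.End.mul_apply] at hab
  refine hv a b ?_
  have h := congrArg (fun z => (gi ^ 2) z) hab
  simp only [map_add, map_smul, map_zero] at h
  have e1 : ∀ z, (gi ^ 2) ((g ^ 2) z) = z := fun z => by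
    rw [← Module.End.mul_apply, ← hcg.symm.mul_pow, hgi, one_pow, Module.End.one_apply]
  rw [e1, show g ((g ^ 2) ((N ^ 2) v)) = (g ^ 2) (g ((N ^ 2) v)) from
    LinearMap.congr_fun ((Commute.self_pow g 2).eq) _, e1] at h
  exact h

/-- Isometries without eigenvalue of `g + g⁻¹`. -/
theorem noeigen_good (ω : Space F V) {g gi : Module.End F V} (hgi : gi * g = 1) (hgi' : g * gi = 1)
    (ha : ω.IsAdj g gi) (hno : ∀ (v : V) (c : F), (g + gi) v = c • v → v = 0) {e : F}
    (hirr : Irreducible (asCubic e)) : HasRoot ω e g := by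
  classical
  haveI := ω.findim
  obtain ⟨s, hs⟩ : ∃ s, s = g + gi := ⟨_, rfl⟩
  rw [← hs] at hno
  have hsa : ω.IsAdj s s := by
    have h := ha.add ha.symm
    rw [← hs] at h
    exact h.trans_eq (by rw [hs, add_comm gi g])
  obtain ⟨f, hf⟩ : ∃ f, f = minpoly F s := ⟨_, rfl⟩
  have hint : IsIntegral F s := Algebra.IsIntegral.isIntegral s
  have hfm : f.Monic := hf ▸ minpoly.monic hint
  have hfs : aeval s f = 0 := hf ▸ minpoly.aeval F s
  have hroot : ∀ x, ¬ f.IsRoot x := fun x hx => by
    obtain ⟨v, hv⟩ := (Module.End.hasEigenvalue_of_isRoot (hf ▸ hx)).exists_hasEigenvector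
    exact hv.2 (hno v x hv.apply_eq_smul)
  have hdeg : f.natDegree ≤ 6 := by
    have h := natDegree_le_of_dvd (LinearMap.minpoly_dvd_charpoly s) (LinearMap.charpoly_monic s).ne_zero
    rwa [← hf, LinearMap.charpoly_natDegree, ω.dim] at h
  have hker : ∀ h q : F[X], f = h * q → h.Monic → 1 ≤ h.natDegree → ∃ v, v ≠ 0 ∧ aeval s h v = 0 := by
    intro h q hq hm hd
    by_contra! hne
    have hq0 : aeval s q = 0 := LinearMap.ext fun z => by
      by_contra hz
      refine hne _ hz ?_
      rw [← Module.End.mul_apply, ← map_mul, ← hq, hfs, LinearMap.zero_apply]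
    have hq' : q ≠ 0 := fun h0 => hfm.ne_zero (by rw [hq, h0, mul_zero])
    have hle := natDegree_le_of_dvd (hf ▸ minpoly.dvd F s hq0) hq'
    rw [hq, natDegree_mul hm.ne_zero hq'] at hle
    omega
  have hfac : ∀ h q : F[X], f = h * q → h.Monic → Irreducible h → h.natDegree = 3 := by
    intro h q hq hm hi
    obtain ⟨v, hv0, hv⟩ := hker h q hq hm hi.natDegree_pos
    have hd1 : h.natDegree ≠ 1 := fun h1 => by
      have hr := hroot (-h.coeff 0)
      rw [hq, IsRoot, eval_mul, hm.eq_X_add_C h1] at hr
      simp at hr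
    obtain ⟨Φ, hΦ⟩ : ∃ Φ : (Fin h.natDegree → F) →ₗ[F] V, ∀ a, Φ a = ∑ i, a i • (s ^ (i : ℕ)) v := ⟨
      { toFun := fun a => ∑ i, a i • (s ^ (i : ℕ)) v
        map_add' := fun a b => by rw [← Finset.sum_add_distrib]; exact Finset.sum_congr rfl fun i _ => add_smul _ _ _
        map_smul' := fun r a => by
          rw [RingHom.id_apply, Finset.smul_sum]
          exact Finset.sum_congr rfl fun i _ => by rw [Pi.smul_apply, smul_eq_mul, smul_smul] }, fun a => rfl⟩
    have hinj : Function.Injective Φ := by
      rw [← LinearMap.ker_eq_bot, Submodule.eq_bot_iff]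
      intro a ha'
      rw [LinearMap.mem_ker, hΦ] at ha'
      obtain ⟨P, hP⟩ : ∃ P : F[X], P = ∑ i, C (a i) * X ^ (i : ℕ) := ⟨_, rfl⟩
      have hPv : aeval s P v = 0 := by
        rw [hP, map_sum, LinearMap.sum_apply, ← ha']
        refine Finset.sum_congr rfl fun i _ => ?_
        rw [map_mul, map_pow, aeval_X, aeval_C, ← Algebra.smul_def, LinearMap.smul_apply]
      have hP0 : P = 0 := by
        by_contra hne
        have hdvd : ¬ h ∣ P := fun hd => by
          have := natDegree_le_of_dvd hd hne
          have hlt : P.natDegree < h.natDegree := by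
            rw [natDegree_lt_iff_degree_lt hne, hP]
            exact degree_sum_fin_lt _
          omega
        obtain ⟨x, y, hxy⟩ := (hi.coprime_iff_not_dvd).mpr hdvd
        refine hv0 ?_
        have h1 := congrArg (fun p => aeval s p v) hxy
        simp only [map_add, map_mul, map_one, LinearMap.add_apply, Module.End.mul_apply, hv, hPv, map_zero,
          add_zero, Module.End.one_apply] at h1
        exact h1.symm
      funext i
      have := congrArg (fun p => coeff p (i : ℕ)) hP0
      simpa [hP, finset_sum_coeff, coeff_C_mul, coeff_X_pow, Fin.val_inj] using this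
    have hpow : ∀ i j : ℕ, ω.B ((s ^ i) v) ((s ^ j) v) = 0 := by
      intro i j
      rw [(hsa.pow i) v, ← Module.End.mul_apply, ← pow_add]
      have h1 := (hsa.pow (i + j)) v v
      rw [ω.swap] at h1
      exact (mul_eq_zero.mp (show (2 : F) * ω.B v ((s ^ (i + j)) v) = 0 by linear_combination -h1)).resolve_left two_ne
    obtain ⟨U, hU⟩ : ∃ U, U = LinearMap.range Φ := ⟨_, rfl⟩
    have hUd : Module.finrank F U = h.natDegree := by
      rw [hU, LinearMap.finrank_range_of_inj hinj, Module.finrank_fin_fun]
    have hUU : U ≤ ω.B.orthogonal U := by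
      rw [hU]
      rintro _ ⟨a, rfl⟩
      refine LinearMap.BilinForm.mem_orthogonal_iff.mpr ?_
      rintro _ ⟨b, rfl⟩
      show ω.B (Φ b) (Φ a) = 0
      rw [hΦ, hΦ, map_sum ω.B, LinearMap.sum_apply]
      refine Finset.sum_eq_zero fun i _ => ?_
      rw [map_sum]
      exact Finset.sum_eq_zero fun j _ => by
        rw [map_smul, map_smul, LinearMap.smul_apply, hpow, smul_zero, smul_zero]
    have hod := LinearMap.BilinForm.finrank_orthogonal ω.nondeg U
    rw [ω.dim, hUd] at hod
    have hd3 : h.natDegree ≤ 3 := by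
      have := Submodule.finrank_mono hUU
      omega
    by_contra hne3
    have hd2 : h.natDegree = 2 := by have := hi.natDegree_pos; omega
    obtain ⟨a, ha'⟩ : ∃ a, a = h.coeff 1 := ⟨_, rfl⟩
    obtain ⟨b, hb⟩ : ∃ b, b = h.coeff 0 := ⟨_, rfl⟩
    have hh : h = X ^ 2 + C a * X + C b := by
      conv_lhs => rw [hm.as_sum, hd2]
      rw [Finset.sum_range_succ, Finset.sum_range_one, ha', hb, pow_zero, mul_one, pow_one]
      ring
    have hhs : ∀ z, aeval s h z = s (s z) + a • s z + b • z := fun z => by
      rw [hh]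
      simp [pow_two, Module.algebraMap_end_apply]
    have hUs : ∀ z ∈ U, s z ∈ U := by
      rw [hU]
      rintro _ ⟨z, rfl⟩
      have hgen : ∀ i : ℕ, i < h.natDegree → (s ^ i) v ∈ LinearMap.range Φ := fun i hi =>
        ⟨Pi.single ⟨i, hi⟩ 1, by rw [hΦ, Finset.sum_eq_single ⟨i, hi⟩] <;> simp +contextual⟩
      rw [hΦ, map_sum]
      refine Submodule.sum_mem _ fun i _ => ?_
      rw [map_smul]
      refine Submodule.smul_mem _ _ ?_
      rw [← Module.End.mul_apply, ← pow_succ']
      rcases Nat.lt_or_ge ((i : ℕ) + 1) h.natDegree with hlt | hge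
      · exact hgen _ hlt
      · have h2 := hv
        rw [hhs, add_assoc, add_eq_zero_iff_eq_neg] at h2
        rw [show (i : ℕ) + 1 = 2 by have := i.2; omega, pow_two, Module.End.mul_apply, h2]
        refine Submodule.neg_mem _ (Submodule.add_mem _ (Submodule.smul_mem _ _ ?_) (Submodule.smul_mem _ _ ?_))
        · simpa using hgen 1 (by omega)
        · simpa using hgen 0 (by omega)
    obtain ⟨W, hW⟩ : ∃ W, W = ω.B.orthogonal U := ⟨_, rfl⟩
    rw [← hW] at hod hUU
    have hWs : ∀ z ∈ W, s z ∈ W := by
      rw [hW]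
      intro z hz
      rw [LinearMap.BilinForm.mem_orthogonal_iff] at hz ⊢
      intro u hu
      show ω.B u (s z) = 0
      rw [← hsa]
      exact hz _ (hUs u hu)
    obtain ⟨x, hxW, hxU⟩ : ∃ x ∈ W, x ∉ U := by
      by_contra! hc
      have := Submodule.finrank_mono (show W ≤ U from hc)
      omega
    obtain ⟨y, hyW, hxy⟩ : ∃ y ∈ W, ω.B x y ≠ 0 := by
      by_contra! hc
      refine hxU ?_
      rw [← LinearMap.BilinForm.orthogonal_orthogonal ω.nondeg ω.isRefl U, ← hW,
        LinearMap.BilinForm.mem_orthogonal_iff]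
      intro y hy
      show ω.B y x = 0
      rw [ω.swap, hc y hy, neg_zero]
    let Ψ : W →ₗ[F] F × F := ((ω.B x).comp W.subtype).prod ((ω.B y).comp W.subtype)
    have hΨs : LinearMap.range Ψ = ⊤ := by
      refine LinearMap.range_eq_top.mpr fun p => ⟨⟨(p.1 / ω.B x y) • y + (-p.2 / ω.B x y) • x,
        W.add_mem (W.smul_mem _ hyW) (W.smul_mem _ hxW)⟩, ?_⟩
      show (ω.B x _, ω.B y _) = p
      simp [ω.alt, ω.swap x y, hxy]
    have hker' : ∀ z (hz : z ∈ W), ω.B x z = 0 → ω.B y z = 0 → z ∈ U := by
      intro z hz h1 h2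
      have hk : Module.finrank F (LinearMap.ker Ψ) = 2 := by
        have h := Ψ.finrank_range_add_finrank_ker
        rw [hΨs, finrank_top, Module.finrank_prod, Module.finrank_self, hod, hd2] at h
        omega
      have hle : U.comap W.subtype ≤ LinearMap.ker Ψ := fun u hu => by
        have hu' : ∀ w ∈ W, ω.B w u.1 = 0 := fun w hw => by
          rw [ω.swap, neg_eq_zero]
          rw [hW, LinearMap.BilinForm.mem_orthogonal_iff] at hw
          exact hw _ hu
        exact LinearMap.mem_ker.mpr (Prod.ext (hu' x hxW) (hu' y hyW))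
      have heq := Submodule.eq_of_le_of_finrank_eq hle (by
        rw [(Submodule.comapSubtypeEquivOfLe hUU).finrank_eq, hUd, hk, hd2])
      have hmem : (⟨z, hz⟩ : W) ∈ LinearMap.ker Ψ := LinearMap.mem_ker.mpr (Prod.ext h1 h2)
      rw [← heq] at hmem
      exact hmem
    obtain ⟨lam, hlam⟩ : ∃ lam, lam = ω.B (s x) y / ω.B x y := ⟨_, rfl⟩
    obtain ⟨z, hz⟩ : ∃ z, z = s x - lam • x := ⟨_, rfl⟩
    have hzU : z ∈ U := by
      refine hker' z (hz ▸ W.sub_mem (hWs x hxW) (W.smul_mem _ hxW)) ?_ ?_
      · have h1 := hsa x x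
        rw [ω.swap] at h1
        rw [hz, map_sub, map_smul, ω.alt, smul_zero, sub_zero]
        exact (mul_eq_zero.mp (show (2 : F) * ω.B x (s x) = 0 by linear_combination -h1)).resolve_left two_ne
      · rw [hz, map_sub, map_smul, ω.swap (s x) y, ω.swap x y, hlam, smul_eq_mul]
        field_simp
        ring
    have hkill : ∀ u ∈ U, aeval s h u = 0 := by
      rw [hU]
      rintro _ ⟨u, rfl⟩
      rw [hΦ, map_sum]
      refine Finset.sum_eq_zero fun i _ => ?_
      rw [map_smul, ← aeval_X (R := F) s, ← map_pow, aeval_X, ← Module.End.mul_apply, ← map_mul, mul_comm h,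
        map_mul, Module.End.mul_apply, hv, map_zero, smul_zero]
    have hy0 : aeval s h x ≠ 0 := by
      intro h0
      refine hxU ?_
      have e1 : s x = lam • x + z := by rw [hz]; abel
      have e2 : (lam ^ 2 + a * lam + b) • x = -((lam + a) • z + s z) := by
        rw [eq_neg_iff_add_eq_zero, ← h0, hhs, e1, map_add, map_smul, e1]
        module
      have hne : lam ^ 2 + a * lam + b ≠ 0 := fun h1 => hroot lam (by
        rw [hq, IsRoot, eval_mul, hh]
        simp [h1])
      rw [show x = (lam ^ 2 + a * lam + b)⁻¹ • ((lam ^ 2 + a * lam + b) • x) by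
        rw [smul_smul, inv_mul_cancel₀ hne, one_smul], e2]
      exact U.smul_mem _ (U.neg_mem (U.add_mem (U.smul_mem _ hzU) (hUs z hzU)))
    refine hy0 (hno _ lam ?_)
    rw [← sub_eq_zero]
    have hcm : s (aeval s h x) = aeval s h (s x) := by
      rw [hhs, hhs]
      simp only [map_add, map_smul]
    rw [hcm, ← map_smul, ← map_sub, ← hz]
    exact hkill z hzU
  -- a root in the polynomials of `g + g⁻¹`
  have hb : ∃ b : F[X], aeval s ((asCubic e).comp b) = 0 := by
    obtain ⟨h, hm, hi, hdvd⟩ := exists_monic_irreducible_factor f (fun hu => by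
      have h1 : f = 1 := hfm.eq_one_of_isUnit hu
      have h0 : (1 : Module.End F V) = 0 := by rw [← map_one (aeval (R := F) s), ← h1, hfs]
      haveI : Nontrivial V := Module.nontrivial_of_finrank_pos (R := F) (by rw [ω.dim]; norm_num)
      exact one_ne_zero h0)
    obtain ⟨q, hq⟩ := hdvd
    have h3 := hfac h q hq hm hi
    obtain ⟨b1, hb1⟩ := exists_poly_root hirr hi (by rw [asCubic_natDegree, h3])
    have hqm : q.Monic := hm.of_mul_monic_left (hq ▸ hfm)
    have hqd : q.natDegree ≤ 3 := by
      rw [hq, hm.natDegree_mul hqm, h3] at hdeg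
      omega
    by_cases hq0 : q.natDegree = 0
    · refine ⟨b1, aeval_eq_zero_of_dvd_aeval_eq_zero hb1 ?_⟩
      rwa [hq, hqm.natDegree_eq_zero.mp hq0, mul_one] at hfs
    have hqroot : ∀ x, ¬ q.IsRoot x := fun x hx => hroot x (by rw [hq, IsRoot, eval_mul, hx, mul_zero])
    have hq1 : q.natDegree ≠ 1 := fun h1 => by
      have hr := hqroot (-q.coeff 0)
      rw [IsRoot, hqm.eq_X_add_C h1] at hr
      simp at hr
    have hqi : Irreducible q :=
      irreducible_of_degree_le_three_of_not_isRoot (by rw [Finset.mem_Icc]; omega) hqroot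
    have hq3 := hfac q h (by rw [hq, mul_comm]) hqm hqi
    by_cases heq : q = h
    · refine ⟨b1 + (asCubic e).comp b1, aeval_eq_zero_of_dvd_aeval_eq_zero ?_ hfs⟩
      have hid : (asCubic e).comp (b1 + (asCubic e).comp b1) = ((asCubic e).comp b1) ^ 3 := by
        have h3 : (3 : F[X]) = 0 := by rw [show (3 : F[X]) = C (3 : F) by rw [map_ofNat], three_zero, map_zero]
        simp only [asCubic, sub_comp, pow_comp, X_comp, C_comp]
        linear_combination ((b1 ^ 2) * (b1 ^ 3 - b1 - C e) + b1 * (b1 ^ 3 - b1 - C e) ^ 2) * h3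
      rw [hid, hq, heq]
      exact ((mul_dvd_mul hb1 hb1).trans (Dvd.intro ((asCubic e).comp b1) (by ring)))
    · obtain ⟨b2, hb2⟩ := exists_poly_root hirr hqi (by rw [asCubic_natDegree, hq3])
      have hcop : IsCoprime h q := (hi.coprime_iff_not_dvd).mpr fun hd =>
        heq (eq_of_monic_of_associated hqm hm ((hi.associated_of_dvd hqi hd).symm))
      obtain ⟨u, w, huw⟩ := hcop
      refine ⟨b1 * (w * q) + b2 * (u * h), aeval_eq_zero_of_dvd_aeval_eq_zero ?_ hfs⟩
      rw [hq]
      have key : ∀ (m b c : F[X]), m ∣ b - c → m ∣ (asCubic e).comp c → m ∣ (asCubic e).comp b := by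
        intro m b c h1 h2
        have h := h1.trans (sub_dvd_eval_sub b c ((asCubic e).map C))
        rw [eval_map, eval_map] at h
        exact (dvd_iff_dvd_of_dvd_sub h).mpr h2
      refine IsCoprime.mul_dvd ⟨u, w, huw⟩ (key _ _ _ ?_ hb1) (key _ _ _ ?_ hb2)
      · exact Dvd.intro ((b2 - b1) * u) (by linear_combination (-b1) * huw)
      · exact Dvd.intro ((b1 - b2) * w) (by linear_combination (-b2) * huw)
  obtain ⟨b, hb⟩ := hb
  refine ⟨aeval s b, 0, hsa.aeval b, by rw [← aeval_comp]; exact hb, ?_⟩
  rw [map_zero, add_zero]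
  refine (Algebra.commute_of_mem_adjoin_singleton_of_commute (aeval_mem_adjoin_singleton F s) ?_).eq
  rw [hs]
  exact (Commute.refl g).add_right (hgi'.trans hgi.symm)

end Cfsg.Agent.Small.Cover2.Six
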