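import Cfsg.Agent.Lib.Small.Cover2.SixAlg

/-!
Isometries of a six-dimensional symplectic space in characteristic three with one generalised eigenvalue
fix a nondegenerate plane or move a self-adjoint root by a scalar.
-/

set_option autoImplicit false
set_option linter.unusedSectionVars false
set_option linter.style.haveILetI false
set_option linter.unusedSimpArgs false

namespace Cfsg.Agent.Small.Cover2.Six

open Polynomial

variable {F V : Type*} [Field F] [Fintype F] [CharP F 3] [AddCommGroup V] [Module F V]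

/-- A fixed nondegenerate plane. -/
def HasPlane (ω : Space F V) (g : Module.End F V) : Prop :=
  ∃ v w : V, ω.B v w = 1 ∧ g v ∈ Submodule.span F {v, w} ∧ g w ∈ Submodule.span F {v, w}

theorem hasPlane_of_ne {ω : Space F V} {g : Module.End F V} {v w : V} (h : ω.B v w ≠ 0)
    (hv : g v ∈ Submodule.span F {v, w}) (hw : g w ∈ Submodule.span F {v, w}) : HasPlane ω g := by
  refine ⟨v, (ω.B v w)⁻¹ • w, by rw [map_smul, smul_eq_mul, inv_mul_cancel₀ h], ?_⟩
  have hle : Submodule.span F {v, w} ≤ Submodule.span F {v, (ω.B v w)⁻¹ • w} := by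
    rw [Submodule.span_le, Set.insert_subset_iff, Set.singleton_subset_iff]
    refine ⟨Submodule.subset_span (Set.mem_insert _ _), ?_⟩
    rw [show w = ω.B v w • ((ω.B v w)⁻¹ • w) by rw [smul_smul, mul_inv_cancel₀ h, one_smul]]
    refine Submodule.smul_mem _ _ ?_
    rw [smul_smul (ω.B v w), mul_inv_cancel₀ h, one_smul]
    exact Submodule.subset_span (Set.mem_insert_of_mem _ rfl)
  exact ⟨hle hv, by rw [map_smul]; exact Submodule.smul_mem _ _ (hle hw)⟩

theorem hasPlane_of_vec {ω : Space F V} {g : Module.End F V} {v : V} (h : ω.B v (g v) ≠ 0) {a b : F}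
    (hv : g (g v) = a • v + b • g v) : HasPlane ω g :=
  hasPlane_of_ne h (Submodule.subset_span (Set.mem_insert_of_mem _ rfl)) (Submodule.mem_span_pair.mpr ⟨a, b, hv.symm⟩)

/-- Moving a plane of a multiple. -/
theorem HasPlane.smul {ω : Space F V} {g : Module.End F V} (h : HasPlane ω g) (c : F) : HasPlane ω (c • g) := by
  obtain ⟨v, w, h1, hv, hw⟩ := h
  exact ⟨v, w, h1, Submodule.smul_mem _ c hv, Submodule.smul_mem _ c hw⟩

theorem HasRoot.smul {ω : Space F V} {g : Module.End F V} {e : F} (h : HasRoot ω e g) (c : F) :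
    HasRoot ω e (c • g) := by
  obtain ⟨J, r, h1, h2, h3⟩ := h
  exact ⟨J, r, h1, h2, by rw [smul_mul_assoc, mul_smul_comm, h3]⟩

/-- There is a hyperbolic pair. -/
theorem exists_hyp (ω : Space F V) : ∃ v w : V, ω.B v w = 1 := by
  haveI := ω.findim
  haveI : Nontrivial V := Module.nontrivial_of_finrank_pos (R := F) (by rw [ω.dim]; norm_num)
  obtain ⟨v, hv⟩ := exists_ne (0 : V)
  obtain ⟨w, hw⟩ : ∃ w, ω.B v w ≠ 0 := by
    by_contra! h
    exact hv (ω.nd v h)
  exact ⟨v, (ω.B v w)⁻¹ • w, by rw [map_smul, smul_eq_mul, inv_mul_cancel₀ hw]⟩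

/-- Independent chains. -/
theorem chain_indep {g N : Module.End F V} (hc : Commute N g) {v : V} :
    ∀ k : ℕ, (∀ a b : F, a • (N ^ k) v + b • g ((N ^ k) v) = 0 → a = 0 ∧ b = 0) → (N ^ (k + 1)) v = 0 →
      ∀ a b : ℕ → F, (∑ i ∈ Finset.range (k + 1), (a i • (N ^ i) v + b i • g ((N ^ i) v))) = 0 →
        ∀ i ≤ k, a i = 0 ∧ b i = 0 := by
  intro k hind hN a b hsum i
  have hN' : ∀ j, k + 1 ≤ j → (N ^ j) v = 0 := fun j hj => by
    obtain ⟨d, rfl⟩ := Nat.exists_eq_add_of_le hj
    rw [add_comm, pow_add, Module.End.mul_apply, hN, map_zero]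
  induction i using Nat.strong_induction_on with
  | h i ih =>
    intro hi
    have h := congrArg (N ^ (k - i)) hsum
    rw [map_zero, map_sum] at h
    have hg : ∀ j z, (N ^ j) (g z) = g ((N ^ j) z) := fun j z => LinearMap.congr_fun (hc.pow_left j).eq z
    rw [Finset.sum_eq_single i] at h
    · rw [map_add, map_smul, map_smul, hg, ← Module.End.mul_apply (N ^ (k - i)) (N ^ i), ← pow_add,
        Nat.sub_add_cancel hi] at h
      exact hind _ _ h
    · intro j hj hne
      rcases Nat.lt_or_gt_of_ne hne with hlt | hgt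
      · obtain ⟨ha, hb⟩ := ih j hlt (by omega)
        rw [ha, hb, zero_smul, zero_smul, add_zero, map_zero]
      · rw [map_add, map_smul, map_smul, hg, ← Module.End.mul_apply (N ^ (k - i)) (N ^ j), ← pow_add,
          hN' _ (by omega), map_zero, smul_zero, smul_zero, add_zero]
    · intro hn
      exact absurd (Finset.mem_range.mpr (by omega)) hn

theorem natCast_cube (i : ℕ) : (i : F) ^ 3 = i := by
  haveI : Fact (Nat.Prime 3) := ⟨Nat.prime_three⟩
  exact map_natCast (frobenius F 3) i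

/-- The cyclic case. -/
theorem root_cyclic (ω : Space F V) {g gi : Module.End F V} (hgi : gi * g = 1) (hgi' : g * gi = 1)
    (ha : ω.IsAdj g gi) (c : F) {Q : Module.End F V} (hQ : Q = g * g - c • g + 1) (hQ3 : Q ^ 3 = 0) {v : V}
    (hv : ∀ a b : F, a • (Q ^ 2) v + b • g ((Q ^ 2) v) = 0 → a = 0 ∧ b = 0) (e : F) : HasRoot ω e g := by
  classical
  haveI := ω.findim
  have hQg : Commute Q g := by
    rw [hQ]
    exact ((((Commute.refl g).mul_left (Commute.refl g)).sub_left ((Commute.refl g).smul_left c)).add_left (Commute.one_left g))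
  have h6 : g ^ 6 = c ^ 3 • g ^ 3 - 1 := by
    have hp : (X * X - C c * X + 1 : F[X]) ^ 3 = X ^ 6 - C (c ^ 3) * X ^ 3 + 1 := by
      have h3 : (3 : F[X]) = 0 := by rw [show (3 : F[X]) = C (3 : F) by rw [map_ofNat], three_zero, map_zero]
      rw [map_pow]
      linear_combination ((X * X - C c * X) ^ 2 + (X * X - C c * X) - X ^ 4 * (C c * X) + X ^ 2 * (C c * X) ^ 2) * h3
    have h := congrArg (Polynomial.aeval g) hp
    simp only [map_pow, map_add, map_sub, map_mul, aeval_X, aeval_C, map_one, ← Algebra.smul_def] at h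
    rw [← hQ, hQ3] at h
    rw [show (algebraMap F (Module.End F V) c) ^ 3 = algebraMap F (Module.End F V) (c ^ 3) by rw [map_pow],
      ← Algebra.smul_def] at h
    rw [← sub_eq_zero, h]
    abel
  obtain ⟨e', he'⟩ : ∃ e' : Fin 6 → V, e' = fun i : Fin 6 => (g ^ (i : ℕ)) v := ⟨_, rfl⟩
  have hind : LinearIndependent F e' := by
    rw [Fintype.linearIndependent_iff]
    intro d hd
    obtain ⟨b2, hb2⟩ : ∃ b2, b2 = d 5 := ⟨_, rfl⟩
    obtain ⟨a2, ha2⟩ : ∃ a2, a2 = d 4 + 2 * c * b2 := ⟨_, rfl⟩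
    obtain ⟨b1, hb1⟩ : ∃ b1, b1 = d 3 - (c ^ 2 + 2) * b2 + 2 * c * a2 := ⟨_, rfl⟩
    obtain ⟨a1, ha1⟩ : ∃ a1, a1 = d 2 + 2 * c * b2 - (c ^ 2 + 2) * a2 + c * b1 := ⟨_, rfl⟩
    obtain ⟨b0, hb0⟩ : ∃ b0, b0 = d 1 - b2 + 2 * c * a2 - b1 + c * a1 := ⟨_, rfl⟩
    obtain ⟨a0, ha0⟩ : ∃ a0, a0 = d 0 - a2 - a1 := ⟨_, rfl⟩
    have hsum : ∑ i ∈ Finset.range 3, ((fun i => if i = 0 then a0 else if i = 1 then a1 else a2) i • (Q ^ i) v +
        (fun i => if i = 0 then b0 else if i = 1 then b1 else b2) i • g ((Q ^ i) v)) = 0 := by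
      refine Eq.trans ?_ hd
      rw [Fin.sum_univ_six, Finset.sum_range_succ, Finset.sum_range_succ, Finset.sum_range_one, he', hQ]
      simp only [if_pos, if_neg, OfNat.ofNat_ne_zero, OfNat.ofNat_ne_one, one_ne_zero, pow_two, pow_zero,
        pow_one, Module.End.mul_apply, Module.End.one_apply, LinearMap.add_apply, LinearMap.sub_apply,
        LinearMap.smul_apply, map_add, map_sub, map_smul, ↓reduceIte, Fin.val_zero, Fin.val_one, Fin.val_two,
        Fin.coe_ofNat_eq_mod, pow_succ', Nat.reduceMod]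
      rw [ha0, hb0, ha1, hb1, ha2, hb2]
      module
    have hk := chain_indep hQg 2 hv (by show (Q ^ 3) v = 0; rw [hQ3, LinearMap.zero_apply]) _ _ hsum
    obtain ⟨z0, w0⟩ := hk 0 (by norm_num)
    obtain ⟨z1, w1⟩ := hk 1 (by norm_num)
    obtain ⟨z2, w2⟩ := hk 2 (by norm_num)
    simp at z0 w0 z1 w1 z2 w2
    have d5 : d 5 = 0 := hb2 ▸ w2
    have d4 : d 4 = 0 := by linear_combination z2 - ha2 - 2 * c * w2
    have d3 : d 3 = 0 := by linear_combination w1 - hb1 + (c ^ 2 + 2) * w2 - 2 * c * z2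
    have d2 : d 2 = 0 := by linear_combination z1 - ha1 - 2 * c * w2 + (c ^ 2 + 2) * z2 - c * w1
    have d1 : d 1 = 0 := by linear_combination w0 - hb0 + w2 - 2 * c * z2 + w1 - c * z1
    have d0 : d 0 = 0 := by linear_combination z0 - ha0 + z2 + z1
    intro i
    fin_cases i <;> assumption
  let bas : Module.Basis (Fin 6) F V :=
    basisOfLinearIndependentOfCardEqFinrank hind (by rw [Fintype.card_fin, ω.dim])
  have hbas : ∀ i, bas i = e' i := fun i => by rw [coe_basisOfLinearIndependentOfCardEqFinrank]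
  obtain ⟨D, hD⟩ : ∃ D : Module.End F V, ∀ i : Fin 6, D ((g ^ (i : ℕ)) v) = ((i : ℕ) : F) • (g ^ (i : ℕ)) v := by
    refine ⟨bas.constr F fun i => ((i : ℕ) : F) • e' i, fun i => ?_⟩
    have := bas.constr_basis F (fun i => ((i : ℕ) : F) • e' i) i
    rw [hbas, he'] at this
    rw [he']
    exact this
  have hDk : ∀ k : ℕ, k ≤ 6 → D ((g ^ k) v) = (k : F) • (g ^ k) v := by
    intro k hk
    rcases Nat.lt_or_ge k 6 with hlt | hge
    · exact hD ⟨k, hlt⟩
    · obtain rfl : k = 6 := le_antisymm hk hge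
      have e3 : D ((g ^ 3) v) = ((3 : ℕ) : F) • (g ^ 3) v := hD 3
      have e0 : D ((g ^ 0) v) = ((0 : ℕ) : F) • (g ^ 0) v := hD 0
      rw [CharP.cast_eq_zero F 3, zero_smul] at e3
      rw [Nat.cast_zero, zero_smul, pow_zero, Module.End.one_apply] at e0
      rw [h6, LinearMap.sub_apply, LinearMap.smul_apply, Module.End.one_apply, map_sub, map_smul, e3, e0,
        show ((6 : ℕ) : F) = ((3 : ℕ) : F) * 2 by norm_num, CharP.cast_eq_zero F 3]
      simp
  have hDg : D * g = g * D + g := bas.ext fun i => by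
    rw [hbas, he']
    show D (g ((g ^ (i : ℕ)) v)) = g (D ((g ^ (i : ℕ)) v)) + g ((g ^ (i : ℕ)) v)
    rw [← Module.End.mul_apply g (g ^ (i : ℕ)), ← pow_succ', hDk _ (by omega), hDk _ (by omega), map_smul,
      ← Module.End.mul_apply g (g ^ (i : ℕ)), ← pow_succ', Nat.cast_succ, add_smul, one_smul]
  have hD3 : D ^ 3 = D := bas.ext fun i => by
    rw [hbas, he']
    simp only [pow_succ, pow_zero, one_mul, Module.End.mul_apply, hD, map_smul, smul_smul]
    congr 1
    linear_combination natCast_cube (F := F) (i : ℕ)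
  have hcomm : ∀ x y : Module.End F V, Commute x g → Commute y g → Commute x y := by
    intro x y hx hy
    obtain ⟨P, hP⟩ : ∃ P : F[X], P = ∑ i : Fin 6, C (bas.repr (x v) i) * X ^ (i : ℕ) := ⟨_, rfl⟩
    have hxv : aeval g P v = x v := by
      conv_rhs => rw [← bas.sum_repr (x v)]
      rw [hP, map_sum, LinearMap.sum_apply]
      refine Finset.sum_congr rfl fun i _ => ?_
      rw [map_mul, map_pow, aeval_X, aeval_C, ← Algebra.smul_def, LinearMap.smul_apply, hbas, he']
    have hxP : x = aeval g P := bas.ext fun i => by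
      rw [hbas, he']
      show x ((g ^ (i : ℕ)) v) = aeval g P ((g ^ (i : ℕ)) v)
      rw [← Module.End.mul_apply x, (hx.pow_right _).eq, Module.End.mul_apply, ← hxv, ← Module.End.mul_apply,
        ← Module.End.mul_apply, (Algebra.commute_of_mem_adjoin_singleton_of_commute (aeval_mem_adjoin_singleton F g)
          ((Commute.refl g).pow_left (i : ℕ))).eq]
    rw [hxP]
    exact (Algebra.commute_of_mem_adjoin_singleton_of_commute (aeval_mem_adjoin_singleton F g) hy).symm
  obtain ⟨J0, hJ, hJ3, hJg⟩ := exists_selfAdj_shift hgi hgi' ha hcomm hDg hD3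
  have hcg : Commute gi g := hgi.trans hgi'.symm
  by_cases hc : c = 0
  · subst hc
    have g6 : g ^ 6 = -1 := by
      rw [h6, zero_pow (by norm_num), zero_smul, zero_sub]
    have g12 : g ^ 12 = 1 := by rw [show 12 = 6 + 6 from rfl, pow_add, g6, neg_mul_neg, one_mul]
    have hjk : ∀ k : ℕ, J0 * g ^ k = g ^ k * J0 + (k : F) • g ^ k := by
      intro k
      induction k with
      | zero => simp
      | succ k ih =>
        rw [pow_succ, ← mul_assoc, ih, add_mul, mul_assoc, hJg, mul_add, smul_mul_assoc, Nat.cast_succ,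
          add_smul, one_smul, ← mul_assoc]
        abel
    have four : ((4 : ℕ) : F) = 1 := by
      push_cast
      linear_combination three_zero (F := F)
    have gi12 : gi ^ 12 = 1 := by
      calc gi ^ 12 = gi ^ 12 * g ^ 12 := by rw [g12, mul_one]
        _ = 1 := by rw [← hcg.mul_pow, hgi, one_pow]
    refine root_of_shift (γ := 2) (fun h2 => one_ne_zero (α := F) (by linear_combination three_zero (F := F) - h2))
      hJ hJ3 (h := g ^ 4) (hi := gi ^ 4) (by rw [← hcg.symm.mul_pow, hgi', one_pow])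
      (by rw [← hcg.mul_pow, hgi, one_pow]) (ha.pow 4) ?_ hJg (Commute.self_pow g 4) hgi hgi' ?_ e
    · rw [hjk 4, four, one_smul]
    · rw [← pow_mul, ← pow_mul, g12, gi12, map_ofNat, one_add_one_eq_two]
  · refine root_of_shift (γ := c ^ 3) (pow_ne_zero _ hc) hJ hJ3 (h := g) (hi := gi) hgi' hgi ha hJg hJg
      (Commute.refl g) hgi hgi' ?_ e
    have hgg : g ^ 3 * gi ^ 3 = 1 := by rw [← hcg.symm.mul_pow, hgi', one_pow]
    calc g ^ 3 + gi ^ 3 = (g ^ 6 + 1) * gi ^ 3 := by
          rw [add_mul, one_mul, show 6 = 3 + 3 from rfl, pow_add, mul_assoc, hgg, mul_one]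
      _ = _ := by rw [h6, sub_add_cancel, smul_mul_assoc, hgg, Algebra.algebraMap_eq_smul_one]

/-- Two blocks of length three. -/
theorem root_blocks (ω : Space F V) {g gi : Module.End F V} (hgi : gi * g = 1) (hgi' : g * gi = 1)
    (ha : ω.IsAdj g gi) (h3 : (g - 1) ^ 3 = 0) (h2 : (g - 1) ^ 2 ≠ 0) (e : F) : HasRoot ω e g := by
  classical
  haveI := ω.findim
  obtain ⟨n, hn⟩ : ∃ n, n = g - 1 := ⟨_, rfl⟩
  rw [← hn] at h3 h2
  have hg3 : g ^ 3 = 1 := by
    have hgn : g = n + 1 := by rw [hn]; abel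
    calc g ^ 3 = n ^ 3 + (n ^ 2 + n ^ 2 + n ^ 2) + (n + n + n) + 1 := by
          rw [hgn]; simp only [pow_succ, pow_zero, one_mul, add_mul, mul_add, mul_one]; abel
      _ = 1 := by rw [h3, end_three, end_three, add_zero, add_zero, zero_add]
  have hg2 : gi = g ^ 2 := by
    calc gi = gi * g ^ 3 := by rw [hg3, mul_one]
      _ = g ^ 2 := by rw [pow_succ' g 2, ← mul_assoc, hgi, one_mul]
  have hB : ∀ x y, ω.B (g x) (g y) = ω.B x y := fun x y => by
    rw [ha, ← Module.End.mul_apply gi g, hgi, Module.End.one_apply]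
  have hgy : ∀ z, g (g (g z)) = z := fun z => by
    show (g * g * g) z = z
    rw [← pow_three', hg3, Module.End.one_apply]
  have n2 : ∀ z, (n ^ 2) z = g (g z) + g z + z := fun z => by
    rw [pow_two, Module.End.mul_apply, hn]
    simp only [LinearMap.sub_apply, Module.End.one_apply, map_sub]
    rw [← sub_eq_zero]
    calc g (g z) - g z - (g z - z) - (g (g z) + g z + z) = -(g z + g z + g z) := by abel
      _ = 0 := by rw [show g z + g z + g z = (g + g + g) z from rfl, end_three, LinearMap.zero_apply, neg_zero]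
  have hsw : ∀ z, ω.B z (g (g z)) = -ω.B z (g z) := fun z => by
    rw [← hB, hgy, ω.swap]
  obtain ⟨u0, hu0⟩ : ∃ u, (n ^ 2) u ≠ 0 := by
    by_contra! h
    exact h2 (LinearMap.ext h)
  obtain ⟨v, hv, hbv⟩ : ∃ v, (n ^ 2) v ≠ 0 ∧ ω.B v (g v) = 0 := by
    obtain ⟨y0, hy0⟩ : ∃ y, ω.B ((n ^ 2) u0) y ≠ 0 := by
      by_contra! h
      exact hu0 (ω.nd _ h)
    obtain ⟨y, hy⟩ : ∃ y, ω.B ((n ^ 2) u0) y = ω.B u0 (g u0) :=
      ⟨(ω.B u0 (g u0) / ω.B ((n ^ 2) u0) y0) • y0, by rw [map_smul, smul_eq_mul, div_mul_cancel₀ _ hy0]⟩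
    refine ⟨u0 + n y, by rwa [map_add, ← Module.End.mul_apply (n ^ 2) n, ← pow_succ, h3, LinearMap.zero_apply, add_zero], ?_⟩
    have s1 : ∀ a b, ω.B (g a) b = ω.B a (g (g b)) := fun a b => by
      conv_lhs => rw [← hgy b]
      rw [hB]
    rw [n2] at hy
    simp only [map_add, LinearMap.add_apply, s1, hgy] at hy
    rw [hn]
    simp only [LinearMap.sub_apply, Module.End.one_apply, map_add, map_sub, LinearMap.add_apply,
      LinearMap.sub_apply, s1, hgy, ω.alt, hsw, ω.swap u0 y, ω.swap (g u0) y, ω.swap (g (g u0)) y] at hy ⊢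
    linear_combination (-1 : F) * hy + (ω.B u0 (g (g y)) + ω.B y (g y)) * three_zero (F := F)
  have hbv2 : ω.B v (g (g v)) = 0 := by rw [hsw, hbv, neg_zero]
  obtain ⟨a, ha'⟩ : ∃ a : Fin 3 → V, a = fun i : Fin 3 => (g ^ (i : ℕ)) v := ⟨_, rfl⟩
  have hai : LinearIndependent F a := by
    rw [Fintype.linearIndependent_iff]
    intro d hd
    rw [Fin.sum_univ_three, ha'] at hd
    simp [pow_two] at hd
    have e2 : ∀ z, g (n z) = n (g z) := fun z => by simp [hn]
    have gn : ∀ z, g ((n ^ 2) z) = (n ^ 2) z := fun z => by rw [n2]; simp [hgy]; abel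
    have gn' : ∀ z, (n ^ 2) (g z) = (n ^ 2) z := fun z => by rw [n2, n2, hgy]; abel
    have s0 : d 0 + d 1 + d 2 = 0 := by
      have h := congrArg (fun z => (n ^ 2) z) hd
      simp only [map_add, map_smul, gn', map_zero, ← add_smul] at h
      exact (smul_eq_zero.mp h).resolve_right hv
    -- remove the augmentation
    have hd' : (d 1 + d 2 + d 2) • n v + d 2 • (n ^ 2) v = 0 := by
      have e0 : d 0 = -d 1 - d 2 := by linear_combination s0
      rw [e0] at hd
      rw [← hd, hn, pow_two]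
      simp only [Module.End.mul_apply, LinearMap.sub_apply, Module.End.one_apply, map_sub]
      module
    have s1 : d 1 + d 2 + d 2 = 0 := by
      have h := congrArg (fun z => n z) hd'
      simp only [map_add, map_smul, map_zero] at h
      rw [← Module.End.mul_apply n (n ^ 2), ← pow_succ', h3, LinearMap.zero_apply, smul_zero, add_zero,
        ← Module.End.mul_apply, ← pow_two] at h
      exact (smul_eq_zero.mp h).resolve_right hv
    have s2 : d 2 = 0 := by
      rw [s1, zero_smul, zero_add] at hd'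
      exact (smul_eq_zero.mp hd').resolve_right hv
    intro i
    fin_cases i
    · show d 0 = 0; linear_combination s0 - s1 + s2
    · show d 1 = 0; linear_combination s1 - 2 * s2
    · exact s2
  obtain ⟨w0, hw0⟩ : ∃ w, ω.B v w = 1 ∧ ω.B (g v) w = 0 ∧ ω.B (g (g v)) w = 0 := by
    let Φ : V →ₗ[F] (Fin 3 → F) := LinearMap.pi fun i => ω.B (a i)
    have hs : Function.Surjective Φ := by
      rw [← LinearMap.range_eq_top]
      by_contra hne
      obtain ⟨f, hf0, hf⟩ := Submodule.exists_dual_map_eq_bot_of_lt_top (lt_top_iff_ne_top.mpr hne) inferInstance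
      refine hf0 (LinearMap.ext fun z => ?_)
      have hz : ∀ x, f (Φ x) = 0 := fun x => by
        have : f (Φ x) ∈ Submodule.map f (LinearMap.range Φ) := ⟨_, ⟨x, rfl⟩, rfl⟩
        rwa [hf, Submodule.mem_bot] at this
      have hd : ∀ i, f (Pi.single i 1) = 0 := Fintype.linearIndependent_iff.mp hai _ (ω.nd _ fun x => by
        rw [map_sum, LinearMap.sum_apply]
        refine Eq.trans ?_ (hz x)
        conv_rhs => rw [pi_eq_sum_univ' (Φ x), map_sum]
        refine Finset.sum_congr rfl fun i _ => ?_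
        rw [map_smul, LinearMap.smul_apply, map_smul, smul_eq_mul, smul_eq_mul, mul_comm]
        rfl)
      rw [pi_eq_sum_univ' z, map_sum, LinearMap.zero_apply]
      exact Finset.sum_eq_zero fun i _ => by rw [map_smul, hd, smul_zero]
    obtain ⟨w, hw⟩ := hs ![1, 0, 0]
    have h0 := congrFun hw 0
    have h1 := congrFun hw 1
    have h2 := congrFun hw 2
    simp [Φ, ha', pow_two] at h0 h1 h2
    exact ⟨w, h0, h1, h2⟩
  obtain ⟨w, hw1, hw2, hw3, hbw⟩ : ∃ w, ω.B v w = 1 ∧ ω.B (g v) w = 0 ∧ ω.B (g (g v)) w = 0 ∧ ω.B w (g w) = 0 := by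
    obtain ⟨h1, h2, h3'⟩ := hw0
    refine ⟨w0 - ω.B w0 (g w0) • g v, ?_, ?_, ?_, ?_⟩
    · rw [map_sub, map_smul, hbv, smul_zero, sub_zero, h1]
    · rw [map_sub, map_smul, ω.alt, smul_zero, sub_zero, h2]
    · rw [map_sub, map_smul, hB, ω.swap v (g v), hbv, neg_zero, smul_zero, sub_zero, h3']
    · have c1 : ω.B w0 (g (g v)) = 0 := by rw [ω.swap, h3', neg_zero]
      have c2 : ω.B (g v) (g w0) = 1 := by rw [hB, h1]
      simp only [map_sub, map_smul, LinearMap.sub_apply, LinearMap.smul_apply, smul_eq_mul, c1, c2, hB, hbv]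
      ring
  have hbw2 : ω.B w (g (g w)) = 0 := by rw [hsw, hbw, neg_zero]
  obtain ⟨b, hb⟩ : ∃ b : Fin 2 × Fin 3 → V, b = fun k => (g ^ (k.2 : ℕ)) (![v, w] k.1) := ⟨_, rfl⟩
  have hBb : ∀ k l, ω.B (b k) (b l) =
      if k.2 = l.2 then (if k.1 = 0 ∧ l.1 = 1 then 1 else if k.1 = 1 ∧ l.1 = 0 then -1 else 0) else 0 := by
    have hv1 : ω.B w v = -1 := by rw [ω.swap, hw1]
    have e1 : ∀ x y, ω.B (g x) y = ω.B x (g (g y)) := fun x y => by
      conv_lhs => rw [← hgy y]
      rw [hB]
    have r1 : ω.B v (g (g w)) = 0 := by rw [← e1, hw2]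
    have r2 : ω.B v (g w) = 0 := by
      have := hw3
      rwa [e1, e1, hgy] at this
    have r3 : ω.B w (g v) = 0 := by rw [ω.swap, hw2, neg_zero]
    have r4 : ω.B w (g (g v)) = 0 := by rw [ω.swap, hw3, neg_zero]
    rintro ⟨k, i⟩ ⟨l, j⟩
    rw [hb]
    fin_cases k <;> fin_cases l <;> fin_cases i <;> fin_cases j <;>
      simp [pow_two, e1, hgy, hbv, hbv2, hbw, hbw2, hw1, hv1, r1, r2, r3, r4, ω.alt]
  have hbi : LinearIndependent F b := by
    rw [Fintype.linearIndependent_iff]
    intro d hd k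
    have h := congrArg (fun z => ω.B z (b (if k.1 = 0 then 1 else 0, k.2))) hd
    simp only [map_sum, LinearMap.sum_apply, map_smul, LinearMap.smul_apply, hBb, map_zero, LinearMap.zero_apply,
      smul_eq_mul, mul_ite, mul_zero] at h
    rw [Finset.sum_eq_single k] at h
    · obtain ⟨k, i⟩ := k
      fin_cases k <;> simpa using h
    · intro l _ hl
      obtain ⟨k, i⟩ := k
      obtain ⟨l, j⟩ := l
      fin_cases k <;> fin_cases l <;> simp at hl ⊢ <;> simp [hl]
    · simp
  let bas : Module.Basis (Fin 2 × Fin 3) F V :=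
    basisOfLinearIndependentOfCardEqFinrank hbi (by rw [Fintype.card_prod, Fintype.card_fin, Fintype.card_fin, ω.dim])
  have hbas : ∀ k, bas k = b k := fun k => by rw [coe_basisOfLinearIndependentOfCardEqFinrank]
  obtain ⟨D, hD⟩ : ∃ D : Module.End F V, ∀ k, D (b k) = ((k.2 : ℕ) : F) • b k := by
    refine ⟨bas.constr F fun k => ((k.2 : ℕ) : F) • b k, fun k => ?_⟩
    have := bas.constr_basis F (fun k => ((k.2 : ℕ) : F) • b k) k
    rwa [hbas] at this
  have hDg : D * g = g * D + g := bas.ext fun k => by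
    rw [hbas]
    show D (g (b k)) = g (D (b k)) + g (b k)
    obtain ⟨k, i⟩ := k
    have hnext : g (b (k, i)) = b (k, i + 1) := by
      rw [hb]
      fin_cases i <;> simp [pow_two, hgy]
    nth_rw 2 [← one_smul F (g (b (k, i)))]
    rw [hnext, hD, hD, map_smul, hnext, ← add_smul]
    congr 1
    fin_cases i <;> simp
    · exact (one_add_one_eq_two).symm
    · linear_combination (-1 : F) * three_zero (F := F)
  have hD3 : D ^ 3 = D := bas.ext fun k => by
    rw [hbas]
    simp only [pow_succ, pow_zero, one_mul, Module.End.mul_apply, hD, map_smul, smul_smul]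
    congr 1
    linear_combination natCast_cube (F := F) (k.2 : ℕ)
  have hDa : ω.IsAdj D D := by
    have hflip : ω.B.comp D LinearMap.id = ω.B.comp LinearMap.id D := LinearMap.BilinForm.ext_basis bas fun k l => by
      simp only [LinearMap.BilinForm.comp_apply, LinearMap.id_apply, hbas, hD, map_smul, LinearMap.smul_apply, hBb,
        smul_eq_mul]
      by_cases h : k.2 = l.2
      · rw [h]
      · rw [if_neg h, mul_zero, mul_zero]
    exact fun x y => LinearMap.congr_fun (LinearMap.congr_fun hflip x) y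
  refine root_of_shift (γ := 2) (fun h => one_ne_zero (α := F) (by linear_combination three_zero (F := F) - h))
    hDa hD3 (h := g) (hi := gi) hgi' hgi ha hDg hDg (Commute.refl g) hgi hgi' ?_ e
  rw [hg2, hg3, ← pow_mul, show 2 * 3 = 3 * 2 from rfl, pow_mul, hg3, one_pow, map_ofNat, one_add_one_eq_two]

end Cfsg.Agent.Small.Cover2.Six
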