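import Cfsg.Agent.Lib.Small.Cover2.SixCases
import Cfsg.Agent.Lib.Small.Cover2.Similar
import Cfsg.Agent.Lib.Lead.SympBasic
import Cfsg.Prelude.Def_Classical

/-!
The projective symplectic groups of dimension six and characteristic three are covered by the stabiliser
of a nondegenerate plane and the normaliser of a subfield of degree three.
-/

set_option autoImplicit false
set_option linter.unusedSectionVars false
set_option linter.style.haveILetI false
set_option linter.unusedSimpArgs false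

namespace Cfsg.Agent.Small.Cover2.SympSix

open Matrix Polynomial Cfsg Cfsg.Agent Six

variable {F : Type*} [Field F] [Fintype F] [CharP F 3]

/-- The standard space. -/
noncomputable def std : Space F (Fin 3 ⊕ Fin 3 → F) where
  B := Matrix.toBilin' (Matrix.J (Fin 3) F)
  alt x := by
    rw [Matrix.toBilin'_apply']
    exact Lead.Symp.form_self x
  nd x h := by
    by_contra hx
    obtain ⟨z, hz⟩ := Lead.Symp.exists_form_ne hx
    exact hz (by have := h z; rw [Matrix.toBilin'_apply'] at this; exact this)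
  dim := by rw [Module.finrank_fintype_fun_eq_card]; rfl

theorem std_B (x y : Fin 3 ⊕ Fin 3 → F) : (std (F := F)).B x y = sympForm 3 F x y := Matrix.toBilin'_apply' _ _ _

/-- The operator of an element. -/
noncomputable def op : Matrix.symplecticGroup (Fin 3) F →* Module.End F (Fin 3 ⊕ Fin 3 → F) where
  toFun A := Matrix.toLinAlgEquiv' (A : Matrix (Fin 3 ⊕ Fin 3) (Fin 3 ⊕ Fin 3) F)
  map_one' := map_one _
  map_mul' A B := map_mul Matrix.toLinAlgEquiv' _ _

theorem op_apply (A : Matrix.symplecticGroup (Fin 3) F) (v : Fin 3 ⊕ Fin 3 → F) :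
    op A v = (A : Matrix (Fin 3 ⊕ Fin 3) (Fin 3 ⊕ Fin 3) F) *ᵥ v := Matrix.toLinAlgEquiv'_apply _ v

theorem op_mul_inv (A : Matrix.symplecticGroup (Fin 3) F) : op A * op A⁻¹ = 1 := by
  rw [← map_mul, mul_inv_cancel, map_one]

theorem op_inv_mul (A : Matrix.symplecticGroup (Fin 3) F) : op A⁻¹ * op A = 1 := by
  rw [← map_mul, inv_mul_cancel, map_one]

theorem op_isometry (A : Matrix.symplecticGroup (Fin 3) F) (x y : Fin 3 ⊕ Fin 3 → F) :
    (std (F := F)).B (op A x) (op A y) = (std (F := F)).B x y := by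
  rw [std_B, std_B, op_apply, op_apply, Lead.Symp.form_preserved A.2]

theorem op_adj (A : Matrix.symplecticGroup (Fin 3) F) : (std (F := F)).IsAdj (op A) (op A⁻¹) := fun u v => by
  rw [← op_isometry A u, ← Module.End.mul_apply, op_mul_inv, Module.End.one_apply]

/-- An isometry as an element. -/
theorem exists_op (X : Module.End F (Fin 3 ⊕ Fin 3 → F)) (h : ∀ x y, (std (F := F)).B (X x) (X y) = (std (F := F)).B x y) :
    ∃ A : Matrix.symplecticGroup (Fin 3) F, op A = X := by
  obtain ⟨M, hM⟩ : ∃ M : Matrix (Fin 3 ⊕ Fin 3) (Fin 3 ⊕ Fin 3) F, Matrix.toLinAlgEquiv' M = X :=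
    Matrix.toLinAlgEquiv'.surjective X
  refine ⟨⟨M, ?_⟩, hM⟩
  rw [SymplecticGroup.mem_iff']
  refine Matrix.toBilin'.injective (LinearMap.ext fun x => LinearMap.ext fun y => ?_)
  have hxy := h x y
  rw [std_B, std_B, ← hM, Matrix.toLinAlgEquiv'_apply, Matrix.toLinAlgEquiv'_apply] at hxy
  rw [Matrix.toBilin'_apply', Matrix.toBilin'_apply', ← Matrix.mulVec_mulVec, ← Matrix.mulVec_mulVec,
    Matrix.dotProduct_mulVec, Matrix.vecMul_transpose]
  exact hxy

theorem exists_irreducible_cubic : ∃ e : F, Irreducible (asCubic e) := by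
  classical
  let f : F → F := fun x => x ^ 3 - x
  have hns : ¬ Function.Surjective f := fun hs => by
    exact one_ne_zero (α := F) (Finite.injective_iff_surjective.mpr hs (show f 1 = f 0 by simp [f]))
  unfold Function.Surjective at hns
  push Not at hns
  obtain ⟨e, he⟩ := hns
  refine ⟨e, irreducible_of_degree_le_three_of_not_isRoot (by rw [asCubic_natDegree]; decide) fun x hx => he x ?_⟩
  have hx' : x ^ 3 - x - e = 0 := by simpa [asCubic, IsRoot] using hx
  exact sub_eq_zero.mp hx'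

/-- A self-adjoint root. -/
theorem exists_selfAdj_root {p : F[X]} (hp : Irreducible p) (hp3 : p.natDegree = 3) :
    ∃ S : Module.End F (Fin 3 ⊕ Fin 3 → F), (std (F := F)).IsAdj S S ∧ aeval S p = 0 := by
  classical
  obtain ⟨A, hA⟩ := exists_root_matrix hp (m := 1) (n := 3) (by rw [hp3])
  have hAT : aeval Aᵀ p = 0 := by
    have hh : ∀ q : F[X], aeval Aᵀ q = (aeval A q)ᵀ := fun q => by
      induction q using Polynomial.induction_on' with
      | add a b ha hb => rw [map_add, map_add, ha, hb, Matrix.transpose_add]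
      | monomial n c =>
        rw [aeval_monomial, aeval_monomial, ← Algebra.smul_def, ← Algebra.smul_def, Matrix.transpose_smul,
          Matrix.transpose_pow]
    rw [hh, hA, Matrix.transpose_zero]
  obtain ⟨M, hM⟩ : ∃ M : Matrix (Fin 3 ⊕ Fin 3) (Fin 3 ⊕ Fin 3) F, M = Matrix.fromBlocks A 0 0 Aᵀ := ⟨_, rfl⟩
  have hMJ : Mᵀ * Matrix.J (Fin 3) F = Matrix.J (Fin 3) F * M := by
    rw [hM, Matrix.J, Matrix.fromBlocks_transpose, Matrix.fromBlocks_multiply, Matrix.fromBlocks_multiply]
    simp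
  have hMp : aeval M p = 0 := by
    have hh : ∀ q : F[X], aeval M q = Matrix.fromBlocks (aeval A q) 0 0 (aeval Aᵀ q) := fun q => by
      induction q using Polynomial.induction_on' with
      | add a b ha hb => rw [map_add, map_add, map_add, ha, hb, Matrix.fromBlocks_add, add_zero]
      | monomial n c =>
        rw [aeval_monomial, aeval_monomial, aeval_monomial, ← Algebra.smul_def, ← Algebra.smul_def, ← Algebra.smul_def,
          hM, Matrix.fromBlocks_diagonal_pow, Matrix.fromBlocks_smul, smul_zero]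
    rw [hh, hA, hAT, Matrix.fromBlocks_zero]
  refine ⟨Matrix.toLinAlgEquiv' M, fun u v => ?_, ?_⟩
  · rw [std_B, std_B, Matrix.toLinAlgEquiv'_apply, Matrix.toLinAlgEquiv'_apply, sympForm, sympForm,
      ← Matrix.vecMul_transpose, ← Matrix.dotProduct_mulVec, Matrix.mulVec_mulVec, hMJ, Matrix.mulVec_mulVec]
  · have := Polynomial.aeval_algHom_apply (Matrix.toLinAlgEquiv' (R := F) (n := Fin 3 ⊕ Fin 3)).toAlgHom M p
    rw [hMp, map_zero] at this
    exact this

/-- The action of the extension by a root. -/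
noncomputable def act {p : F[X]} (J : Module.End F (Fin 3 ⊕ Fin 3 → F)) (hJ : aeval J p = 0) :
    AdjoinRoot p →ₐ[F] Module.End F (Fin 3 ⊕ Fin 3 → F) :=
  Ideal.Quotient.liftₐ (Ideal.span {p}) (Polynomial.aeval J) fun a ha => by
    obtain ⟨c, rfl⟩ := Ideal.mem_span_singleton'.mp ha
    rw [map_mul, hJ, mul_zero]

theorem act_mk {p : F[X]} (J : Module.End F (Fin 3 ⊕ Fin 3 → F)) (hJ : aeval J p = 0) (b : F[X]) :
    act J hJ (AdjoinRoot.mk p b) = aeval J b := rfl

theorem act_root {p : F[X]} (J : Module.End F (Fin 3 ⊕ Fin 3 → F)) (hJ : aeval J p = 0) :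
    act J hJ (AdjoinRoot.root p) = J := (act_mk J hJ X).trans (aeval_X J)

theorem act_adj {p : F[X]} (J : Module.End F (Fin 3 ⊕ Fin 3 → F)) (hJ : aeval J p = 0) (hJa : (std (F := F)).IsAdj J J)
    (x : AdjoinRoot p) : (std (F := F)).IsAdj (act J hJ x) (act J hJ x) := by
  obtain ⟨b, rfl⟩ := AdjoinRoot.mk_surjective x
  rw [act_mk]
  exact hJa.aeval b

theorem act_eq_zero {p : F[X]} [Fact (Irreducible p)] (J : Module.End F (Fin 3 ⊕ Fin 3 → F)) (hJ : aeval J p = 0)
    {x : AdjoinRoot p} {v : Fin 3 ⊕ Fin 3 → F} (hv : v ≠ 0) (h : act J hJ x v = 0) : x = 0 := by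
  by_contra hx
  refine hv ?_
  calc v = act J hJ (x⁻¹ * x) v := by rw [inv_mul_cancel₀ hx, map_one, Module.End.one_apply]
    _ = 0 := by rw [map_mul, Module.End.mul_apply, h, map_zero]

/-- Self-adjoint roots give standard coordinates. -/
theorem exists_std_coords {p : F[X]} [Fact (Irreducible p)] (hp3 : p.natDegree = 3)
    (J : Module.End F (Fin 3 ⊕ Fin 3 → F)) (hJ : aeval J p = 0) (hJa : (std (F := F)).IsAdj J J)
    (l : Module.Dual F (AdjoinRoot p)) (hl : l ≠ 0) :
    ∃ φ : (AdjoinRoot p × AdjoinRoot p) ≃ₗ[F] (Fin 3 ⊕ Fin 3 → F),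
      (∀ x, J (φ x) = φ (AdjoinRoot.root p * x.1, AdjoinRoot.root p * x.2)) ∧
      ∀ x y, (std (F := F)).B (φ x) (φ y) = l (x.1 * y.2) - l (y.1 * x.2) := by
  classical
  have hp : Irreducible p := Fact.out
  haveI : FiniteDimensional F (AdjoinRoot p) := (AdjoinRoot.powerBasis hp.ne_zero).finite
  have hfr : Module.finrank F (AdjoinRoot p) = 3 := by
    rw [(AdjoinRoot.powerBasis hp.ne_zero).finrank, AdjoinRoot.powerBasis_dim, hp3]
  obtain ⟨v, hv⟩ : ∃ v : Fin 3 ⊕ Fin 3 → F, v ≠ 0 := exists_ne 0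
  let Φ : (Fin 3 ⊕ Fin 3 → F) →ₗ[F] Module.Dual F (AdjoinRoot p) :=
    { toFun := fun w => ((std (F := F)).B.flip w).comp ((LinearMap.applyₗ v).comp (act J hJ).toLinearMap)
      map_add' := fun a b => by rw [map_add, LinearMap.add_comp]
      map_smul' := fun c a => by rw [map_smul, LinearMap.smul_comp]; rfl }
  have hΦ : ∀ w x, Φ w x = (std (F := F)).B (act J hJ x v) w := fun w x => rfl
  have hsurj : Function.Surjective Φ := by
    rw [← LinearMap.range_eq_top]
    by_contra hne
    obtain ⟨f, hf0, hf⟩ := Submodule.exists_dual_map_eq_bot_of_lt_top (lt_top_iff_ne_top.mpr hne) inferInstance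
    haveI : Module.Free F (AdjoinRoot p) := Module.Free.of_divisionRing F _
    obtain ⟨x, hx⟩ := (Module.evalEquiv F (AdjoinRoot p)).surjective f
    refine hf0 ?_
    have hz : act J hJ x v = 0 := (std (F := F)).nd _ fun w => by
      have : f (Φ w) ∈ Submodule.map f (LinearMap.range Φ) := ⟨_, ⟨w, rfl⟩, rfl⟩
      rw [hf, Submodule.mem_bot, ← hx] at this
      exact this
    rw [← hx, act_eq_zero J hJ hv hz, map_zero]
  obtain ⟨w, hw⟩ := hsurj l
  have hvw : ∀ x, (std (F := F)).B (act J hJ x v) w = l x := fun x => by rw [← hΦ, hw]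
  have hself : ∀ (z : Fin 3 ⊕ Fin 3 → F) (x y : AdjoinRoot p), (std (F := F)).B (act J hJ x z) (act J hJ y z) = 0 := fun z x y => by
    rw [act_adj J hJ hJa x, ← Module.End.mul_apply, ← map_mul]
    have h := act_adj J hJ hJa (x * y) z z
    rw [(std (F := F)).swap] at h
    exact (mul_eq_zero.mp (show (2 : F) * (std (F := F)).B z (act J hJ (x * y) z) = 0 by linear_combination -h)).resolve_left two_ne
  have hmix : ∀ x y, (std (F := F)).B (act J hJ x v) (act J hJ y w) = l (x * y) := fun x y => by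
    rw [← act_adj J hJ hJa y, ← Module.End.mul_apply, ← map_mul, mul_comm, hvw]
  let φ0 : (AdjoinRoot p × AdjoinRoot p) →ₗ[F] (Fin 3 ⊕ Fin 3 → F) :=
    ((LinearMap.applyₗ v).comp (act J hJ).toLinearMap).coprod ((LinearMap.applyₗ w).comp (act J hJ).toLinearMap)
  have hφ0 : ∀ x, φ0 x = act J hJ x.1 v + act J hJ x.2 w := fun x => rfl
  have hform : ∀ x y, (std (F := F)).B (φ0 x) (φ0 y) = l (x.1 * y.2) - l (y.1 * x.2) := fun x y => by
    rw [hφ0, hφ0, map_add, map_add, LinearMap.add_apply, LinearMap.add_apply, hself, hself, hmix, zero_add, add_zero,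
      (std (F := F)).swap (act J hJ y.1 v) (act J hJ x.2 w), hmix, neg_add_eq_sub]
  have hinj : Function.Injective φ0 := by
    rw [← LinearMap.ker_eq_bot, Submodule.eq_bot_iff]
    intro x hx
    rw [LinearMap.mem_ker] at hx
    obtain ⟨z, hz⟩ : ∃ z, l z ≠ 0 := by
      by_contra! h
      exact hl (LinearMap.ext h)
    have h2 : x.2 = 0 := by
      by_contra h
      have h' := hform x (z * x.2⁻¹, 0)
      rw [hx, map_zero, LinearMap.zero_apply, mul_zero, map_zero, zero_sub, mul_assoc, inv_mul_cancel₀ h,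
        mul_one] at h'
      exact hz (neg_eq_zero.mp h'.symm)
    have h1 : x.1 = 0 := by
      rw [hφ0, h2, map_zero, LinearMap.zero_apply, add_zero] at hx
      exact act_eq_zero J hJ hv hx
    exact Prod.ext h1 h2
  have hbij : Function.Bijective φ0 := ⟨hinj, (LinearMap.injective_iff_surjective_of_finrank_eq_finrank (by
    rw [Module.finrank_prod, hfr, Module.finrank_fintype_fun_eq_card]; rfl)).mp hinj⟩
  refine ⟨LinearEquiv.ofBijective φ0 hbij, fun x => ?_, hform⟩
  show J (φ0 x) = φ0 _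
  rw [hφ0, hφ0, map_add, map_mul, map_mul, act_root, Module.End.mul_apply, Module.End.mul_apply]

/-- Self-adjoint roots are conjugate. -/
theorem conj_roots {p : F[X]} (hp : Irreducible p) (hp3 : p.natDegree = 3) (J J' : Module.End F (Fin 3 ⊕ Fin 3 → F))
    (hJ : aeval J p = 0) (hJ' : aeval J' p = 0) (hJa : (std (F := F)).IsAdj J J) (hJa' : (std (F := F)).IsAdj J' J') :
    ∃ A : Matrix.symplecticGroup (Fin 3) F, op A * J = J' * op A := by
  haveI : Fact (Irreducible p) := ⟨hp⟩
  obtain ⟨l, hl⟩ := exists_ne (0 : Module.Dual F (AdjoinRoot p))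
  obtain ⟨φ, h1, h2⟩ := exists_std_coords hp3 J hJ hJa l hl
  obtain ⟨ψ, h1', h2'⟩ := exists_std_coords hp3 J' hJ' hJa' l hl
  obtain ⟨A, hA⟩ := exists_op (φ.symm.trans ψ).toLinearMap fun x y => by
    obtain ⟨x, rfl⟩ := φ.surjective x
    obtain ⟨y, rfl⟩ := φ.surjective y
    simp [h2, h2']
  refine ⟨A, LinearMap.ext fun z => ?_⟩
  obtain ⟨x, rfl⟩ := φ.surjective z
  rw [hA, Module.End.mul_apply, Module.End.mul_apply, h1]
  simp [h1']

/-- The stabiliser of a subspace. -/
def subStab (W : Submodule F (Fin 3 ⊕ Fin 3 → F)) : Subgroup (Matrix.symplecticGroup (Fin 3) F) where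
  carrier := {A | ∀ x ∈ W, op A x ∈ W}
  one_mem' := fun x hx => by rwa [map_one]
  mul_mem' := fun {A B} hA hB x hx => by rw [map_mul]; exact hA _ (hB x hx)
  inv_mem' := fun {A} hA x hx => by
    let L : W → W := fun y => ⟨op A y.1, hA y.1 y.2⟩
    have hinj : Function.Injective L := fun a b h => Subtype.ext (by
      have h' := congrArg (fun z => op A⁻¹ z) (congrArg Subtype.val h)
      simp only [L] at h'
      rwa [← Module.End.mul_apply, ← Module.End.mul_apply, op_inv_mul] at h')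
    obtain ⟨y, hy⟩ := Finite.injective_iff_surjective.mp hinj ⟨x, hx⟩
    rw [show x = op A y.1 from (congrArg Subtype.val hy).symm, ← Module.End.mul_apply, op_inv_mul]
    exact y.2

/-- The normaliser of the centraliser of an operator. -/
def normC (S : Module.End F (Fin 3 ⊕ Fin 3 → F)) : Subgroup (Matrix.symplecticGroup (Fin 3) F) where
  carrier := {A | ∀ X, X * S = S * X → op A * X * op A⁻¹ * S = S * (op A * X * op A⁻¹)}
  one_mem' := fun X hX => by rwa [inv_one, map_one, one_mul, mul_one]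
  mul_mem' := fun {a b} ha hb X hX => by
    have h := ha _ (hb X hX)
    rw [_root_.mul_inv_rev, map_mul, map_mul]
    simp only [mul_assoc] at h ⊢
    exact h
  inv_mem' := fun {a} ha X hX => by
    haveI : Finite (Module.End F (Fin 3 ⊕ Fin 3 → F)) := Finite.of_equiv _ Matrix.toLinAlgEquiv'.toEquiv
    let L : {X // X * S = S * X} → {X // X * S = S * X} := fun X => ⟨op a * X.1 * op a⁻¹, ha X.1 X.2⟩
    have hinj : Function.Injective L := fun X Y h => Subtype.ext (by
      have h' := congrArg (fun Z => op a⁻¹ * Z * op a) (congrArg Subtype.val h)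
      simp only [L, mul_assoc, op_inv_mul, mul_one] at h'
      simp only [← mul_assoc, op_inv_mul, one_mul] at h'
      exact h')
    obtain ⟨Y, hY⟩ := Finite.injective_iff_surjective.mp hinj ⟨X, hX⟩
    have hY' : op a * Y.1 * op a⁻¹ = X := congrArg Subtype.val hY
    rw [← hY', inv_inv]
    have : op a⁻¹ * (op a * Y.1 * op a⁻¹) * op a = Y.1 := by
      simp only [mul_assoc, op_inv_mul, mul_one]
      rw [← mul_assoc, op_inv_mul, one_mul]
    rw [this]
    exact Y.2

theorem op_center {z : Matrix.symplecticGroup (Fin 3) F}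
    (hz : z ∈ Subgroup.center (Matrix.symplecticGroup (Fin 3) F)) : ∃ c : F, op z = c • 1 := by
  obtain ⟨c, -, hM⟩ := Cfsg.Agent.Small.sp_center_smul 3 z hz
  refine ⟨c, LinearMap.ext fun v => ?_⟩
  rw [op_apply, hM, Matrix.smul_mulVec, Matrix.one_mulVec]
  rfl

theorem center_le_subStab (W : Submodule F (Fin 3 ⊕ Fin 3 → F)) :
    Subgroup.center (Matrix.symplecticGroup (Fin 3) F) ≤ subStab W := fun z hz x hx => by
  obtain ⟨c, hc⟩ := op_center hz
  rw [hc]
  exact W.smul_mem c hx

theorem center_le_normC (S : Module.End F (Fin 3 ⊕ Fin 3 → F)) :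
    Subgroup.center (Matrix.symplecticGroup (Fin 3) F) ≤ normC S := fun z hz X hX => by
  obtain ⟨c, hc⟩ := op_center hz
  have h : op z * X * op z⁻¹ = X := by
    have hcom : op z * X = X * op z := by rw [hc, smul_mul_assoc, one_mul, mul_smul_comm, mul_one]
    rw [hcom, mul_assoc, op_mul_inv, mul_one]
  rw [h, hX]

/-- Some transvection does not normalise. -/
theorem normC_miss {p : F[X]} (hp : Irreducible p) (hp3 : p.natDegree = 3)
    (S : Module.End F (Fin 3 ⊕ Fin 3 → F)) (hS : aeval S p = 0) : ∃ T, T ∉ normC S := by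
  classical
  haveI : Fact (Irreducible p) := ⟨hp⟩
  haveI : FiniteDimensional F (AdjoinRoot p) := (AdjoinRoot.powerBasis hp.ne_zero).finite
  obtain ⟨w, hw⟩ : ∃ w : Fin 3 ⊕ Fin 3 → F, w ≠ 0 := exists_ne 0
  obtain ⟨T, hT⟩ : ∃ T : Matrix.symplecticGroup (Fin 3) F, ∀ x, op T x = x + sympForm 3 F x w • w :=
    ⟨⟨_, Lead.Symp.trans_mem w 1⟩, fun x => by rw [op_apply, Lead.Symp.trans_mulVec, one_mul]⟩
  have hsmall : ∀ Z : Module.End F (Fin 3 ⊕ Fin 3 → F), Z * S = S * Z →
      LinearMap.range Z ≤ Submodule.span F (Set.range ![w, S w]) → Z = 0 := by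
    intro Z hZ hle
    by_contra hne
    obtain ⟨z, hz⟩ : ∃ z, Z z ≠ 0 := by
      by_contra! h
      exact hne (LinearMap.ext h)
    have hgen : ∀ b : F[X], Commute Z (aeval S b) := fun b =>
      Algebra.commute_of_mem_adjoin_singleton_of_commute (aeval_mem_adjoin_singleton F S)
        (show Commute Z S from hZ)
    let Φ : AdjoinRoot p →ₗ[F] (Fin 3 ⊕ Fin 3 → F) := (LinearMap.applyₗ (Z z)).comp (act S hS).toLinearMap
    have hΦ : ∀ x, Φ x = act S hS x (Z z) := fun x => rfl
    have hinj : Function.Injective Φ := by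
      rw [← LinearMap.ker_eq_bot, Submodule.eq_bot_iff]
      exact fun x hx => act_eq_zero S hS hz hx
    have h1 : LinearMap.range Φ ≤ LinearMap.range Z := by
      rintro _ ⟨x, rfl⟩
      obtain ⟨b, rfl⟩ := AdjoinRoot.mk_surjective x
      exact ⟨aeval S b z, by rw [hΦ, act_mk, ← Module.End.mul_apply, (hgen b).eq, Module.End.mul_apply]⟩
    have h2 := Submodule.finrank_mono (h1.trans hle)
    rw [LinearMap.finrank_range_of_inj hinj, (AdjoinRoot.powerBasis hp.ne_zero).finrank, AdjoinRoot.powerBasis_dim,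
      hp3] at h2
    have h3 : (Set.range ![w, S w]).finrank F ≤ Fintype.card (Fin 2) := finrank_range_le_card _
    rw [Fintype.card_fin] at h3
    exact absurd (h2.trans h3) (by norm_num)
  refine ⟨T, fun hmem => ?_⟩
  have h := hmem S rfl
  obtain ⟨N, hN⟩ : ∃ N, N = op T - 1 := ⟨_, rfl⟩
  have hNx : ∀ x, N x = sympForm 3 F x w • w := fun x => by
    rw [hN, LinearMap.sub_apply, hT, Module.End.one_apply, add_sub_cancel_left]
  have hw' : w ∈ Submodule.span F (Set.range ![w, S w]) := Submodule.subset_span ⟨0, rfl⟩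
  have hSw : S w ∈ Submodule.span F (Set.range ![w, S w]) := Submodule.subset_span ⟨1, rfl⟩
  have hY : op T * S * op T⁻¹ - S = 0 := by
    refine hsmall _ (by rw [sub_mul, h, mul_sub]) ?_
    rintro _ ⟨x, rfl⟩
    obtain ⟨y, rfl⟩ : ∃ y, op T y = x :=
      ⟨op T⁻¹ x, by rw [← Module.End.mul_apply, op_mul_inv, Module.End.one_apply]⟩
    have e1 : (op T * S * op T⁻¹ - S) (op T y) = N (S y) - S (N y) := by
      rw [LinearMap.sub_apply, Module.End.mul_apply, Module.End.mul_apply, ← Module.End.mul_apply (op T⁻¹), op_inv_mul,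
        Module.End.one_apply, hT, hT, hNx, hNx, map_add]
      abel
    rw [e1, hNx, hNx, map_smul]
    exact Submodule.sub_mem _ (Submodule.smul_mem _ _ hw') (Submodule.smul_mem _ _ hSw)
  have hNS : N * S = S * N := by
    rw [hN, sub_mul, one_mul, mul_sub, mul_one, sub_left_inj]
    calc op T * S = op T * S * op T⁻¹ * op T := by rw [mul_assoc _ (op T⁻¹), op_inv_mul, mul_one]
      _ = S * op T := by rw [sub_eq_zero.mp hY]
  have hN0 : N = 0 := hsmall N hNS (by
    rintro _ ⟨x, rfl⟩
    rw [hNx]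
    exact Submodule.smul_mem _ _ hw')
  obtain ⟨z, hz⟩ := Lead.Symp.exists_form_ne hw
  have h0 := LinearMap.congr_fun hN0 z
  rw [hNx, LinearMap.zero_apply, smul_eq_zero] at h0
  rcases h0 with h0 | h0
  · rw [Lead.Symp.form_swap, neg_eq_zero] at h0
    exact hz h0
  · exact hw h0

theorem psp_six : TwoCovered (Cfsg.PSp 3 F) := by
  classical
  obtain ⟨e, he⟩ := exists_irreducible_cubic (F := F)
  obtain ⟨S, hSa, hSp⟩ := exists_selfAdj_root he (asCubic_natDegree e)
  obtain ⟨t', ht'⟩ := normC_miss he (asCubic_natDegree e) S hSp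
  obtain ⟨u, hu⟩ : ∃ u : Fin 3 ⊕ Fin 3 → F, u = Pi.single (Sum.inr 0) 1 := ⟨_, rfl⟩
  obtain ⟨v, hv⟩ : ∃ v : Fin 3 ⊕ Fin 3 → F, v = Pi.single (Sum.inl 0) 1 := ⟨_, rfl⟩
  obtain ⟨P, hP⟩ : ∃ P, P = Submodule.span F {u, v} := ⟨_, rfl⟩
  have huv : sympForm 3 F u v = 1 := by
    rw [hu, hv, Lead.Symp.form_eq]
    simp [Pi.single_apply, Fin.sum_univ_three]
  obtain ⟨w, hw⟩ : ∃ w : Fin 3 ⊕ Fin 3 → F, w = v + Pi.single (Sum.inl 1) 1 := ⟨_, rfl⟩
  obtain ⟨t, ht⟩ : ∃ t : Matrix.symplecticGroup (Fin 3) F, t ∉ subStab P := by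
    refine ⟨⟨_, Lead.Symp.trans_mem w 1⟩, fun hmem => ?_⟩
    have h := hmem u (hP ▸ Submodule.subset_span (Set.mem_insert _ _))
    rw [op_apply, hP, Submodule.mem_span_pair] at h
    obtain ⟨a, b, hab⟩ := h
    have huw : sympForm 3 F u w = 1 := by
      rw [hu, hw, hv, Lead.Symp.form_eq]
      simp [Pi.single_apply, Fin.sum_univ_three]
    have h' := congrFun (hab.trans (Lead.Symp.trans_mulVec w u 1)) (Sum.inl 1)
    rw [huw] at h'
    simp [hu, hv, hw, Pi.single_apply] at h'
  refine twoCovered_quotient _ _ _ (miss_of_scalar_invariant (center_le_subStab P) ht)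
    (miss_of_scalar_invariant (center_le_normC S) ht') fun g => ?_
  have main : HasPlane (std (F := F)) (op g) ∨ HasRoot (std (F := F)) e (op g) := by
    by_cases hex : ∃ (x : Fin 3 ⊕ Fin 3 → F) (c : F), x ≠ 0 ∧ (op g + op g⁻¹) x = c • x
    · obtain ⟨x, c, hx0, hx⟩ := hex
      exact eigen_good (std (F := F)) (op_inv_mul g) (op_mul_inv g) (op_adj g) hx0 hx e
    · push Not at hex
      refine Or.inr (noeigen_good (std (F := F)) (op_inv_mul g) (op_mul_inv g) (op_adj g) (fun x c hx => ?_) he)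
      by_contra hx0
      exact hex x c hx0 hx
  rcases main with ⟨a, b, hab, ha, hb⟩ | ⟨J, r, hJa, hJp, hgJ⟩
  · rw [std_B] at hab
    obtain ⟨A, -, hAa, hAb⟩ := Lead.Symp.exists_pair hab huv
    rw [← op_apply] at hAa hAb
    refine Or.inl ⟨A, fun x hx => ?_⟩
    rw [hP, Submodule.mem_span_pair] at hx
    obtain ⟨c, d, rfl⟩ := hx
    have himg : ∀ z ∈ Submodule.span F {a, b}, op A z ∈ P := fun z hz => by
      obtain ⟨c', d', rfl⟩ := Submodule.mem_span_pair.mp hz
      rw [hP, map_add, map_smul, map_smul, hAa, hAb]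
      exact Submodule.mem_span_pair.mpr ⟨c', d', rfl⟩
    have e1 : op (A * g * A⁻¹) (c • u + d • v) = op A (op g (c • a + d • b)) := by
      rw [map_mul, map_mul, Module.End.mul_apply, Module.End.mul_apply]
      congr 2
      rw [← hAa, ← hAb, ← map_smul, ← map_smul, ← map_add, ← Module.End.mul_apply, op_inv_mul, Module.End.one_apply]
    rw [e1]
    refine himg _ ?_
    rw [map_add, map_smul, map_smul]
    exact Submodule.add_mem _ (Submodule.smul_mem _ _ ha) (Submodule.smul_mem _ _ hb)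
  · obtain ⟨x, hx⟩ := conj_roots he (asCubic_natDegree e) J S hJp hSp hJa hSa
    obtain ⟨R, hR⟩ : ∃ R, R = algebraMap F (Module.End F (Fin 3 ⊕ Fin 3 → F)) r := ⟨_, rfl⟩
    rw [← hR] at hgJ
    refine Or.inr ⟨x, fun X hX => ?_⟩
    obtain ⟨y, hy⟩ : ∃ y, y = x * g * x⁻¹ := ⟨_, rfl⟩
    rw [← hy]
    have hxR : op x * R = R * op x := hR ▸ (Algebra.commutes r (op x)).symm
    have hxi : J * op x⁻¹ = op x⁻¹ * S := by
      calc J * op x⁻¹ = op x⁻¹ * (op x * J) * op x⁻¹ := by rw [← mul_assoc, op_inv_mul, one_mul]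
        _ = op x⁻¹ * S := by rw [hx, mul_assoc, mul_assoc S, op_mul_inv, mul_one]
    have hyS : op y * S = (S + R) * op y := by
      rw [hy, map_mul, map_mul]
      calc op x * op g * op x⁻¹ * S = op x * (op g * J) * op x⁻¹ := by rw [mul_assoc, ← hxi]; simp only [mul_assoc]
        _ = (op x * (J + R)) * op g * op x⁻¹ := by rw [hgJ]; simp only [mul_assoc]
        _ = (S + R) * (op x * op g * op x⁻¹) := by rw [mul_add, hx, hxR, ← add_mul]; simp only [mul_assoc]
    have hySi : op y⁻¹ * (S + R) = S * op y⁻¹ := by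
      calc op y⁻¹ * (S + R) = op y⁻¹ * ((S + R) * op y) * op y⁻¹ := by
            rw [mul_assoc, mul_assoc (S + R), op_mul_inv, mul_one]
        _ = S * op y⁻¹ := by rw [← hyS, ← mul_assoc, op_inv_mul, one_mul]
    have h1 : op y * X * op y⁻¹ * (S + R) = (S + R) * (op y * X * op y⁻¹) := by
      rw [mul_assoc (op y * X), hySi, ← mul_assoc, mul_assoc (op y) X S, hX, ← mul_assoc, hyS]
      simp only [mul_assoc]
    rw [mul_add, add_mul, hR, ← Algebra.commutes r (op y * X * op y⁻¹), add_left_inj] at h1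
    exact h1

end Cfsg.Agent.Small.Cover2.SympSix
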