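import Cfsg.Agent.Lib.Small.Cover2.Basic
import Cfsg.Agent.Lib.Small.Cover2.Similar
import Cfsg.Agent.Lib.Small.Unitary.Orbits
import Cfsg.Agent.Lib.Classical.UnitaryOrders

/-!
Frames of the special unitary groups and roots of their characteristic polynomials.
-/

set_option autoImplicit false
set_option linter.unusedSectionVars false

namespace Cfsg.Agent.Small.Cover2.Herm

open Matrix Cfsg.Agent.Small.Unitary

variable {F : Type*} [Field F] [Fintype F] [StarRing F] {q : ℕ}

/-- The matrix of an element of SU. -/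
abbrev mat {n : ℕ} (g : ↥(Cfsg.SU n F q)) : Matrix (Fin n) (Fin n) F :=
  ((g : Matrix.SpecialLinearGroup (Fin n) F) : Matrix (Fin n) (Fin n) F)

theorem mat_mul {n : ℕ} (a b : ↥(Cfsg.SU n F q)) : mat (a * b) = mat a * mat b :=
  Matrix.SpecialLinearGroup.coe_mul _ _

theorem mat_one {n : ℕ} : mat (1 : ↥(Cfsg.SU n F q)) = 1 := Matrix.SpecialLinearGroup.coe_one

theorem mat_inv_mul {n : ℕ} (a : ↥(Cfsg.SU n F q)) : mat a⁻¹ * mat a = 1 := by
  rw [← mat_mul, inv_mul_cancel, mat_one]

theorem mat_mul_inv {n : ℕ} (a : ↥(Cfsg.SU n F q)) : mat a * mat a⁻¹ = 1 := by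
  rw [← mat_mul, mul_inv_cancel, mat_one]

theorem mat_iso (hstar : ∀ x : F, star x = x ^ q) {n : ℕ} (g : ↥(Cfsg.SU n F q)) : (mat g)ᴴ * mat g = 1 :=
  Unitary.conjTranspose_mul_self hstar g

theorem herm_mat (hstar : ∀ x : F, star x = x ^ q) {n : ℕ} (g : ↥(Cfsg.SU n F q)) (u v : Fin n → F) :
    herm (mat g *ᵥ u) (mat g *ᵥ v) = herm u v :=
  Unitary.herm_act hstar g u v

theorem exists_mat (hstar : ∀ x : F, star x = x ^ q) {n : ℕ} (M : Matrix (Fin n) (Fin n) F) (hM : Mᴴ * M = 1)
    (hd : M.det = 1) : ∃ g : ↥(Cfsg.SU n F q), mat g = M :=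
  ⟨Unitary.mkSU hstar M hM hd, rfl⟩

theorem center_scalar (hF : Fintype.card F = q ^ 2) {n : ℕ} (hn : 2 ≤ n) {z : ↥(Cfsg.SU n F q)}
    (hz : z ∈ Subgroup.center ↥(Cfsg.SU n F q)) : ∃ c : F, mat z = c • (1 : Matrix (Fin n) (Fin n) F) := by
  obtain ⟨-, -, σ, -, -, -, -, hσ⟩ := Cfsg.Agent.Classical.exists_usigma hF
  exact Cfsg.Agent.Classical.UCount.scalar_of_commute hσ hn fun x =>
    congrArg mat (Subgroup.mem_center_iff.mp hz x)

theorem herm_cols {n : ℕ} (A B : Matrix (Fin n) (Fin n) F) (i j : Fin n) :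
    (Aᴴ * B) i j = herm (fun k => A k i) (fun k => B k j) := rfl

theorem star_ne_zero {a : F} (h : a ≠ 0) : star a ≠ 0 := fun e => h (star_eq_zero.mp e)

/-- Every element of norm one is a quotient by the conjugate. -/
theorem hilbert90 (hstar : ∀ x : F, star x = x ^ q) (hF : Fintype.card F = q ^ 2) {r : F} (hr : star r * r = 1) :
    ∃ a : F, a ≠ 0 ∧ a = r * star a := by
  obtain ⟨b, hb⟩ := Hermitian.exists_star_ne hstar hF
  have key : ∀ x : F, x + r * star x = r * star (x + r * star x) := by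
    intro x
    rw [star_add, star_mul', star_star]
    linear_combination (-x) * hr
  by_cases h1 : (1 : F) + r * star 1 = 0
  · refine ⟨b + r * star b, fun h => hb ?_, key b⟩
    rw [star_one, mul_one] at h1
    linear_combination -h + star b * h1
  · exact ⟨_, h1, key 1⟩

/-- Frames with one Gram matrix and one determinant are moved to one another. -/
theorem exists_frame (hstar : ∀ x : F, star x = x ^ q) {n : ℕ} (A B J : Matrix (Fin n) (Fin n) F)
    (hA : Aᴴ * A = J) (hB : Bᴴ * B = J) (hJ : J.det ≠ 0) (hd : A.det = B.det) :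
    ∃ x : ↥(Cfsg.SU n F q), mat x * A = B := by
  have hA0 : A.det ≠ 0 := fun h => hJ (by rw [← hA, Matrix.det_mul, h, mul_zero])
  have hAu : IsUnit A.det := hA0.isUnit
  obtain ⟨x, hx⟩ := exists_mat hstar (B * A⁻¹) (by
    rw [Matrix.conjTranspose_mul, mul_assoc, ← mul_assoc Bᴴ, hB, ← hA]
    calc (A⁻¹)ᴴ * (Aᴴ * A * A⁻¹) = (A⁻¹)ᴴ * Aᴴ := by rw [mul_assoc Aᴴ, Matrix.mul_nonsing_inv _ hAu, mul_one]
      _ = (A * A⁻¹)ᴴ := (Matrix.conjTranspose_mul _ _).symm
      _ = 1 := by rw [Matrix.mul_nonsing_inv _ hAu, Matrix.conjTranspose_one]) (by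
    rw [Matrix.det_mul, Matrix.det_nonsing_inv, Ring.inverse_eq_inv', ← hd, mul_inv_cancel₀ hA0])
  exact ⟨x, by rw [hx, mul_assoc, Matrix.nonsing_inv_mul _ hAu, mul_one]⟩

/-- An anisotropic vector is moved to the first basis vector. -/
theorem move_aniso (hstar : ∀ x : F, star x = x ^ q) (hF : Fintype.card F = q ^ 2) {l : ℕ}
    (v : Fin (l + 2) → F) (hv : herm v v ≠ 0) :
    ∃ (x : ↥(Cfsg.SU (l + 2) F q)) (c : F), mat x *ᵥ v = c • Pi.single (0 : Fin (l + 2)) (1 : F) := by
  classical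
  obtain ⟨s, hs0, hs⟩ := Hermitian.exists_norm hstar hF (inv_ne_zero hv) (by rw [star_inv₀, star_herm])
  obtain ⟨w, hw⟩ : ∃ w, w = s • v := ⟨_, rfl⟩
  have hw1 : herm w w = 1 := by
    rw [hw, herm_smul_left, herm_smul_right, ← mul_assoc, hs, inv_mul_cancel₀ hv]
  have hw0 : w ≠ 0 := fun h => by simp [h, herm_zero_left] at hw1
  obtain ⟨P, hPd, hP0⟩ := exists_det_one_col w hw0
  have hPcol : (fun k => P k 0) = w := funext hP0
  obtain ⟨t, ht⟩ : ∃ t : Fin (l + 1) → F, t = fun j => -((Pᴴ * P) 0 j.succ) := ⟨_, rfl⟩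
  obtain ⟨M, hM⟩ : ∃ M, M = P * rowT t := ⟨_, rfl⟩
  have hG : Mᴴ * M = (rowT t)ᴴ * (Pᴴ * P) * rowT t := by
    rw [hM, Matrix.conjTranspose_mul]; simp only [mul_assoc]
  have h00 : (Pᴴ * P) 0 0 = 1 := by rw [herm_cols, hPcol, hw1]
  have g00 : (Mᴴ * M) 0 0 = 1 := by rw [hG, rowT_congr_zero_zero, h00]
  have g0s : ∀ j : Fin (l + 1), (Mᴴ * M) 0 j.succ = 0 := fun j => by
    rw [hG, rowT_congr_zero_succ, h00, ht]
    ring
  have gh : (Mᴴ * M)ᴴ = Mᴴ * M := by rw [Matrix.conjTranspose_mul, Matrix.conjTranspose_conjTranspose]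
  have hblock : Mᴴ * M = diag1 1 ((Mᴴ * M).submatrix Fin.succ Fin.succ) := by
    ext i j
    induction i using Fin.cases <;> induction j using Fin.cases
    · rw [g00, diag1_zero_zero]
    · rw [g0s, diag1_zero_succ]
    · rename_i i
      conv_lhs => rw [← gh, Matrix.conjTranspose_apply, g0s, star_zero]
      rw [diag1_succ_zero]
    · rw [diag1_succ_succ]; rfl
  have hMd : M.det = 1 := by rw [hM, Matrix.det_mul, hPd, rowT_det, mul_one]
  obtain ⟨Hs, hHs⟩ : ∃ Hs, Hs = (Mᴴ * M).submatrix Fin.succ Fin.succ := ⟨_, rfl⟩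
  rw [← hHs] at hblock
  have hHsh : Hsᴴ = Hs := by rw [hHs, Matrix.conjTranspose_submatrix, gh]
  have hHsu : IsUnit Hs := by
    have h := congrArg Matrix.det hblock
    rw [Matrix.det_mul, Matrix.det_conjTranspose, hMd, star_one, one_mul, diag1_det, one_mul] at h
    rw [Matrix.isUnit_iff_isUnit_det, ← h]
    exact isUnit_one
  obtain ⟨R, -, hR⟩ := Hermitian.exists_congr_one hstar hF _ Hs hHsh hHsu
  have hdiag1 : ∀ c : F, star c * c = 1 →
      (diag1 c R)ᴴ * (Mᴴ * M) * diag1 c R = 1 := by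
    intro c hc
    have hh : ((diag1 c R)ᴴ * (Mᴴ * M) * diag1 c R)ᴴ = (diag1 c R)ᴴ * (Mᴴ * M) * diag1 c R := by
      simp only [Matrix.conjTranspose_mul, Matrix.conjTranspose_conjTranspose, mul_assoc]
    rw [hblock] at hh ⊢
    ext i j
    induction i using Fin.cases <;> induction j using Fin.cases
    · rw [diag1_congr_zero_zero, diag1_zero_zero, mul_one, hc, Matrix.one_apply_eq]
    · rw [diag1_congr_zero_succ]
      simp [diag1_zero_succ, Ne.symm (Fin.succ_ne_zero _)]
    · rename_i i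
      have : ((diag1 c R)ᴴ * diag1 1 Hs * diag1 c R) i.succ 0 = 0 := by
        rw [← hh, Matrix.conjTranspose_apply, diag1_congr_zero_succ]
        simp [diag1_zero_succ]
      rw [this, Matrix.one_apply_ne (Fin.succ_ne_zero i)]
    · rename_i i j
      rw [diag1_congr_succ_succ, show (diag1 1 Hs).submatrix Fin.succ Fin.succ = Hs from by
        ext a b; rw [Matrix.submatrix_apply, diag1_succ_succ], hR]
      simp [Matrix.one_apply]
  have hdet : star R.det * R.det = 1 := by
    have h := congrArg Matrix.det (hdiag1 1 (by rw [star_one, one_mul]))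
    rw [Matrix.det_mul, Matrix.det_mul, Matrix.det_mul, Matrix.det_conjTranspose, Matrix.det_conjTranspose,
      hMd, star_one, one_mul, mul_one, diag1_det, one_mul, Matrix.det_one] at h
    exact h
  obtain ⟨d, hd⟩ : ∃ d, d = R.det⁻¹ := ⟨_, rfl⟩
  have hR0 : R.det ≠ 0 := right_ne_zero_of_mul_eq_one hdet
  have hd1 : star d * d = 1 := by rw [hd, star_inv₀, ← mul_inv, hdet, inv_one]
  obtain ⟨U, hU⟩ : ∃ U, U = M * diag1 d R := ⟨_, rfl⟩
  obtain ⟨x, hx⟩ := exists_mat hstar U (by
      rw [hU, Matrix.conjTranspose_mul, mul_assoc, ← mul_assoc Mᴴ, ← mul_assoc, hdiag1 d hd1])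
    (by rw [hU, Matrix.det_mul, hMd, diag1_det, one_mul, hd, inv_mul_cancel₀ hR0])
  have hcol : mat x *ᵥ Pi.single (0 : Fin (l + 2)) (1 : F) = (d * s) • v := by
    rw [hx, Matrix.mulVec_single_one]
    funext k
    rw [← smul_smul, ← hw, hU, hM]
    simp [Matrix.mul_apply, Fin.sum_univ_succ (n := l + 1), diag1_zero_zero, diag1_succ_zero, rowT_zero_zero,
      rowT_succ_zero, hP0, mul_comm]
  refine ⟨x⁻¹, (d * s)⁻¹, ?_⟩
  have h := congrArg (fun y => mat x⁻¹ *ᵥ y) hcol
  simp only [Matrix.mulVec_mulVec, mat_inv_mul, Matrix.one_mulVec, Matrix.mulVec_smul] at h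
  rw [h, inv_smul_smul₀ (mul_ne_zero (right_ne_zero_of_mul_eq_one hd1) hs0)]

/-- An element of the ground field among those of an extension. -/
theorem mem_of_pow_card {K : Type*} [Field K] [Algebra F K] {x : K} (h : x ^ Fintype.card F = x) :
    ∃ c : F, algebraMap F K c = x := by
  classical
  open Polynomial in
  obtain ⟨S, hS⟩ : ∃ S, S = Finset.univ.image (algebraMap F K) := ⟨_, rfl⟩
  have hSr : S ⊆ (Polynomial.X ^ Fintype.card F - Polynomial.X : Polynomial K).roots.toFinset := by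
    intro y hy
    rw [hS, Finset.mem_image] at hy
    obtain ⟨c, -, rfl⟩ := hy
    rw [Multiset.mem_toFinset, Polynomial.mem_roots (FiniteField.X_pow_card_sub_X_ne_zero K Fintype.one_lt_card)]
    simp [Polynomial.IsRoot, ← map_pow, FiniteField.pow_card]
  have hcard : (Polynomial.X ^ Fintype.card F - Polynomial.X : Polynomial K).roots.toFinset.card ≤ S.card := by
    refine (Multiset.toFinset_card_le _).trans ((Polynomial.card_roots' _).trans ?_)
    rw [FiniteField.X_pow_card_sub_X_natDegree_eq K Fintype.one_lt_card, hS,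
      Finset.card_image_of_injective _ (algebraMap F K).injective, Finset.card_univ]
  have hx : x ∈ S := by
    rw [Finset.eq_of_subset_of_card_le hSr hcard, Multiset.mem_toFinset,
      Polynomial.mem_roots (FiniteField.X_pow_card_sub_X_ne_zero K Fintype.one_lt_card)]
    simp [Polynomial.IsRoot, h]
  rw [hS, Finset.mem_image] at hx
  obtain ⟨c, -, hc⟩ := hx
  exact ⟨c, hc⟩

/-- A quadratic unitary to itself has a root. -/
theorem quad_root (hstar : ∀ x : F, star x = x ^ q) (hF : Fintype.card F = q ^ 2) {t d : F}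
    (hd : star d * d = 1) (ht : t = d * star t) : ∃ r : F, r * r - t * r + d = 0 := by
  classical
  open Polynomial in
  by_contra! hno
  obtain ⟨f, hf⟩ : ∃ f : Polynomial F, f = Polynomial.X ^ 2 - Polynomial.C t * Polynomial.X + Polynomial.C d :=
    ⟨_, rfl⟩
  have hfdeg : f.natDegree = 2 := by rw [hf]; compute_degree!
  have hirr : Irreducible f := Polynomial.irreducible_of_degree_le_three_of_not_isRoot
    (by rw [hfdeg]; decide) fun r hr => hno r (by
      rw [Polynomial.IsRoot, hf] at hr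
      simpa [sq] using hr)
  haveI : Fact (Irreducible f) := ⟨hirr⟩
  set K := AdjoinRoot f
  set α : K := AdjoinRoot.root f
  set ι := algebraMap F K
  have hα : α ^ 2 - ι t * α + ι d = 0 := by
    have h : Polynomial.aeval α f = 0 := by rw [AdjoinRoot.aeval_eq, AdjoinRoot.mk_self]
    rw [congrArg (Polynomial.aeval α) hf] at h
    simpa [ι] using h
  have hd0 : d ≠ 0 := right_ne_zero_of_mul_eq_one hd
  have hα0 : α ≠ 0 := fun h => hd0 (by
    rw [h] at hα
    simpa [ι] using hα)
  obtain ⟨p, hp⟩ := CharP.exists F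
  obtain ⟨n, hpp, hn⟩ := FiniteField.card F p
  haveI : CharP K p := charP_of_injective_algebraMap ι.injective p
  obtain ⟨e, -, hq⟩ : ∃ e ≤ (n : ℕ), q = p ^ e :=
    (Nat.dvd_prime_pow hpp).mp (hn ▸ hF ▸ dvd_pow_self q two_ne_zero)
  haveI : ExpChar K p := ExpChar.prime hpp
  have qadd : ∀ a b : K, (a + b) ^ q = a ^ q + b ^ q := fun a b => by rw [hq]; exact add_pow_expChar_pow a b p e
  have qmap : ∀ a : F, (ι a) ^ q = ι (star a) := fun a => by rw [hstar, map_pow]
  have hQ : ∀ a : K, (a ^ q) ^ q = a ^ Fintype.card F := fun a => by rw [← pow_mul, hF, sq]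
  have qsub : ∀ a b : K, (a - b) ^ q = a ^ q - b ^ q := fun a b => by rw [hq]; exact sub_pow_expChar_pow (p := p) (n := e) a b
  have hqi : Function.Injective fun a : K => a ^ q := by
    intro a b h
    have : (a - b) ^ q = 0 := by rw [qsub]; exact sub_eq_zero.mpr h
    exact sub_eq_zero.mp (pow_eq_zero_iff (by have := Hermitian.q_two_le hF; omega) |>.mp this)
  have h1 : (α ^ q) ^ 2 - ι (star t) * α ^ q + ι (star d) = 0 := by
    have h := congrArg (fun a : K => a ^ q) hα
    simp only [qadd, qsub, mul_pow, qmap, zero_pow (show q ≠ 0 by have := Hermitian.q_two_le hF; omega)] at h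
    rw [← pow_mul, mul_comm q 2, pow_mul]
    exact h
  have h2 : ((α ^ Fintype.card F)) ^ 2 - ι t * α ^ Fintype.card F + ι d = 0 := by
    rw [← hQ]
    have h := congrArg (fun a : K => a ^ q) h1
    simp only [qadd, qsub, mul_pow, qmap, star_star, zero_pow (show q ≠ 0 by have := Hermitian.q_two_le hF; omega)] at h
    rw [← pow_mul, mul_comm q 2, pow_mul] at *
    exact h
  have hQne : α ^ Fintype.card F ≠ α := fun h => by
    obtain ⟨c, hc⟩ := mem_of_pow_card h
    refine hno c (ι.injective ?_)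
    rw [← hc] at hα
    rw [map_add, map_sub, map_mul, map_mul, map_zero]
    linear_combination hα
  have hsum : α + α ^ Fintype.card F = ι t := by
    refine mul_left_cancel₀ (sub_ne_zero.mpr hQne) ?_
    linear_combination h2 - hα
  obtain ⟨β, hβ⟩ : ∃ β : K, β = (α ^ q)⁻¹ := ⟨_, rfl⟩
  have hαq : α ^ q ≠ 0 := pow_ne_zero _ hα0
  have hβroot : β ^ 2 - ι t * β + ι d = 0 := by
    have e1 : ι d * ι (star d) = 1 := by rw [← map_mul, mul_comm, hd, map_one]
    have e2 : ι d * ι (star t) = ι t := by rw [← map_mul, ← ht]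
    have hg : β * α ^ q = 1 := by rw [hβ, inv_mul_cancel₀ hαq]
    refine mul_left_cancel₀ (pow_ne_zero 2 hαq) ?_
    linear_combination (β * α ^ q + 1 - ι t * α ^ q) * hg + ι d * h1 + α ^ q * e2 - e1
  have hcases : (β - α) * (β - α ^ Fintype.card F) = 0 := by
    linear_combination hβroot - hα - (β - α) * hsum
  have hnorm : α ^ (q + 1) ≠ 1 := fun h => hQne (by
    have h' : (α ^ (q + 1)) ^ (q - 1) = 1 := by rw [h, one_pow]
    rw [← pow_mul, ← Hermitian.sq_sub_one, ← hF] at h'
    calc α ^ Fintype.card F = α ^ (Fintype.card F - 1) * α := by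
          rw [← pow_succ, Nat.sub_add_cancel Fintype.card_pos]
      _ = α := by rw [h', one_mul])
  rcases mul_eq_zero.mp hcases with h | h
  · refine hnorm ?_
    rw [pow_succ]
    calc α ^ q * α = α ^ q * β := by rw [sub_eq_zero.mp h]
      _ = 1 := by rw [hβ, mul_inv_cancel₀ hαq]
  · refine hnorm (hqi (?_ : (α ^ (q + 1)) ^ q = 1 ^ q))
    rw [one_pow, pow_succ, mul_pow, hQ, ← sub_eq_zero.mp h, hβ, inv_mul_cancel₀ hαq]

/-- An isometry with a quadratic relation on an anisotropic vector has an eigenvector. -/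
theorem quad_eigen (hstar : ∀ x : F, star x = x ^ q) (hF : Fintype.card F = q ^ 2) {n : ℕ}
    (N : (Fin n → F) →ₗ[F] (Fin n → F)) {x : Fin n → F} {t d : F} (ha : herm x x ≠ 0)
    (hrel : N (N x) = t • N x - d • x)
    (hiso : ∀ y z : Fin n → F, y ∈ ({x, N x} : Set (Fin n → F)) → z ∈ ({x, N x} : Set (Fin n → F)) →
      herm (N y) (N z) = herm y z)
    (hind : ∀ c₁ c₂ : F, c₁ • x + c₂ • N x = 0 → c₁ = 0 ∧ c₂ = 0) :
    ∃ (c₁ c₂ r : F), c₁ • x + c₂ • N x ≠ 0 ∧ N (c₁ • x + c₂ • N x) = r • (c₁ • x + c₂ • N x) := by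
  obtain ⟨a, hA⟩ : ∃ a, a = herm x x := ⟨_, rfl⟩
  obtain ⟨b, hB⟩ : ∃ b, b = herm x (N x) := ⟨_, rfl⟩
  have hxa : herm (N x) (N x) = a := by rw [hiso x x (Or.inl rfl) (Or.inl rfl), hA]
  have hbx : herm (N x) x = star b := by rw [hB, star_herm]
  have e1 : t * a - d * star b = b := by
    have h := hiso x (N x) (Or.inl rfl) (Or.inr rfl)
    rw [hrel, herm_sub_right, herm_smul_right, herm_smul_right, hxa, hbx, ← hB] at h
    exact h
  have hsa : star a = a := by rw [hA, star_herm]
  have e1' : star t * a - star d * b = star b := by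
    have h := congrArg star e1
    rwa [star_sub, star_mul', star_mul', star_star, hsa] at h
  have e2 : star t * (t * a - d * star b) - star d * (t * b - d * a) = a := by
    have h := hiso (N x) (N x) (Or.inr rfl) (Or.inr rfl)
    rw [hrel, herm_sub_left, herm_smul_left, herm_smul_left, herm_sub_right, herm_sub_right, herm_smul_right,
      herm_smul_right, herm_smul_right, herm_smul_right, hxa, hbx, ← hA, ← hB] at h
    exact h
  rw [← hA] at ha
  by_cases hdeg : a * a = b * star b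
  · refine ⟨-b, a, d * star b / a, fun h => ha (hind _ _ h).2, ?_⟩
    rw [map_add, map_smul, map_smul, hrel, smul_sub, smul_smul, smul_smul, smul_add, smul_smul, smul_smul]
    rw [show d * star b / a * -b = -(a * d) by field_simp; linear_combination d * hdeg,
      show d * star b / a * a = a * t - b by field_simp; linear_combination -e1]
    module
  have hd : star d * d = 1 := by
    have h : (star d * d - 1) * (a * a - b * star b) = 0 := by
      linear_combination a * e2 - (star t * a - star d * b) * e1 - b * e1' 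
    exact sub_eq_zero.mp ((mul_eq_zero.mp h).resolve_right (sub_ne_zero.mpr hdeg))
  have ht : t = d * star t := by
    refine mul_right_cancel₀ ha ?_
    linear_combination e1 - d * e1' - b * hd
  obtain ⟨r, hr⟩ := quad_root hstar hF hd ht
  refine ⟨r - t, 1, r, fun h => one_ne_zero (hind _ _ h).2, ?_⟩
  rw [map_add, map_smul, one_smul, hrel, smul_add, smul_smul]
  rw [show r * (r - t) = -d by linear_combination hr]
  module

end Cfsg.Agent.Small.Cover2.Herm
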