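import Cfsg.Agent.Lib.Small.Cover2.Unitary

/-!
The four-dimensional unitary group is covered by the stabilisers of an anisotropic line and of a
totally isotropic plane.
-/

set_option autoImplicit false
set_option linter.unusedSectionVars false

namespace Cfsg.Agent.Small.Cover2.Herm

open Matrix Cfsg.Agent.Small.Unitary Polynomial

variable {F : Type*} [Field F] [Fintype F] [StarRing F] {q : ℕ}

/-- The stabiliser of a subspace. -/
def subStab {n : ℕ} (W : Submodule F (Fin n → F)) : Subgroup ↥(Cfsg.SU n F q) where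
  carrier := {g | ∀ x ∈ W, mat g *ᵥ x ∈ W}
  one_mem' := fun x hx => by rwa [mat_one, Matrix.one_mulVec]
  mul_mem' := fun {a b} ha hb x hx => by
    rw [mat_mul, ← Matrix.mulVec_mulVec]; exact ha _ (hb _ hx)
  inv_mem' := fun {a} ha => by
    intro x hx
    let L : W →ₗ[F] W := (Matrix.mulVecLin (mat a)).restrict ha
    have hinj : Function.Injective L := fun y z h => Subtype.ext (by
      have h' : mat a *ᵥ y.1 = mat a *ᵥ z.1 := congrArg Subtype.val h
      have := congrArg (fun u => mat a⁻¹ *ᵥ u) h'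
      simpa [Matrix.mulVec_mulVec, mat_inv_mul] using this)
    obtain ⟨y, hy⟩ := LinearMap.injective_iff_surjective.mp hinj ⟨x, hx⟩
    have hy' : mat a *ᵥ (y : Fin n → F) = x := congrArg Subtype.val hy
    rw [← hy', Matrix.mulVec_mulVec, mat_inv_mul, Matrix.one_mulVec]
    exact y.2

theorem center_le_subStab (hF : Fintype.card F = q ^ 2) {n : ℕ} (hn : 2 ≤ n) (W : Submodule F (Fin n → F)) :
    Subgroup.center ↥(Cfsg.SU n F q) ≤ subStab W := fun z hz x hx => by
  obtain ⟨c, hc⟩ := center_scalar hF hn hz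
  rw [hc, Matrix.smul_mulVec, Matrix.one_mulVec]
  exact W.smul_mem c hx

theorem single_herm {n : ℕ} (k : Fin n) : herm (Pi.single k (1 : F)) (Pi.single k 1) = 1 := by
  rw [herm_single_left, star_one, one_mul, Pi.single_eq_same]

theorem line_miss (hstar : ∀ x : F, star x = x ^ q) (hF : Fintype.card F = q ^ 2) {l : ℕ} :
    ∃ t : ↥(Cfsg.SU (l + 2) F q), t ∉ subStab (F ∙ Pi.single (0 : Fin (l + 2)) (1 : F)) := by
  obtain ⟨x, c, hx⟩ := move_aniso hstar hF (Pi.single (1 : Fin (l + 2)) (1 : F))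
    (by rw [single_herm]; exact one_ne_zero)
  refine ⟨x, fun h => ?_⟩
  obtain ⟨d, hd⟩ := Submodule.mem_span_singleton.mp (h _ (Submodule.mem_span_singleton_self _))
  have key : ∀ y, mat x *ᵥ y = 0 → y = 0 := fun y hy => by
    rw [← Matrix.one_mulVec y, ← mat_inv_mul x, ← Matrix.mulVec_mulVec, hy, Matrix.mulVec_zero]
  have h2 := key (d • Pi.single (1 : Fin (l + 2)) (1 : F) - c • Pi.single (0 : Fin (l + 2)) (1 : F))
    (by rw [Matrix.mulVec_sub, Matrix.mulVec_smul, Matrix.mulVec_smul, hx, ← hd, smul_smul, smul_smul, mul_comm d c, sub_self])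
  have e1 : d = 0 := by
    have := congrFun h2 1
    simpa using this
  rw [e1, zero_smul] at hd
  have := congrFun (key _ hd.symm) 0
  simp at this

theorem to_line (hstar : ∀ x : F, star x = x ^ q) (hF : Fintype.card F = q ^ 2) {l : ℕ}
    (g : ↥(Cfsg.SU (l + 2) F q)) {v : Fin (l + 2) → F} {μ : F} (hv : herm v v ≠ 0) (he : mat g *ᵥ v = μ • v) :
    ∃ x : ↥(Cfsg.SU (l + 2) F q), x * g * x⁻¹ ∈ subStab (F ∙ Pi.single (0 : Fin (l + 2)) (1 : F)) := by
  obtain ⟨x, c, hx⟩ := move_aniso hstar hF v hv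
  refine ⟨x, fun y hy => ?_⟩
  obtain ⟨d, rfl⟩ := Submodule.mem_span_singleton.mp hy
  have hc : c ≠ 0 := fun h => hv (by
    rw [← herm_mat hstar x, hx, h, zero_smul, herm_zero_left])
  have hinv : mat x⁻¹ *ᵥ Pi.single (0 : Fin (l + 2)) (1 : F) = c⁻¹ • v := by
    have h := congrArg (fun z => mat x⁻¹ *ᵥ z) hx
    simp only [Matrix.mulVec_mulVec, mat_inv_mul, Matrix.one_mulVec, Matrix.mulVec_smul] at h
    rw [h, inv_smul_smul₀ hc]
  refine Submodule.mem_span_singleton.mpr ⟨d * μ, ?_⟩
  rw [mat_mul, mat_mul, Matrix.mulVec_smul, ← Matrix.mulVec_mulVec, ← Matrix.mulVec_mulVec, hinv]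
  simp only [Matrix.mulVec_smul, he, hx, smul_smul]
  congr 1
  field_simp

theorem herm_nondeg {n : ℕ} {z : Fin n → F} (h : ∀ x, herm z x = 0) : z = 0 := by
  funext k
  have := h (Pi.single k 1)
  rwa [herm_single_right, mul_one, star_eq_zero] at this

/-- A partner of an isotropic vector orthogonal to prescribed ones. -/
theorem exists_trace (hstar : ∀ x : F, star x = x ^ q) (hF : Fintype.card F = q ^ 2) {h : F} (hh : star h = h) :
    ∃ a : F, h + a + star a = 0 := by
  obtain ⟨c, hc⟩ := Hermitian.exists_trace_ne hstar hF (one_ne_zero (α := F))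
  rw [mul_one, star_star] at hc
  obtain ⟨t, ht⟩ : ∃ t, t = star c + c := ⟨_, rfl⟩
  have hts : star t = t := by rw [ht, star_add, star_star, add_comm]
  refine ⟨-h / t * c, ?_⟩
  rw [star_mul', star_div₀, star_neg, hh, hts]
  rw [← ht] at hc
  field_simp
  linear_combination h * ht

theorem exists_dual {n : ℕ} {v w : Fin n → F} (hi : ∀ c d : F, c • v + d • w = 0 → c = 0 ∧ d = 0) (a b : F) :
    ∃ u : Fin n → F, herm v u = a ∧ herm w u = b := by
  let Φ : (Fin n → F) →ₗ[F] F × F :=
    { toFun := fun u => (herm v u, herm w u)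
      map_add' := fun x y => Prod.ext (herm_add_right _ _ _) (herm_add_right _ _ _)
      map_smul' := fun c x => Prod.ext (herm_smul_right _ _ _) (herm_smul_right _ _ _) }
  have hs : Function.Surjective Φ := by
    rw [← LinearMap.range_eq_top]
    by_contra hne
    obtain ⟨f, hf0, hf⟩ := Submodule.exists_le_ker_of_lt_top _ (lt_top_iff_ne_top.mpr hne)
    have hfv : ∀ p : F × F, f p = p.1 * f (1, 0) + p.2 * f (0, 1) := fun p => by
      conv_lhs => rw [show p = p.1 • ((1 : F), (0 : F)) + p.2 • ((0 : F), (1 : F)) by ext <;> simp]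
      rw [map_add, map_smul, map_smul, smul_eq_mul, smul_eq_mul]
    have hz : star (f (1, 0)) • v + star (f (0, 1)) • w = 0 := herm_nondeg fun x => by
      have h1 : f (Φ x) = 0 := hf ⟨x, rfl⟩
      rw [hfv] at h1
      rw [herm_add_left, herm_smul_left, herm_smul_left, star_star, star_star]
      change herm v x * f (1, 0) + herm w x * f (0, 1) = 0 at h1
      linear_combination h1
    obtain ⟨h1, h2⟩ := hi _ _ hz
    refine hf0 (LinearMap.ext fun p => ?_)
    rw [hfv, star_eq_zero.mp h1, star_eq_zero.mp h2, mul_zero, mul_zero, add_zero, LinearMap.zero_apply]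
  obtain ⟨u, hu⟩ := hs (a, b)
  exact ⟨u, congrArg Prod.fst hu, congrArg Prod.snd hu⟩

/-- A totally isotropic pair of independent vectors. -/
def IsoPair {n : ℕ} (v w : Fin n → F) : Prop :=
  herm v v = 0 ∧ herm v w = 0 ∧ herm w w = 0 ∧ ∀ c d : F, c • v + d • w = 0 → c = 0 ∧ d = 0

/-- The Gram matrix of a hyperbolic frame. -/
def hypJ (F : Type*) [Field F] : Matrix (Fin 4) (Fin 4) F :=
  !![0, 0, 1, 0; 0, 0, 0, 1; 1, 0, 0, 0; 0, 1, 0, 0]

theorem hypJ_det : (hypJ F).det ≠ 0 := by
  simp [hypJ, Matrix.det_succ_row_zero, Fin.sum_univ_succ, Fin.succAbove]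

theorem exists_hyp (hstar : ∀ x : F, star x = x ^ q) (hF : Fintype.card F = q ^ 2) {v w : Fin 4 → F}
    (h : IsoPair v w) :
    ∃ A : Matrix (Fin 4) (Fin 4) F, Aᴴ * A = hypJ F ∧ (fun k => A k 0) = v ∧ (fun k => A k 1) = w := by
  obtain ⟨hvv, hvw, hww, hi⟩ := h
  obtain ⟨u0, hu0v, hu0w⟩ := exists_dual hi 1 0
  obtain ⟨a, ha⟩ := exists_trace hstar hF (star_herm u0 u0)
  obtain ⟨u, hu⟩ : ∃ u, u = u0 + a • v := ⟨_, rfl⟩
  have huv : herm v u = 1 := by rw [hu, herm_add_right, herm_smul_right, hvv, hu0v, mul_zero, add_zero]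
  have hwv : herm w v = 0 := by rw [← star_herm, hvw, star_zero]
  have huw : herm w u = 0 := by rw [hu, herm_add_right, herm_smul_right, hwv, hu0w, mul_zero, add_zero]
  have hu0v' : herm u0 v = 1 := by rw [← star_herm, hu0v, star_one]
  have huu : herm u u = 0 := by
    rw [hu, herm_add_left, herm_smul_left, herm_add_right, herm_add_right, herm_smul_right, herm_smul_right,
      hvv, hu0v, hu0v']
    linear_combination ha
  obtain ⟨y0, hy0v, hy0w⟩ := exists_dual hi 0 1
  obtain ⟨y1, hy1⟩ : ∃ y1, y1 = y0 + (-herm u y0) • v := ⟨_, rfl⟩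
  have huv' : herm u v = 1 := by rw [← star_herm, huv, star_one]
  have huw' : herm u w = 0 := by rw [← star_herm, huw, star_zero]
  have hy1v : herm v y1 = 0 := by rw [hy1, herm_add_right, herm_smul_right, hvv, hy0v, mul_zero, add_zero]
  have hy1w : herm w y1 = 1 := by rw [hy1, herm_add_right, herm_smul_right, hwv, hy0w, mul_zero, add_zero]
  have hy1u : herm u y1 = 0 := by rw [hy1, herm_add_right, herm_smul_right, huv', mul_one, add_neg_cancel]
  obtain ⟨b, hb⟩ := exists_trace hstar hF (star_herm y1 y1)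
  obtain ⟨y, hy⟩ : ∃ y, y = y1 + b • w := ⟨_, rfl⟩
  have hyv : herm v y = 0 := by rw [hy, herm_add_right, herm_smul_right, hvw, hy1v, mul_zero, add_zero]
  have hyw : herm w y = 1 := by rw [hy, herm_add_right, herm_smul_right, hww, hy1w, mul_zero, add_zero]
  have hyu : herm u y = 0 := by rw [hy, herm_add_right, herm_smul_right, huw', hy1u, mul_zero, add_zero]
  have hy1w' : herm y1 w = 1 := by rw [← star_herm, hy1w, star_one]
  have hyy : herm y y = 0 := by
    rw [hy, herm_add_left, herm_smul_left, herm_add_right, herm_add_right, herm_smul_right, herm_smul_right,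
      hww, hy1w, hy1w']
    linear_combination hb
  refine ⟨Matrix.of fun k j => (![v, w, u, y] : Fin 4 → Fin 4 → F) j k, ?_, rfl, rfl⟩
  ext i j
  rw [herm_cols]
  have e1 : herm u v = 1 := huv'
  have e2 : herm y v = 0 := by rw [← star_herm, hyv, star_zero]
  have e3 : herm y w = 1 := by rw [← star_herm, hyw, star_one]
  have e4 : herm y u = 0 := by rw [← star_herm, hyu, star_zero]
  fin_cases i <;> fin_cases j <;>
    simp [hypJ, hvv, hvw, hww, hwv, huv, huw, huu, hyv, hyw, hyu, hyy, e1, e2, e3, e4, huw']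

theorem hyp_scale (a : F) (ha : a ≠ 0) :
    (Matrix.diagonal ![a, 1, (star a)⁻¹, 1])ᴴ * hypJ F * Matrix.diagonal ![a, 1, (star a)⁻¹, 1] = hypJ F := by
  rw [Matrix.diagonal_conjTranspose]
  ext i j
  rw [Matrix.mul_diagonal, Matrix.diagonal_mul]
  fin_cases i <;> fin_cases j <;> simp [hypJ, ha, star_ne_zero ha]

/-- Totally isotropic planes are moved to one another. -/
theorem move_plane (hstar : ∀ x : F, star x = x ^ q) (hF : Fintype.card F = q ^ 2) {v w v' w' : Fin 4 → F}
    (h : IsoPair v w) (h' : IsoPair v' w') :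
    ∃ (x : ↥(Cfsg.SU 4 F q)) (a : F), a ≠ 0 ∧ mat x *ᵥ v = a • v' ∧ mat x *ᵥ w = w' := by
  classical
  obtain ⟨A, hA, hAv, hAw⟩ := exists_hyp hstar hF h
  obtain ⟨B, hB, hBv, hBw⟩ := exists_hyp hstar hF h'
  have hA0 : A.det ≠ 0 := fun e => hypJ_det (F := F) (by rw [← hA, Matrix.det_mul, e, mul_zero])
  have hB0 : B.det ≠ 0 := fun e => hypJ_det (F := F) (by rw [← hB, Matrix.det_mul, e, mul_zero])
  have hr : star (A.det / B.det) * (A.det / B.det) = 1 := by
    have e1 := congrArg Matrix.det (hA.trans hB.symm)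
    rw [Matrix.det_mul, Matrix.det_mul, Matrix.det_conjTranspose, Matrix.det_conjTranspose] at e1
    have := star_ne_zero hB0
    rw [star_div₀]
    field_simp
    linear_combination e1
  obtain ⟨a, ha0, ha⟩ := hilbert90 hstar hF hr
  obtain ⟨D, hD⟩ : ∃ D, D = Matrix.diagonal ![a, 1, (star a)⁻¹, 1] := ⟨_, rfl⟩
  have hBD : (B * D)ᴴ * (B * D) = hypJ F := by
    rw [Matrix.conjTranspose_mul, mul_assoc, ← mul_assoc Bᴴ, hB, ← mul_assoc, hD, hyp_scale a ha0]
  have hdet : A.det = (B * D).det := by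
    rw [Matrix.det_mul, hD, Matrix.det_diagonal, Fin.prod_univ_four]
    simp only [Matrix.cons_val_zero, Matrix.cons_val_one, Matrix.cons_val, mul_one]
    have := star_ne_zero ha0
    field_simp at ha ⊢
    linear_combination -ha
  obtain ⟨x, hx⟩ := exists_frame hstar A (B * D) (hypJ F) hA hBD hypJ_det hdet
  have key : ∀ j, mat x *ᵥ (fun k => A k j) = ![a, 1, (star a)⁻¹, 1] j • (fun k => B k j) := fun j => by
    funext k
    have := congrFun (congrFun hx k) j
    rw [hD, Matrix.mul_diagonal, Matrix.mul_apply] at this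
    show ∑ i, mat x k i * A i j = _
    rw [this, Pi.smul_apply, smul_eq_mul, mul_comm]
  refine ⟨x, a, ha0, ?_, ?_⟩
  · rw [← hAv, ← hBv]; exact key 0
  · rw [← hAw, ← hBw]; simpa using key 1

/-- A quartic characteristic polynomial of an isometry is reducible. -/
theorem not_irreducible_quartic (hstar : ∀ x : F, star x = x ^ q) (hF : Fintype.card F = q ^ 2)
    (M : Matrix (Fin 4) (Fin 4) F) (hM : Mᴴ * M = 1) : ¬ Irreducible M.charpoly := by
  classical
  intro hirr
  obtain ⟨P, hP⟩ : ∃ P, P = M.charpoly := ⟨_, rfl⟩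
  rw [← hP] at hirr
  haveI : Fact (Irreducible P) := ⟨hirr⟩
  haveI : FiniteDimensional F (AdjoinRoot P) := (AdjoinRoot.powerBasis hirr.ne_zero).finite
  haveI : Finite (AdjoinRoot P) := Module.finite_of_finite F
  haveI := Fintype.ofFinite (AdjoinRoot P)
  set K := AdjoinRoot P
  set α : K := AdjoinRoot.root P
  obtain ⟨p, hp⟩ := CharP.exists F
  obtain ⟨n, hpp, hn⟩ := FiniteField.card F p
  haveI : CharP K p := charP_of_injective_algebraMap (algebraMap F K).injective p
  haveI : ExpChar K p := ExpChar.prime hpp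
  obtain ⟨e, -, hq⟩ : ∃ e ≤ (n : ℕ), q = p ^ e :=
    (Nat.dvd_prime_pow hpp).mp (hn ▸ hF ▸ dvd_pow_self q two_ne_zero)
  have hdeg : P.natDegree = 4 := by rw [hP, Matrix.charpoly_natDegree_eq_dim, Fintype.card_fin]
  have hroot : P.IsRoot 0 → False := fun h => by
    rw [IsRoot, hP, Matrix.eval_charpoly, map_zero, zero_sub, Matrix.det_neg, mul_eq_zero] at h
    refine h.elim (fun e => absurd e (pow_ne_zero _ (neg_ne_zero.mpr one_ne_zero))) fun e => ?_
    have := congrArg Matrix.det hM
    rw [Matrix.det_mul, e, mul_zero, Matrix.det_one] at this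
    exact zero_ne_one this
  have hα : aeval α P = 0 := by rw [AdjoinRoot.aeval_eq, AdjoinRoot.mk_self]
  have hcard : Fintype.card K = Fintype.card F ^ 4 := by
    rw [Module.card_eq_pow_finrank (K := F), (AdjoinRoot.powerBasis hirr.ne_zero).finrank, AdjoinRoot.powerBasis_dim, hdeg]
  have hα0 : α ≠ 0 := fun h => hroot (by
    rw [h] at hα
    rw [IsRoot, ← Polynomial.coeff_zero_eq_eval_zero]
    have h0 : algebraMap F K (P.coeff 0) = 0 := by
      rwa [← Polynomial.coeff_zero_eq_aeval_zero'] at hα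
    exact (map_eq_zero _).mp h0)
  -- the conjugate-reciprocal of a root
  obtain ⟨γ, hγP, hγ⟩ : ∃ γ : K, aeval γ P = 0 ∧ γ ^ q = α⁻¹ := by
    obtain ⟨Mk, hMk⟩ : ∃ Mk, Mk = M.map (algebraMap F K) := ⟨_, rfl⟩
    have hev : ∀ (A : Matrix (Fin 4) (Fin 4) F) (c : K),
        aeval c A.charpoly = (Matrix.scalar (Fin 4) c - A.map (algebraMap F K)).det := fun A c => by
      rw [← Matrix.eval_charpoly, Matrix.charpoly_map, Polynomial.eval_map, aeval_def]
    have hM' : M * Mᴴ = 1 := mul_eq_one_comm.mp hM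
    have hdet : (Matrix.scalar (Fin 4) α⁻¹ - Mᴴ.map (algebraMap F K)).det = 0 := by
      obtain ⟨v, hv0, hv⟩ := Matrix.exists_mulVec_eq_zero_iff.mpr (show (Matrix.scalar (Fin 4) α - Mk).det = 0 by
        rw [hMk, ← hev, ← hP, hα])
      refine Matrix.exists_mulVec_eq_zero_iff.mp ⟨v, hv0, ?_⟩
      rw [Matrix.sub_mulVec, Matrix.scalar_apply, ← Matrix.smul_one_eq_diagonal, Matrix.smul_mulVec, Matrix.one_mulVec,
        sub_eq_zero] at hv ⊢
      have h2 : Mᴴ.map (algebraMap F K) * Mk = 1 := by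
        rw [hMk, ← Matrix.map_mul, hM, Matrix.map_one _ (map_zero _) (map_one _)]
      have h3 := congrArg (fun z => Mᴴ.map (algebraMap F K) *ᵥ z) hv
      simp only [Matrix.mulVec_smul] at h3
      rw [Matrix.mulVec_mulVec, h2, Matrix.one_mulVec] at h3
      rw [inv_smul_eq_iff₀ hα0]
      exact h3.symm
    obtain ⟨γ, hγ⟩ : ∃ γ : K, γ ^ q = α⁻¹ := by
      have hinj : Function.Injective fun z : K => z ^ q := fun a b hab => by
        have h0 : (a - b) ^ q = 0 := by
          rw [hq, sub_pow_expChar_pow (p := p) (n := e) a b, ← hq]; exact sub_eq_zero.mpr hab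
        exact sub_eq_zero.mp (pow_eq_zero_iff (by have := Hermitian.q_two_le hF; omega) |>.mp h0)
      exact (Finite.injective_iff_surjective.mp hinj) α⁻¹
    refine ⟨γ, ?_, hγ⟩
    let φ : K →+* K := iterateFrobenius K p e
    have hφ : ∀ z, φ z = z ^ q := fun z => by rw [hq]; rfl
    refine φ.injective ?_
    rw [map_zero, congrArg (aeval γ) hP, hev, RingHom.map_det, RingHom.mapMatrix_apply, ← hdet, ← Matrix.det_transpose]
    have qsub : ∀ a b : K, (a - b) ^ q = a ^ q - b ^ q := fun a b => by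
      rw [← hφ, map_sub, hφ, hφ]
    have qneg : ∀ a : K, (-a) ^ q = -(a ^ q) := fun a => by rw [← hφ, map_neg, hφ]
    congr 1
    ext i j
    by_cases hij : i = j
    · subst hij; simp [hφ, hγ, hstar, qsub, ← map_pow]
    · simp [hφ, hij, Ne.symm hij, hstar, qneg, ← map_pow]
  -- which is a conjugate of the root
  obtain ⟨ψ, hψ⟩ : ∃ ψ : K →ₐ[F] K, ψ α = γ :=
    ⟨AdjoinRoot.liftAlgHom P (Algebra.ofId F K) γ hγP, AdjoinRoot.liftAlgHom_root P (Algebra.ofId F K) γ hγP⟩
  obtain ⟨j, hj⟩ : ∃ j : ℕ, ∀ z : K, ψ z = z ^ (Fintype.card F ^ j) := by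
    obtain ⟨j, hj⟩ := (FiniteField.bijective_frobeniusAlgHom_pow F K).2 ψ
    refine ⟨j, fun z => ?_⟩
    rw [← hj]
    simp [AlgHom.coe_pow, FiniteField.coe_frobeniusAlgHom, pow_iterate]
  obtain ⟨φ, hφ⟩ : ∃ φ : K → K, φ = fun z => z ^ q := ⟨_, rfl⟩
  have hφn : ∀ m (z : K), φ^[m] z = z ^ q ^ m := fun m z => by rw [hφ, pow_iterate]
  have hQ : ∀ k, Fintype.card F ^ k = q ^ (2 * k) := fun k => by rw [hF, pow_mul]
  have h1 : α⁻¹ = α ^ q ^ (2 * j + 1) := by rw [← hγ, ← hψ, hj, hQ, ← pow_mul, ← pow_succ]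
  have h2 : Function.IsPeriodicPt φ (2 * (2 * j + 1)) α := by
    show φ^[_] α = α
    rw [hφn, two_mul, pow_add, pow_mul, ← h1, inv_pow, ← h1, inv_inv]
  have h3 : Function.IsPeriodicPt φ 8 α := by
    show φ^[_] α = α
    rw [hφn, show (8 : ℕ) = 2 * 4 from rfl, ← hQ, ← hcard]
    exact FiniteField.pow_card α
  have h4 := h2.gcd h3
  rw [show Nat.gcd (2 * (2 * j + 1)) 8 = 2 by
    rw [show (8 : ℕ) = 2 * 4 from rfl, Nat.gcd_mul_left,
      show Nat.gcd (2 * j + 1) 4 = 1 from by
        have h' : (2 * j + 1).Coprime (2 ^ 2) := Nat.Coprime.pow_right 2 (by simp)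
        simpa using h']] at h4
  have h5 : α ^ Fintype.card F = α := by
    rw [hF, ← hφn]; exact h4
  obtain ⟨c, hc⟩ := mem_of_pow_card h5
  have hcr : P.IsRoot c := by
    rw [← hc, aeval_algebraMap_apply, map_eq_zero, Polynomial.coe_aeval_eq_eval] at hα
    exact hα
  exact hirr.not_isRoot_of_natDegree_ne_one (by omega) hcr

/-- An isometry without eigenvectors leaves an isotropic plane invariant. -/
theorem plane_of_no_root (hstar : ∀ x : F, star x = x ^ q) (hF : Fintype.card F = q ^ 2) (g : ↥(Cfsg.SU 4 F q))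
    (hno : ∀ r, ¬ (mat g).charpoly.IsRoot r) :
    ∃ v w : Fin 4 → F, IsoPair v w ∧ (∃ a b : F, mat g *ᵥ v = a • v + b • w) ∧ ∃ a b : F, mat g *ᵥ w = a • v + b • w := by
  classical
  rcases quartic_cases (mat g).charpoly_monic (by rw [Matrix.charpoly_natDegree_eq_dim, Fintype.card_fin]) hno with
    h | ⟨f, f', hfm, hf'm, hfi, -, hfd, hf'd, hP⟩
  · exact absurd h (not_irreducible_quartic hstar hF _ (mat_iso hstar g))
  have hnoeig : ∀ (r : F) (y : Fin 4 → F), mat g *ᵥ y = r • y → y = 0 := by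
    intro r y hy
    by_contra hy0
    refine hno r ?_
    rw [IsRoot, Matrix.eval_charpoly]
    refine Matrix.exists_mulVec_eq_zero_iff.mp ⟨y, hy0, ?_⟩
    rw [Matrix.sub_mulVec, hy, Matrix.scalar_apply, ← Matrix.smul_one_eq_diagonal, Matrix.smul_mulVec, Matrix.one_mulVec, sub_self]
  have hker : ∃ x : Fin 4 → F, x ≠ 0 ∧ (aeval (mat g) f) *ᵥ x = 0 := by
    refine Matrix.exists_mulVec_eq_zero_iff.mpr ?_
    by_contra hu
    have h0 := Matrix.aeval_self_charpoly (mat g)
    rw [hP, map_mul] at h0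
    have hf' : aeval (mat g) f' = 0 :=
      (((Matrix.isUnit_iff_isUnit_det _).mpr (isUnit_iff_ne_zero.mpr hu)).mul_right_eq_zero).mp h0
    -- then every root of f is one of f', so f is f'
    have hmin := minpoly.dvd F (mat g) hf'
    have hff : f ∣ minpoly F (mat g) → False := fun h => by
      obtain ⟨c, hc⟩ := h.trans hmin
      have hc1 : c = 1 := by
        have hcm : c.Monic := hfm.of_mul_monic_left (hc ▸ hf'm)
        refine hcm.natDegree_eq_zero.mp ?_
        have := congrArg Polynomial.natDegree hc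
        rw [hfm.natDegree_mul hcm, hfd, hf'd] at this
        omega
      rw [hc1, mul_one] at hc
      rw [← hc] at hu
      exact hu (by rw [hf', Matrix.det_eq_zero_of_row_eq_zero (0 : Fin 4) fun j => rfl])
    haveI : Fact (Irreducible f) := ⟨hfi⟩
    refine hff ?_
    -- every root of the characteristic polynomial is a root of the minimal polynomial
    have hne : f.natDegree ≠ 0 := by omega
    have hroot : aeval (AdjoinRoot.root f) (mat g).charpoly = 0 := by
      rw [hP, map_mul, AdjoinRoot.aeval_eq, AdjoinRoot.mk_self, zero_mul]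
    rw [← AdjoinRoot.mk_eq_zero, ← AdjoinRoot.aeval_eq]
    have hev : (Matrix.scalar (Fin 4) (AdjoinRoot.root f) - (mat g).map (algebraMap F (AdjoinRoot f))).det = 0 := by
      rw [← Matrix.eval_charpoly, Matrix.charpoly_map, Polynomial.eval_map, ← aeval_def, hroot]
    obtain ⟨v, hv0, hv⟩ := Matrix.exists_mulVec_eq_zero_iff.mpr hev
    rw [Matrix.sub_mulVec, Matrix.scalar_apply, ← Matrix.smul_one_eq_diagonal, Matrix.smul_mulVec, Matrix.one_mulVec,
      sub_eq_zero] at hv
    have key : ∀ r : F[X], (aeval (mat g) r).map (algebraMap F (AdjoinRoot f)) *ᵥ v = aeval (AdjoinRoot.root f) r • v := by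
      intro r
      induction r using Polynomial.induction_on' with
      | add p r hp hr => rw [map_add, map_add, Matrix.map_add _ (map_add _), Matrix.add_mulVec, hp, hr, add_smul]
      | monomial n c =>
        have hpow : ∀ n : ℕ, ((mat g) ^ n).map (algebraMap F (AdjoinRoot f)) *ᵥ v = AdjoinRoot.root f ^ n • v := by
          intro n
          induction n with
          | zero => simp
          | succ n ih => rw [pow_succ', Matrix.map_mul, ← Matrix.mulVec_mulVec, ih, Matrix.mulVec_smul, ← hv, smul_smul, pow_succ]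
        rw [aeval_monomial, aeval_monomial, ← Algebra.smul_def, Matrix.map_smul' _ _ _ (map_mul _), Matrix.smul_mulVec, hpow,
          smul_smul]
    have hk := key (minpoly F (mat g))
    rw [minpoly.aeval, Matrix.map_zero _ (map_zero _), Matrix.zero_mulVec] at hk
    exact (smul_eq_zero.mp hk.symm).resolve_right hv0
  obtain ⟨x, hx0, hx⟩ := hker
  obtain ⟨y, hy⟩ : ∃ y, y = mat g *ᵥ x := ⟨_, rfl⟩
  have hrel : mat g *ᵥ y = (-f.coeff 1) • y - f.coeff 0 • x := by
    have hf : f = X ^ 2 + C (f.coeff 1) * X + C (f.coeff 0) := by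
      conv_lhs => rw [f.as_sum_range_C_mul_X_pow, hfd, Finset.sum_range_succ, Finset.sum_range_succ, Finset.sum_range_one]
      rw [show f.coeff 2 = 1 from hfd ▸ hfm.coeff_natDegree]
      simp
      ring
    rw [hf] at hx
    simp only [map_add, map_mul, map_pow, aeval_X, aeval_C, Matrix.add_mulVec, pow_two, Algebra.algebraMap_eq_smul_one,
      smul_mul_assoc, one_mul, Matrix.smul_mulVec, ← Matrix.mulVec_mulVec, Matrix.one_mulVec, ← hy] at hx
    rw [neg_smul, ← sub_eq_zero, ← hx]
    abel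
  have hind : ∀ c₁ c₂ : F, c₁ • x + c₂ • y = 0 → c₁ = 0 ∧ c₂ = 0 := by
    intro c₁ c₂ h
    by_cases h2 : c₂ = 0
    · subst h2
      rw [zero_smul, add_zero, smul_eq_zero] at h
      exact ⟨h.resolve_right hx0, rfl⟩
    · exfalso
      refine hx0 (hnoeig (-(c₂⁻¹ * c₁)) x ?_)
      rw [← hy, neg_smul, eq_neg_iff_add_eq_zero, ← smul_smul, ← smul_right_inj h2, smul_zero, smul_add, smul_smul c₂,
        mul_inv_cancel₀ h2, one_smul, add_comm, h]
  have hiso : ∀ u z : Fin 4 → F, herm (mat g *ᵥ u) (mat g *ᵥ z) = herm u z := herm_mat hstar g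
  have hspan : ∀ a b : F, a • x + b • y ≠ 0 → herm (a • x + b • y) (a • x + b • y) ≠ 0 → False := by
    intro a b hne haniso
    obtain ⟨z, hz⟩ : ∃ z, z = a • x + b • y := ⟨_, rfl⟩
    rw [← hz] at haniso hne
    have hzrel : mat g *ᵥ (mat g *ᵥ z) = (-f.coeff 1) • (mat g *ᵥ z) - f.coeff 0 • z := by
      rw [hz]
      simp only [Matrix.mulVec_add, Matrix.mulVec_smul, ← hy, hrel, Matrix.mulVec_sub]
      module
    have hindz : ∀ c₁ c₂ : F, c₁ • z + c₂ • (mat g *ᵥ z) = 0 → c₁ = 0 ∧ c₂ = 0 := by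
      intro c₁ c₂ h
      by_cases h2 : c₂ = 0
      · subst h2
        rw [zero_smul, add_zero, smul_eq_zero] at h
        exact ⟨h.resolve_right hne, rfl⟩
      · exfalso
        refine hne (hnoeig (-(c₂⁻¹ * c₁)) z ?_)
        rw [neg_smul, eq_neg_iff_add_eq_zero, ← smul_smul, ← smul_right_inj h2, smul_zero, smul_add, smul_smul c₂,
          mul_inv_cancel₀ h2, one_smul, add_comm, h]
    obtain ⟨c₁, c₂, r, h1, h2⟩ := quad_eigen hstar hF (Matrix.mulVecLin (mat g)) haniso hzrel
      (fun u v _ _ => hiso u v) hindz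
    exact h1 (hnoeig r _ h2)
  have hzero : ∀ a b : F, herm (a • x + b • y) (a • x + b • y) = 0 := by
    intro a b
    by_contra h
    exact hspan a b (fun e => h (by rw [e, herm_zero_left])) h
  have hxx : herm x x = 0 := by simpa using hzero 1 0
  have hyy : herm y y = 0 := by rw [hy, hiso, hxx]
  have hxy : herm x y = 0 := by
    obtain ⟨b, hb⟩ := Hermitian.exists_star_ne hstar hF
    have k : ∀ c : F, c * herm x y + star c * herm y x = 0 := fun c => by
      have h := hzero 1 c
      simp only [one_smul, herm_add_left, herm_add_right, herm_smul_left, herm_smul_right, hxx, hyy] at h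
      linear_combination h
    have k1 := k 1
    rw [star_one] at k1
    refine (mul_eq_zero.mp (show (b - star b) * herm x y = 0 by linear_combination k b - star b * k1)).resolve_left
      (sub_ne_zero.mpr (Ne.symm hb))
  refine ⟨x, y, ⟨hxx, hxy, hyy, hind⟩, ⟨0, 1, ?_⟩, ⟨-f.coeff 0, -f.coeff 1, ?_⟩⟩
  · rw [zero_smul, one_smul, zero_add, hy]
  · rw [hrel]; module

/-- An isometry without anisotropic eigenvectors leaves an isotropic plane invariant. -/
theorem plane_of_isotropic (hstar : ∀ x : F, star x = x ^ q) (hF : Fintype.card F = q ^ 2) (g : ↥(Cfsg.SU 4 F q))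
    (hiso : ∀ (r : F) (y : Fin 4 → F), mat g *ᵥ y = r • y → herm y y = 0) {v : Fin 4 → F} {lam : F} (hv0 : v ≠ 0)
    (hv : mat g *ᵥ v = lam • v) :
    ∃ v w : Fin 4 → F, IsoPair v w ∧ (∃ a b : F, mat g *ᵥ v = a • v + b • w) ∧ ∃ a b : F, mat g *ᵥ w = a • v + b • w := by
  classical
  have hvv : herm v v = 0 := hiso lam v hv
  have hl : lam ≠ 0 := fun h => hv0 (by
    rw [← Matrix.one_mulVec v, ← mat_inv_mul g, ← Matrix.mulVec_mulVec, hv, h, zero_smul, Matrix.mulVec_zero])
  -- an isotropic partner of v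
  obtain ⟨u0, hu0⟩ : ∃ u0, herm v u0 = 1 := by
    obtain ⟨k, hk⟩ : ∃ k, v k ≠ 0 := Function.ne_iff.mp hv0
    exact ⟨Pi.single k (star (v k))⁻¹, by rw [herm_single_right, mul_inv_cancel₀ (star_ne_zero hk)]⟩
  obtain ⟨a, ha⟩ := exists_trace hstar hF (star_herm u0 u0)
  obtain ⟨u, hu⟩ : ∃ u, u = u0 + a • v := ⟨_, rfl⟩
  have hvu : herm v u = 1 := by rw [hu, herm_add_right, herm_smul_right, hvv, hu0, mul_zero, add_zero]
  have huv : herm u v = 1 := by rw [← star_herm, hvu, star_one]
  have huu : herm u u = 0 := by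
    rw [hu, herm_add_left, herm_smul_left, herm_add_right, herm_add_right, herm_smul_right, herm_smul_right,
      hvv, hu0, show herm u0 v = 1 by rw [← star_herm, hu0, star_one]]
    linear_combination ha
  let π : (Fin 4 → F) →ₗ[F] (Fin 4 → F) :=
    { toFun := fun z => z - herm u z • v - herm v z • u
      map_add' := fun y z => by simp only [herm_add_right]; module
      map_smul' := fun c z => by simp only [herm_smul_right, RingHom.id_apply]; module }
  have hπ : ∀ z, π z = z - herm u z • v - herm v z • u := fun z => rfl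
  have hπv : ∀ z, herm v (π z) = 0 := fun z => by
    rw [hπ, herm_sub_right, herm_sub_right, herm_smul_right, herm_smul_right, hvv, hvu]; ring
  have hπu : ∀ z, herm u (π z) = 0 := fun z => by
    rw [hπ, herm_sub_right, herm_sub_right, herm_smul_right, herm_smul_right, huu, huv]; ring
  obtain ⟨U, hU⟩ : ∃ U : Submodule F (Fin 4 → F), ∀ z, z ∈ U ↔ herm v z = 0 ∧ herm u z = 0 :=
    ⟨{ carrier := {z | herm v z = 0 ∧ herm u z = 0}
       zero_mem' := ⟨herm_zero_right v, herm_zero_right u⟩
       add_mem' := fun {y z} hy hz => ⟨by rw [herm_add_right, hy.1, hz.1, add_zero], by rw [herm_add_right, hy.2, hz.2, add_zero]⟩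
       smul_mem' := fun c z hz => ⟨by rw [herm_smul_right, hz.1, mul_zero], by rw [herm_smul_right, hz.2, mul_zero]⟩ },
      fun z => Iff.rfl⟩
  have hπU : ∀ z, π z ∈ U := fun z => (hU _).mpr ⟨hπv z, hπu z⟩
  have hUfix : ∀ z ∈ U, π z = z := fun z hz => by
    rw [hπ, ((hU z).mp hz).1, ((hU z).mp hz).2]; simp
  -- the induced isometry
  let N : (Fin 4 → F) →ₗ[F] (Fin 4 → F) := π ∘ₗ Matrix.mulVecLin (mat g)
  have hperp : ∀ z ∈ U, herm v (mat g *ᵥ z) = 0 := fun z hz => by
    have h := herm_mat hstar g v z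
    rw [hv, herm_smul_left, ((hU z).mp hz).1] at h
    exact (mul_eq_zero.mp h).resolve_left (star_ne_zero hl)
  have hgz : ∀ z ∈ U, mat g *ᵥ z = N z + herm u (mat g *ᵥ z) • v := fun z hz => by
    show _ = π (mat g *ᵥ z) + _
    rw [hπ, hperp z hz]
    module
  have hNiso : ∀ y ∈ U, ∀ z ∈ U, herm (N y) (N z) = herm y z := fun y hy z hz => by
    have hNv : herm v (N z) = 0 := hπv _
    have hNv' : herm (N y) v = 0 := by rw [← star_herm, show herm v (N y) = 0 from hπv _, star_zero]
    rw [← herm_mat hstar g y z, hgz y hy, hgz z hz]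
    simp only [herm_add_left, herm_add_right, herm_smul_left, herm_smul_right, hNv, hNv', hvv]
    ring
  -- an anisotropic vector of U
  obtain ⟨x, hxU, hx⟩ : ∃ x ∈ U, herm x x ≠ 0 := by
    by_contra! hc
    obtain ⟨b, hb⟩ := Hermitian.exists_star_ne hstar hF
    have hzero : ∀ y ∈ U, ∀ z ∈ U, herm y z = 0 := by
      intro y hy z hz
      have k : ∀ c : F, c * herm y z + star c * herm z y = 0 := fun c => by
        have h := hc (y + c • z) (U.add_mem hy (U.smul_mem c hz))
        simp only [herm_add_left, herm_add_right, herm_smul_left, herm_smul_right, hc y hy, hc z hz] at h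
        linear_combination h
      have k1 := k 1
      rw [star_one] at k1
      exact (mul_eq_zero.mp (show (b - star b) * herm y z = 0 by linear_combination k b - star b * k1)).resolve_left
        (sub_ne_zero.mpr (Ne.symm hb))
    have hU0 : ∀ y ∈ U, y = 0 := fun y hy => herm_nondeg fun z => by
      have h := hzero y hy (π z) (hπU z)
      rw [hπ, herm_sub_right, herm_sub_right, herm_smul_right, herm_smul_right,
        show herm y v = 0 by rw [← star_herm, ((hU y).mp hy).1, star_zero],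
        show herm y u = 0 by rw [← star_herm, ((hU y).mp hy).2, star_zero]] at h
      linear_combination h
    have hspan : (⊤ : Submodule F (Fin 4 → F)) ≤ Submodule.span F ({v, u} : Set (Fin 4 → F)) := fun z _ => by
      have h := hU0 _ (hπU z)
      rw [hπ, sub_eq_zero, sub_eq_iff_eq_add] at h
      rw [h]
      exact Submodule.add_mem _ (Submodule.smul_mem _ _ (Submodule.subset_span (Or.inr rfl)))
        (Submodule.smul_mem _ _ (Submodule.subset_span (Or.inl rfl)))
    have h4 := Submodule.finrank_mono hspan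
    rw [finrank_top, Module.finrank_fin_fun] at h4
    have := finrank_span_finset_le_card (R := F) ({v, u} : Finset (Fin 4 → F))
    rw [Finset.coe_pair, Set.finrank] at this
    have := Finset.card_le_two (a := v) (b := u)
    omega
  -- an eigenvector of the induced isometry
  have hNU : ∀ z, N z ∈ U := fun z => hπU _
  obtain ⟨w, hwU, hw0, r, hw⟩ : ∃ w ∈ U, w ≠ 0 ∧ ∃ r : F, N w = r • w := by
    by_cases hind : ∀ c₁ c₂ : F, c₁ • x + c₂ • N x = 0 → c₁ = 0 ∧ c₂ = 0
    · obtain ⟨a₁, a₂, hrel⟩ : ∃ a₁ a₂ : F, a₁ • N x - a₂ • x = N (N x) := by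
        by_contra! hc
        have hli : LinearIndependent F ![x, N x, N (N x), v, u] := by
          rw [Fintype.linearIndependent_iff]
          intro c hcs
          simp only [Fin.sum_univ_five] at hcs
          simp at hcs
          have hcv := congrArg (herm v) hcs
          have hcu := congrArg (herm u) hcs
          simp only [herm_add_right, herm_smul_right, herm_zero_right, ((hU x).mp hxU).1, ((hU x).mp hxU).2,
            ((hU _).mp (hNU x)).1, ((hU _).mp (hNU x)).2, ((hU _).mp (hNU (N x))).1, ((hU _).mp (hNU (N x))).2,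
            hvv, hvu, huv, huu, mul_zero, mul_one, add_zero, zero_add] at hcv hcu
          rw [hcv, hcu, zero_smul, zero_smul, add_zero, add_zero] at hcs
          have h2 : c 2 = 0 := by
            by_contra h2
            refine hc (-(c 1 / c 2)) (c 0 / c 2) (smul_right_injective _ h2 ?_)
            show c 2 • _ = c 2 • _
            rw [smul_sub, smul_smul, smul_smul, mul_neg, mul_div_cancel₀ _ h2, mul_div_cancel₀ _ h2, ← sub_eq_zero]
            linear_combination (norm := module) -hcs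
          rw [h2, zero_smul, add_zero] at hcs
          obtain ⟨h0, h1⟩ := hind _ _ hcs
          intro i
          fin_cases i <;> assumption
        have := hli.fintype_card_le_finrank
        rw [Fintype.card_fin, Module.finrank_fin_fun] at this
        omega
      obtain ⟨c₁, c₂, r, h1, h2⟩ := quad_eigen hstar hF N hx hrel.symm
        (fun y z hy hz => hNiso y (by rcases hy with rfl | rfl; exacts [hxU, hNU x]) z
          (by rcases hz with rfl | rfl; exacts [hxU, hNU x])) hind
      exact ⟨_, U.add_mem (U.smul_mem _ hxU) (U.smul_mem _ (hNU x)), h1, r, h2⟩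
    · push Not at hind
      obtain ⟨c₁, c₂, h, hne⟩ := hind
      have hx0 : x ≠ 0 := fun e => hx (by rw [e, herm_zero_left])
      have h2 : c₂ ≠ 0 := fun e => by
        subst e
        rw [zero_smul, add_zero, smul_eq_zero] at h
        exact hne (h.resolve_right hx0) rfl
      refine ⟨x, hxU, hx0, -(c₂⁻¹ * c₁), ?_⟩
      rw [neg_smul, eq_neg_iff_add_eq_zero, ← smul_smul, ← smul_right_inj h2, smul_zero, smul_add, smul_smul c₂,
        mul_inv_cancel₀ h2, one_smul, add_comm, h]
  have hgw := hgz w hwU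
  rw [hw] at hgw
  have hwv : herm v w = 0 := ((hU w).mp hwU).1
  have hindw : ∀ c d : F, c • v + d • w = 0 → c = 0 ∧ d = 0 := fun c d h => by
    have h' := congrArg (herm u) h
    rw [herm_add_right, herm_smul_right, herm_smul_right, huv, ((hU w).mp hwU).2, mul_one, mul_zero, add_zero,
      herm_zero_right] at h'
    rw [h', zero_smul, zero_add, smul_eq_zero] at h
    exact ⟨h', h.resolve_right hw0⟩
  by_cases hww : herm w w = 0
  · exact ⟨v, w, ⟨hvv, hwv, hww, hindw⟩, ⟨lam, 0, by rw [zero_smul, add_zero, hv]⟩,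
      ⟨herm u (mat g *ᵥ w), r, hgw.trans (add_comm _ _)⟩⟩
  have hr : r ≠ 0 := by
    rintro rfl
    rw [zero_smul] at hw
    have h := hNiso w hwU w hwU
    rw [hw, herm_zero_left] at h
    exact hww h.symm
  have hlift : ∀ y ∈ U, ∀ μ, N y = μ • y → herm y y ≠ 0 → μ = lam := by
    intro y hy μ hμ hyy
    by_contra hne
    obtain ⟨s, hs⟩ : ∃ s, s * (μ - lam) = herm u (mat g *ᵥ y) := ⟨_, div_mul_cancel₀ _ (sub_ne_zero.mpr hne)⟩
    have h := hiso μ (y + s • v) (by
      rw [Matrix.mulVec_add, Matrix.mulVec_smul, hgz y hy, hμ, hv, ← hs]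
      module)
    simp only [herm_add_left, herm_add_right, herm_smul_left, herm_smul_right, hvv, ((hU y).mp hy).1,
      show herm y v = 0 by rw [← star_herm, ((hU y).mp hy).1, star_zero], mul_zero, add_zero] at h
    exact hyy h
  have hrl := hlift w hwU r hw hww
  -- the orthogonal partner
  obtain ⟨x', hx'U, hx'w, hx'0⟩ : ∃ x' ∈ U, herm w x' = 0 ∧ x' ≠ 0 := by
    by_contra! hc
    have hspan : (⊤ : Submodule F (Fin 4 → F)) ≤ Submodule.span F ({v, u, w} : Set (Fin 4 → F)) := fun z _ => by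
      have h := hc (π z - (herm w (π z) / herm w w) • w) (U.sub_mem (hπU z) (U.smul_mem _ hwU)) (by
        rw [herm_sub_right, herm_smul_right, div_mul_cancel₀ _ hww, sub_self])
      rw [sub_eq_zero, hπ, sub_eq_iff_eq_add, sub_eq_iff_eq_add] at h
      rw [h]
      exact Submodule.add_mem _ (Submodule.add_mem _ (Submodule.smul_mem _ _ (Submodule.subset_span (Or.inr (Or.inr rfl))))
        (Submodule.smul_mem _ _ (Submodule.subset_span (Or.inr (Or.inl rfl))))) (Submodule.smul_mem _ _ (Submodule.subset_span (Or.inl rfl)))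
    have h4 := Submodule.finrank_mono hspan
    rw [finrank_top, Module.finrank_fin_fun] at h4
    have := finrank_span_finset_le_card (R := F) ({v, u, w} : Finset (Fin 4 → F))
    rw [Finset.coe_insert, Finset.coe_pair, Set.finrank] at this
    have := Finset.card_le_three (a := v) (b := u) (c := w)
    omega
  have hx'x' : herm x' x' ≠ 0 := fun h => hx'0 (herm_nondeg fun z => by
    have hxv' : herm x' v = 0 := by rw [← star_herm, ((hU x').mp hx'U).1, star_zero]
    have hxu' : herm x' u = 0 := by rw [← star_herm, ((hU x').mp hx'U).2, star_zero]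
    have hxw' : herm x' w = 0 := by rw [← star_herm, hx'w, star_zero]
    have hli : LinearIndependent F ![v, u, w, x'] := by
      rw [Fintype.linearIndependent_iff]
      intro c hcs
      simp only [Fin.sum_univ_four] at hcs
      simp at hcs
      have hcv := congrArg (herm v) hcs
      have hcu := congrArg (herm u) hcs
      simp only [herm_add_right, herm_smul_right, herm_zero_right, hvv, hvu, huv, huu, hwv, ((hU w).mp hwU).2,
        ((hU x').mp hx'U).1, ((hU x').mp hx'U).2, mul_zero, mul_one, add_zero, zero_add] at hcv hcu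
      rw [hcv, hcu, zero_smul, zero_smul, add_zero, zero_add] at hcs
      have hcw := congrArg (herm w) hcs
      rw [herm_add_right, herm_smul_right, herm_smul_right, hx'w, mul_zero, add_zero, herm_zero_right, mul_eq_zero] at hcw
      rw [hcw.resolve_right hww, zero_smul, zero_add, smul_eq_zero] at hcs
      intro i
      fin_cases i
      exacts [hcu, hcv, hcw.resolve_right hww, hcs.resolve_right hx'0]
    have htop := hli.span_eq_top_of_card_eq_finrank (by rw [Fintype.card_fin, Module.finrank_fin_fun])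
    have hz : z ∈ Submodule.span F (Set.range ![v, u, w, x']) := htop ▸ trivial
    obtain ⟨c, hc⟩ := Submodule.mem_span_range_iff_exists_fun F |>.mp hz
    simp only [Fin.sum_univ_four] at hc
    simp at hc
    rw [← hc]
    simp only [herm_add_right, herm_smul_right, hxv', hxu', hxw', h, mul_zero, add_zero])
  have hNx' : herm w (N x') = 0 := by
    have h := hNiso w hwU x' hx'U
    rw [hw, herm_smul_left, hx'w] at h
    exact (mul_eq_zero.mp h).resolve_left (star_ne_zero hr)
  obtain ⟨μ, hμ⟩ : ∃ μ : F, N x' = μ • x' := by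
    refine ⟨herm x' (N x') / herm x' x', ?_⟩
    by_contra hne
    obtain ⟨z, hz⟩ : ∃ z, z = N x' - (herm x' (N x') / herm x' x') • x' := ⟨_, rfl⟩
    have hzU : z ∈ U := hz ▸ U.sub_mem (hNU x') (U.smul_mem _ hx'U)
    have h1 : herm w z = 0 := by rw [hz, herm_sub_right, herm_smul_right, hNx', hx'w, mul_zero, sub_zero]
    have h2 : herm x' z = 0 := by rw [hz, herm_sub_right, herm_smul_right, div_mul_cancel₀ _ hx'x', sub_self]
    have hli : LinearIndependent F ![v, u, w, x', z] := by
      rw [Fintype.linearIndependent_iff]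
      intro c hcs
      simp only [Fin.sum_univ_five] at hcs
      simp at hcs
      have hcv := congrArg (herm v) hcs
      have hcu := congrArg (herm u) hcs
      simp only [herm_add_right, herm_smul_right, herm_zero_right, hvv, hvu, huv, huu, hwv, ((hU w).mp hwU).2,
        ((hU x').mp hx'U).1, ((hU x').mp hx'U).2, ((hU z).mp hzU).1, ((hU z).mp hzU).2, mul_zero, mul_one, add_zero,
        zero_add] at hcv hcu
      rw [hcv, hcu, zero_smul, zero_smul, add_zero, zero_add] at hcs
      have hcw := congrArg (herm w) hcs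
      simp only [herm_add_right, herm_smul_right, hx'w, h1, mul_zero, add_zero, herm_zero_right, mul_eq_zero] at hcw
      rw [hcw.resolve_right hww, zero_smul, zero_add] at hcs
      have hcx := congrArg (herm x') hcs
      simp only [herm_add_right, herm_smul_right, h2, mul_zero, add_zero, herm_zero_right, mul_eq_zero] at hcx
      rw [hcx.resolve_right hx'x', zero_smul, zero_add, smul_eq_zero] at hcs
      have hz0 : z ≠ 0 := fun e => hne (sub_eq_zero.mp (hz ▸ e))
      intro i
      fin_cases i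
      exacts [hcu, hcv, hcw.resolve_right hww, hcx.resolve_right hx'x', hcs.resolve_right hz0]
    have := hli.fintype_card_le_finrank
    rw [Fintype.card_fin, Module.finrank_fin_fun] at this
    omega
  have hμl := hlift x' hx'U μ hμ hx'x'
  obtain ⟨c, hc⟩ : ∃ c, c = herm u (mat g *ᵥ w) := ⟨_, rfl⟩
  obtain ⟨c', hc'⟩ : ∃ c', c' = herm u (mat g *ᵥ x') := ⟨_, rfl⟩
  have hgx' := hgz x' hx'U
  rw [hμ, hμl, ← hc'] at hgx'
  rw [hrl, ← hc] at hgw
  have hc0 : c ≠ 0 := fun e => hww (hiso lam w (by rw [hgw, e, zero_smul, add_zero]))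
  obtain ⟨y, hy⟩ : ∃ y, y = c • x' - c' • w := ⟨_, rfl⟩
  have hy' : mat g *ᵥ y = lam • y := by
    rw [hy, Matrix.mulVec_sub, Matrix.mulVec_smul, Matrix.mulVec_smul, hgw, hgx']
    module
  have hyU : y ∈ U := hy ▸ U.sub_mem (U.smul_mem _ hx'U) (U.smul_mem _ hwU)
  refine ⟨v, y, ⟨hvv, ((hU y).mp hyU).1, hiso lam y hy', fun a b h => ?_⟩,
    ⟨lam, 0, by rw [zero_smul, add_zero, hv]⟩, ⟨0, lam, by rw [zero_smul, zero_add, hy']⟩⟩
  have h' := congrArg (herm u) h
  rw [herm_add_right, herm_smul_right, herm_smul_right, huv, ((hU y).mp hyU).2, mul_one, mul_zero, add_zero,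
    herm_zero_right] at h'
  rw [h', zero_smul, zero_add, smul_eq_zero] at h
  refine ⟨h', h.resolve_right fun e => hc0 ?_⟩
  have h2 := congrArg (herm x') e
  rw [hy, herm_sub_right, herm_smul_right, herm_smul_right, show herm x' w = 0 by rw [← star_herm, hx'w, star_zero],
    mul_zero, sub_zero, herm_zero_right] at h2
  exact (mul_eq_zero.mp h2).resolve_right hx'x'

theorem psu_four (hF : Fintype.card F = q ^ 2) (hstar : ∀ x : F, star x = x ^ q) : TwoCovered (Cfsg.PSU 4 F q) := by
  classical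
  obtain ⟨α, hα0, hα⟩ := Hermitian.exists_norm hstar hF (neg_ne_zero.mpr (one_ne_zero (α := F)))
    (by rw [star_neg, star_one])
  obtain ⟨v₀, hv₀⟩ : ∃ v₀ : Fin 4 → F, v₀ = ![1, α, 0, 0] := ⟨_, rfl⟩
  obtain ⟨w₀, hw₀⟩ : ∃ w₀ : Fin 4 → F, w₀ = ![0, 0, 1, α] := ⟨_, rfl⟩
  have hpair : IsoPair v₀ w₀ := by
    refine ⟨?_, ?_, ?_, fun c d h => ?_⟩
    · rw [hv₀]; simp [herm, dotProduct, Fin.sum_univ_four]; linear_combination hα
    · rw [hv₀, hw₀]; simp [herm, dotProduct, Fin.sum_univ_four]
    · rw [hw₀]; simp [herm, dotProduct, Fin.sum_univ_four]; linear_combination hα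
    · rw [hv₀, hw₀] at h
      exact ⟨by simpa using congrFun h 0, by simpa using congrFun h 2⟩
  obtain ⟨t, ht⟩ : ∃ t : ↥(Cfsg.SU 4 F q), t ∉ subStab (Submodule.span F ({v₀, w₀} : Set (Fin 4 → F))) := by
    obtain ⟨A, hA, hAv, hAw⟩ := exists_hyp hstar hF hpair
    have hcol : ∀ i j, herm (fun k => A k i) (fun k => A k j) = hypJ F i j := fun i j => by
      rw [← hA, herm_cols]
    have hp2 : IsoPair (fun k => A k 2) (fun k => A k 3) := by
      refine ⟨(hcol 2 2).trans rfl, (hcol 2 3).trans rfl, (hcol 3 3).trans rfl, fun c d h => ?_⟩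
      have h0 := congrArg (herm (fun k => A k 0)) h
      have h1 := congrArg (herm (fun k => A k 1)) h
      rw [herm_add_right, herm_smul_right, herm_smul_right, hcol, hcol, herm_zero_right] at h0 h1
      exact ⟨by simpa [hypJ] using h0, by simpa [hypJ] using h1⟩
    obtain ⟨x, a, ha, hxv, -⟩ := move_plane hstar hF hpair hp2
    refine ⟨x, fun h => ?_⟩
    obtain ⟨c, d, hcd⟩ := Submodule.mem_span_pair.mp (h v₀ (Submodule.subset_span (Or.inl rfl)))
    rw [hxv] at hcd
    have h0 := congrArg (herm v₀) hcd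
    rw [herm_add_right, herm_smul_right, herm_smul_right, herm_smul_right, hpair.1, hpair.2.1] at h0
    rw [show herm v₀ (fun k => A k 2) = 1 by rw [← hAv, hcol]; rfl] at h0
    exact ha (by linear_combination -h0)
  obtain ⟨t', ht'⟩ := line_miss (q := q) hstar hF (l := 2)
  refine twoCovered_quotient _ _ _ (miss_of_scalar_invariant (center_le_subStab hF (by norm_num) _) ht')
    (miss_of_scalar_invariant (center_le_subStab hF (by norm_num) _) ht) fun g => ?_
  by_cases hex : ∃ (r : F) (y : Fin 4 → F), mat g *ᵥ y = r • y ∧ herm y y ≠ 0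
  · obtain ⟨r, y, hy, hyy⟩ := hex
    exact Or.inl (to_line hstar hF g hyy hy)
  push Not at hex
  right
  obtain ⟨v, w, hvw, ⟨a, b, hgv⟩, ⟨c, d, hgw⟩⟩ :
      ∃ v w : Fin 4 → F, IsoPair v w ∧ (∃ a b : F, mat g *ᵥ v = a • v + b • w) ∧ ∃ a b : F, mat g *ᵥ w = a • v + b • w := by
    by_cases hr : ∃ r, (mat g).charpoly.IsRoot r
    · obtain ⟨r, hr⟩ := hr
      rw [IsRoot, Matrix.eval_charpoly] at hr
      obtain ⟨v, hv0, hv⟩ := Matrix.exists_mulVec_eq_zero_iff.mpr hr
      rw [Matrix.sub_mulVec, Matrix.scalar_apply, ← Matrix.smul_one_eq_diagonal, Matrix.smul_mulVec, Matrix.one_mulVec,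
        sub_eq_zero] at hv
      exact plane_of_isotropic hstar hF g hex hv0 hv.symm
    · push Not at hr
      exact plane_of_no_root hstar hF g hr
  obtain ⟨x, s, hs, hxv, hxw⟩ := move_plane hstar hF hvw hpair
  refine ⟨x, fun z hz => ?_⟩
  obtain ⟨e, f, rfl⟩ := Submodule.mem_span_pair.mp hz
  have iv : mat x⁻¹ *ᵥ v₀ = s⁻¹ • v := by
    have h := congrArg (fun z => mat x⁻¹ *ᵥ z) hxv
    simp only [Matrix.mulVec_mulVec, mat_inv_mul, Matrix.one_mulVec, Matrix.mulVec_smul] at h
    rw [h, inv_smul_smul₀ hs]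
  have iw : mat x⁻¹ *ᵥ w₀ = w := by
    rw [← hxw, Matrix.mulVec_mulVec, mat_inv_mul, Matrix.one_mulVec]
  rw [mat_mul, mat_mul, ← Matrix.mulVec_mulVec, ← Matrix.mulVec_mulVec]
  simp only [Matrix.mulVec_add, Matrix.mulVec_smul, iv, iw, hgv, hgw, hxv, hxw]
  refine Submodule.mem_span_pair.mpr ⟨e * s⁻¹ * a * s + f * c * s, e * s⁻¹ * b + f * d, ?_⟩
  module

end Cfsg.Agent.Small.Cover2.Herm
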