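import Cfsg.Agent.Lib.Small.Cover2.UnitaryFour
import Cfsg.Agent.Lib.Small.UnitaryConj

/-!
The three-dimensional unitary group of characteristic three is covered by the stabiliser of an
anisotropic line and the normaliser of a Singer field.
-/

set_option autoImplicit false
set_option linter.unusedSectionVars false

namespace Cfsg.Agent.Small.Cover2.Herm

open Matrix Cfsg.Agent.Small.Unitary Polynomial

variable {F : Type*} [Field F] [Fintype F] [StarRing F] {q : ℕ}

/-- The normaliser of the centraliser of a matrix. -/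
def normC {n : ℕ} (S : Matrix (Fin n) (Fin n) F) : Subgroup ↥(Cfsg.SU n F q) where
  carrier := {g | ∀ X : Matrix (Fin n) (Fin n) F, X * S = S * X →
    mat g * X * mat g⁻¹ * S = S * (mat g * X * mat g⁻¹)}
  one_mem' := fun X hX => by rwa [inv_one, mat_one, one_mul, mul_one]
  mul_mem' := fun {a b} ha hb X hX => by
    have h := ha _ (hb X hX)
    rw [_root_.mul_inv_rev, mat_mul, mat_mul]
    simp only [mul_assoc] at h ⊢
    exact h
  inv_mem' := fun {a} ha X hX => by
    let C : Submodule F (Matrix (Fin n) (Fin n) F) :=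
      { carrier := {X | X * S = S * X}
        zero_mem' := by simp
        add_mem' := fun {X Y} hX hY => by simp only [Set.mem_setOf_eq, add_mul, mul_add] at *; rw [hX, hY]
        smul_mem' := fun c X hX => by simp only [Set.mem_setOf_eq, smul_mul_assoc, mul_smul_comm] at *; rw [hX] }
    let L : C → C := fun X => ⟨mat a * X.1 * mat a⁻¹, ha X.1 X.2⟩
    have hinj : Function.Injective L := fun X Y h => Subtype.ext (by
      have h' := congrArg (fun Z => mat a⁻¹ * Z * mat a) (congrArg Subtype.val h)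
      simp only [L, mul_assoc, mat_inv_mul, mul_one] at h'
      simp only [← mul_assoc, mat_inv_mul, one_mul] at h'
      exact h')
    obtain ⟨Y, hY⟩ := Finite.injective_iff_surjective.mp hinj ⟨X, hX⟩
    have hY' : mat a * Y.1 * mat a⁻¹ = X := congrArg Subtype.val hY
    rw [← hY', inv_inv]
    have : mat a⁻¹ * (mat a * Y.1 * mat a⁻¹) * mat a = Y.1 := by
      simp only [mul_assoc, mat_inv_mul, mul_one]
      rw [← mul_assoc, mat_inv_mul, one_mul]
    rw [this]
    exact Y.2

theorem center_le_normC (hF : Fintype.card F = q ^ 2) {n : ℕ} (hn : 2 ≤ n) (S : Matrix (Fin n) (Fin n) F) :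
    Subgroup.center ↥(Cfsg.SU n F q) ≤ normC S := fun z hz X hX => by
  obtain ⟨c, hc⟩ := center_scalar hF hn hz
  have h : mat z * X * mat z⁻¹ = X := by
    rw [hc, smul_mul_assoc, one_mul, smul_mul_assoc]
    have := mat_mul_inv z
    rw [hc, smul_mul_assoc, one_mul] at this
    rw [← mul_smul_comm, this, mul_one]
  rw [h, hX]

/-- The centraliser of an irreducible root is a division ring. -/
theorem eq_zero_of_kernel {p : F[X]} (hp : Irreducible p) {n : ℕ} (hn : p.natDegree = n)
    {S X : Matrix (Fin n) (Fin n) F} (hS : aeval S p = 0) (hX : X * S = S * X) {v : Fin n → F} (hv : v ≠ 0)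
    (hXv : X *ᵥ v = 0) : X = 0 := by
  haveI : Fact (Irreducible p) := ⟨hp⟩
  haveI : FiniteDimensional F (AdjoinRoot p) := (AdjoinRoot.powerBasis hp.ne_zero).finite
  let ψ : AdjoinRoot p →ₗ[F] (Fin n → F) := (LinearMap.applyₗ v).comp (rootHom S hS).toLinearMap
  have hinj : Function.Injective ψ := by
    rw [← LinearMap.ker_eq_bot, Submodule.eq_bot_iff]
    intro r hr
    by_contra hr0
    refine hv ?_
    have h : rootHom S hS (r⁻¹ * r) v = 0 := by
      rw [map_mul, Module.End.mul_apply, show rootHom S hS r v = 0 from hr, map_zero]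
    rwa [inv_mul_cancel₀ hr0, map_one, Module.End.one_apply] at h
  have hsurj : Function.Surjective ψ := (LinearMap.injective_iff_surjective_of_finrank_eq_finrank (by
    rw [(AdjoinRoot.powerBasis hp.ne_zero).finrank, AdjoinRoot.powerBasis_dim, Module.finrank_fin_fun, hn])).mp hinj
  refine Matrix.toLin'.injective (LinearMap.ext fun w => ?_)
  obtain ⟨r, rfl⟩ := hsurj w
  obtain ⟨b, rfl⟩ := AdjoinRoot.mk_surjective r
  have e : ψ (AdjoinRoot.mk p b) = aeval S b *ᵥ v := by
    show Matrix.toLinAlgEquiv' (aeval S b) v = _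
    rw [Matrix.toLinAlgEquiv'_apply]
  rw [Matrix.toLin'_apply, map_zero, LinearMap.zero_apply, e, Matrix.mulVec_mulVec]
  have hgen : ∀ b : F[X], Commute X (aeval S b) := fun b => by
    induction b using Polynomial.induction_on' with
    | add a b ha hb => rw [map_add]; exact ha.add_right hb
    | monomial k c =>
      rw [aeval_monomial]
      exact (Algebra.commute_algebraMap_right c X).mul_right ((show Commute X S from hX).pow_right k)
  have hc := hgen b
  rw [hc.eq, ← Matrix.mulVec_mulVec, hXv, Matrix.mulVec_zero]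

/-- The cubic of Artin and Schreier. -/
noncomputable def asPoly (e : F) : F[X] := X ^ 3 - X - C e

theorem asPoly_natDegree (e : F) : (asPoly e).natDegree = 3 := by
  rw [asPoly]; compute_degree!

variable [CharP F 3]

theorem three0 : (3 : F) = 0 := by exact_mod_cast CharP.cast_eq_zero F 3

theorem matThree {n : ℕ} (A : Matrix (Fin n) (Fin n) F) : (3 : ℕ) • A = 0 := by
  rw [← Nat.cast_smul_eq_nsmul F, show ((3 : ℕ) : F) = 0 from CharP.cast_eq_zero F 3, zero_smul]

theorem exists_irreducible_as (hstar : ∀ x : F, star x = x ^ q) :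
    ∃ e : F, star e = e ∧ Irreducible (asPoly e) := by
  classical
  let f : {x : F // star x = x} → {x : F // star x = x} := fun x =>
    ⟨x.1 ^ 3 - x.1, by rw [star_sub, star_pow, x.2]⟩
  have hns : ¬ Function.Surjective f := fun hs => by
    have h1 : f ⟨1, star_one F⟩ = f ⟨0, star_zero F⟩ := Subtype.ext (by simp [f])
    exact one_ne_zero (congrArg Subtype.val (Finite.injective_iff_surjective.mpr hs h1))
  unfold Function.Surjective at hns
  push Not at hns
  obtain ⟨e, he⟩ := hns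
  refine ⟨e.1, e.2, irreducible_of_degree_le_three_of_not_isRoot (by rw [asPoly_natDegree]; decide) fun x hx => ?_⟩
  have hx' : x ^ 3 - x - e.1 = 0 := by simpa [asPoly, IsRoot] using hx
  have hs : star x ^ 3 - star x - e.1 = 0 := by
    have := congrArg star hx'
    rwa [star_sub, star_sub, star_pow, e.2, star_zero] at this
  have hk : (star x - x) * ((star x - x) - 1) * ((star x - x) + 1) = 0 := by
    linear_combination hs - hx' + (star x * x * (x - star x)) * three0 (F := F)
  have hneg : star (star x - x) = -(star x - x) := by rw [star_sub, star_star, neg_sub]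
  have hfix : star x = x := by
    rcases mul_eq_zero.mp hk with h | h
    · rcases mul_eq_zero.mp h with h | h
      · exact sub_eq_zero.mp h
      · rw [sub_eq_zero.mp h, star_one] at hneg
        exfalso
        exact one_ne_zero (α := F) (by linear_combination (-1 : F) * hneg + three0 (F := F))
    · rw [show star x - x = -1 by linear_combination h, star_neg, star_one] at hneg
      exfalso
      exact one_ne_zero (α := F) (by linear_combination hneg + three0 (F := F))
  exact he ⟨x, hfix⟩ (Subtype.ext (sub_eq_zero.mp hx'))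

theorem aeval_as {n : ℕ} (e : F) (S : Matrix (Fin n) (Fin n) F) :
    aeval S (asPoly e) = S ^ 3 - S - algebraMap F (Matrix (Fin n) (Fin n) F) e := by
  simp [asPoly]

theorem scalar_root (c : F) : ∃ d : F, d ^ 3 = c := by
  have : Function.Surjective (frobenius F 3) := by
    haveI : Fact (Nat.Prime 3) := ⟨Nat.prime_three⟩
    exact (Finite.injective_iff_surjective).mp (frobenius F 3).injective
  obtain ⟨d, hd⟩ := this c
  exact ⟨d, hd⟩

theorem unit_norm_root {d : F} (h : star (d ^ 3) * d ^ 3 = 1) : star d * d = 1 := by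
  haveI : Fact (Nat.Prime 3) := ⟨Nat.prime_three⟩
  rw [star_pow, ← mul_pow] at h
  exact (frobenius F 3).injective (show (star d * d) ^ 3 = 1 ^ 3 by rw [h, one_pow])

/-- A unitary intertwiner is adjusted to determinant one. -/
theorem adjust (hstar : ∀ x : F, star x = x ^ q) (U A B : Matrix (Fin 3) (Fin 3) F) (hU : Uᴴ * U = 1)
    (h : U * A = B * U) : ∃ x : ↥(Cfsg.SU 3 F q), mat x * A = B * mat x := by
  have hd : star U.det * U.det = 1 := by
    have := congrArg Matrix.det hU
    rwa [Matrix.det_mul, Matrix.det_conjTranspose, Matrix.det_one] at this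
  obtain ⟨d, hd3⟩ := scalar_root U.det⁻¹
  have hd1 : star d * d = 1 := unit_norm_root (by rw [hd3, star_inv₀, ← mul_inv, hd, inv_one])
  obtain ⟨x, hx⟩ := exists_mat hstar (d • U) (by
      rw [Matrix.conjTranspose_smul, smul_mul_assoc, mul_smul_comm, smul_smul, hd1, one_smul, hU])
    (by rw [Matrix.det_smul, Fintype.card_fin, hd3, inv_mul_cancel₀ (right_ne_zero_of_mul_eq_one hd)])
  exact ⟨x, by rw [hx, smul_mul_assoc, mul_smul_comm, h]⟩

/-- Hermitian roots are conjugate by SU. -/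
theorem conj_roots (hstar : ∀ x : F, star x = x ^ q) (hF : Fintype.card F = q ^ 2) {p : F[X]} (hp : Irreducible p)
    (hp3 : p.natDegree = 3) (A B : Matrix (Fin 3) (Fin 3) F) (hA : aeval A p = 0) (hB : aeval B p = 0)
    (hAh : Aᴴ = A) (hBh : Bᴴ = B) : ∃ x : ↥(Cfsg.SU 3 F q), mat x * A = B * mat x := by
  obtain ⟨g, hg⟩ := exists_sl_conj hp Nat.one_pos (by rw [hp3]) A B hA hB
  obtain ⟨G, hG⟩ : ∃ G : Matrix (Fin 3) (Fin 3) F, G = g.1 := ⟨_, rfl⟩
  rw [← hG] at hg
  have hGu : IsUnit G := by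
    rw [Matrix.isUnit_iff_isUnit_det, hG, show (g.1 : Matrix (Fin 3) (Fin 3) F).det = 1 from g.2]
    exact isUnit_one
  have hg' : A * Gᴴ = Gᴴ * B := by
    have := congrArg Matrix.conjTranspose hg
    rwa [Matrix.conjTranspose_mul, Matrix.conjTranspose_mul, hAh, hBh] at this
  obtain ⟨k, hku, hkk, hkc⟩ := UnitaryConj.exists_norm hstar hF (Gᴴ * G)
    (by rw [Matrix.conjTranspose_mul, Matrix.conjTranspose_conjTranspose]) (hGu.star.mul hGu)
  have hkA : A * k = k * A := hkc A (by rw [mul_assoc, hg, ← mul_assoc, ← hg', mul_assoc])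
  have hkd : IsUnit k.det := (Matrix.isUnit_iff_isUnit_det _).mp hku
  refine adjust hstar (G * k⁻¹) A B ?_ ?_
  · rw [Matrix.conjTranspose_mul]
    calc (k⁻¹)ᴴ * Gᴴ * (G * k⁻¹) = (k⁻¹)ᴴ * (Gᴴ * G) * k⁻¹ := by simp only [mul_assoc]
      _ = (k⁻¹)ᴴ * kᴴ * (k * k⁻¹) := by rw [← hkk]; simp only [mul_assoc]
      _ = 1 := by
        rw [← Matrix.conjTranspose_mul, Matrix.mul_nonsing_inv _ hkd, Matrix.conjTranspose_one, one_mul]
  · calc G * k⁻¹ * A = G * (k⁻¹ * (A * k) * k⁻¹) := by
          simp only [mul_assoc]; rw [Matrix.mul_nonsing_inv _ hkd, mul_one]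
      _ = G * (A * k⁻¹) := by rw [hkA, Matrix.nonsing_inv_mul_cancel_left _ _ hkd]
      _ = _ := by rw [← mul_assoc, hg, mul_assoc]

/-- Regular unipotents have one shape. -/
theorem unip_basis (M : Matrix (Fin 3) (Fin 3) F) (h3 : (M - 1) ^ 3 = 0) (h2 : (M - 1) ^ 2 ≠ 0) :
    ∃ P : GL (Fin 3) F, M * (P : Matrix (Fin 3) (Fin 3) F) =
      (P : Matrix (Fin 3) (Fin 3) F) * !![1, 0, 0; 1, 1, 0; 0, 1, 1] := by
  classical
  obtain ⟨N, hN⟩ : ∃ N, N = M - 1 := ⟨_, rfl⟩
  rw [← hN] at h3 h2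
  obtain ⟨v, hv⟩ : ∃ v, N ^ 2 *ᵥ v ≠ 0 := by
    by_contra! h
    exact h2 (Matrix.toLin'.injective (LinearMap.ext fun v => by
      rw [Matrix.toLin'_apply, map_zero, LinearMap.zero_apply]; exact h v))
  obtain ⟨P, hP⟩ : ∃ P : Matrix (Fin 3) (Fin 3) F, P = Matrix.of fun i j => (![v, N *ᵥ v, N ^ 2 *ᵥ v] : Fin 3 → Fin 3 → F) j i :=
    ⟨_, rfl⟩
  have hcol : ∀ c : Fin 3 → F, P *ᵥ c = c 0 • v + c 1 • (N *ᵥ v) + c 2 • (N ^ 2 *ᵥ v) := fun c => by
    funext i
    simp [hP, Matrix.mulVec, dotProduct, Fin.sum_univ_three]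
    ring
  have hdet : IsUnit P.det := by
    rw [isUnit_iff_ne_zero]
    intro h
    obtain ⟨c, hc0, hc⟩ := Matrix.exists_mulVec_eq_zero_iff.mpr h
    rw [hcol] at hc
    have z1 : ∀ w, N ^ 2 *ᵥ (N *ᵥ w) = 0 := fun w => by rw [Matrix.mulVec_mulVec, ← pow_succ, h3, Matrix.zero_mulVec]
    have z2 : ∀ w, N ^ 2 *ᵥ (N ^ 2 *ᵥ w) = 0 := fun w => by
      rw [Matrix.mulVec_mulVec, ← pow_add, show (2 + 2) = 3 + 1 from rfl, pow_succ, h3, zero_mul, Matrix.zero_mulVec]
    have e0 := congrArg (fun w => N ^ 2 *ᵥ w) hc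
    simp only [Matrix.mulVec_add, Matrix.mulVec_smul, z1, z2, smul_zero, add_zero, Matrix.mulVec_zero] at e0
    have c0 := (smul_eq_zero.mp e0).resolve_right hv
    rw [c0, zero_smul, zero_add] at hc
    have e1 := congrArg (fun w => N *ᵥ w) hc
    simp only [Matrix.mulVec_add, Matrix.mulVec_smul, Matrix.mulVec_mulVec, Matrix.mulVec_zero] at e1
    rw [← pow_two, ← pow_succ', h3, Matrix.zero_mulVec, smul_zero, add_zero] at e1
    have c1 := (smul_eq_zero.mp e1).resolve_right hv
    rw [c1, zero_smul, zero_add] at hc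
    have c2 := (smul_eq_zero.mp hc).resolve_right hv
    exact hc0 (funext fun i => by fin_cases i <;> assumption)
  refine ⟨Matrix.GeneralLinearGroup.mk'' P hdet, ?_⟩
  show M * P = P * _
  refine Matrix.ext_of_mulVec_single fun j => ?_
  have hM : ∀ w, M *ᵥ w = N *ᵥ w + w := fun w => by rw [hN, Matrix.sub_mulVec, Matrix.one_mulVec, sub_add_cancel]
  have e3 : N *ᵥ (N ^ 2 *ᵥ v) = 0 := by rw [Matrix.mulVec_mulVec, ← pow_succ', h3, Matrix.zero_mulVec]
  have e2 : N *ᵥ (N *ᵥ v) = N ^ 2 *ᵥ v := by rw [Matrix.mulVec_mulVec, pow_two]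
  rw [← Matrix.mulVec_mulVec, ← Matrix.mulVec_mulVec, hcol, hcol, hM]
  fin_cases j <;> simp [e2, e3, add_comm]

/-- Regular unipotent elements are conjugate by SU. -/
theorem conj_unip (hstar : ∀ x : F, star x = x ^ q) (hF : Fintype.card F = q ^ 2) (A B : Matrix (Fin 3) (Fin 3) F)
    (hA : Aᴴ * A = 1) (hB : Bᴴ * B = 1) (a3 : (A - 1) ^ 3 = 0) (a2 : (A - 1) ^ 2 ≠ 0)
    (b3 : (B - 1) ^ 3 = 0) (b2 : (B - 1) ^ 2 ≠ 0) : ∃ x : ↥(Cfsg.SU 3 F q), mat x * A = B * mat x := by
  obtain ⟨P, hP⟩ := unip_basis A a3 a2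
  obtain ⟨Q, hQ⟩ := unip_basis B b3 b2
  let a : GL (Fin 3) F := ⟨A, Aᴴ, mul_eq_one_comm.mp hA, hA⟩
  let b : GL (Fin 3) F := ⟨B, Bᴴ, mul_eq_one_comm.mp hB, hB⟩
  have ha : a ∈ Cfsg.GU 3 F q := (PSUn.mem_GU_iff_star hstar a).2 hA
  have hb : b ∈ Cfsg.GU 3 F q := (PSUn.mem_GU_iff_star hstar b).2 hB
  have hc : IsConj a b := isConj_iff.2 ⟨Q * P⁻¹, by
    rw [mul_inv_eq_iff_eq_mul]
    refine Units.ext ?_
    show (Q : Matrix (Fin 3) (Fin 3) F) * ((P⁻¹ : GL (Fin 3) F) : Matrix (Fin 3) (Fin 3) F) * A =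
      B * ((Q : Matrix (Fin 3) (Fin 3) F) * ((P⁻¹ : GL (Fin 3) F) : Matrix (Fin 3) (Fin 3) F))
    rw [← mul_assoc B, hQ]
    calc _ = (Q : Matrix (Fin 3) (Fin 3) F) * ((P⁻¹ : GL (Fin 3) F) : Matrix (Fin 3) (Fin 3) F) *
          (A * (P : Matrix (Fin 3) (Fin 3) F)) * ((P⁻¹ : GL (Fin 3) F) : Matrix (Fin 3) (Fin 3) F) := by
          simp only [mul_assoc]; rw [P.mul_inv, mul_one]
      _ = _ := by rw [hP]; simp only [mul_assoc]; rw [P.inv_mul_cancel_left]⟩
  obtain ⟨u, hu⟩ := isConj_iff.1 ((UnitaryConj.conj_GU hstar hF ⟨a, ha⟩ ⟨b, hb⟩).2 hc)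
  refine adjust hstar ((u : GL (Fin 3) F) : Matrix (Fin 3) (Fin 3) F) A B ((PSUn.mem_GU_iff_star hstar _).1 u.2) ?_
  have := congrArg (fun z : ↥(Cfsg.GU 3 F q) => ((z : GL (Fin 3) F) : Matrix (Fin 3) (Fin 3) F)) (mul_inv_eq_iff_eq_mul.1 hu)
  exact this

set_option maxHeartbeats 1000000 in
/-- The model: a hermitian root and a regular unipotent shifting it. -/
theorem exists_model (hstar : ∀ x : F, star x = x ^ q) (hF : Fintype.card F = q ^ 2) {e : F} (he : star e = e) :
    ∃ S T : Matrix (Fin 3) (Fin 3) F, Sᴴ = S ∧ aeval S (asPoly e) = 0 ∧ Tᴴ * T = 1 ∧ (T - 1) ^ 3 = 0 ∧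
      (T - 1) ^ 2 ≠ 0 ∧ T * S = (S + 1) * T := by
  classical
  obtain ⟨H, hH⟩ : ∃ H : Matrix (Fin 3) (Fin 3) F, H = !![0, 0, 1; 0, 1, 0; 1, 0, 1] := ⟨_, rfl⟩
  obtain ⟨R, hR⟩ : ∃ R : Matrix (Fin 3) (Fin 3) F, R = !![0, 0, e; 1, 0, 1; 0, 1, 0] := ⟨_, rfl⟩
  obtain ⟨W, hW⟩ : ∃ W : Matrix (Fin 3) (Fin 3) F, W = !![1, 1, 1; 0, 1, -1; 0, 0, 1] := ⟨_, rfl⟩
  have three : (3 : F) = 0 := three0
  have hHh : Hᴴ = H := by
    rw [hH]; ext i j; fin_cases i <;> fin_cases j <;> simp
  have hHu : IsUnit H := by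
    rw [Matrix.isUnit_iff_isUnit_det, hH]
    simp [Matrix.det_fin_three]
  obtain ⟨P, hPu, hP⟩ := Hermitian.exists_congr_one hstar hF 3 H hHh hHu
  obtain ⟨P, rfl⟩ := hPu
  have hRp : aeval R (asPoly e) = 0 := by
    rw [aeval_as, hR, pow_succ, pow_two]
    ext i j
    fin_cases i <;> fin_cases j <;> simp [Matrix.mul_apply, Fin.sum_univ_three, Matrix.algebraMap_matrix_apply]
  have hRH : Rᴴ * H = H * R := by
    rw [hR, hH]
    ext i j
    fin_cases i <;> fin_cases j <;> simp [Matrix.mul_apply, Fin.sum_univ_three, he]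
  have hWH : Wᴴ * H * W = H := by
    rw [hW, hH]
    ext i j
    fin_cases i <;> fin_cases j <;> simp [Matrix.mul_apply, Fin.sum_univ_three] <;>
      first
        | linear_combination three
        | linear_combination (-1 : F) * three
        | ring1
  have hWR : W * R = (R + 1) * W := by
    rw [hW, hR]
    ext i j
    fin_cases i <;> fin_cases j <;> simp [Matrix.mul_apply, Fin.sum_univ_three] <;>
      first
        | linear_combination three
        | linear_combination (-1 : F) * three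
        | ring1
  have hW3 : (W - 1) ^ 3 = 0 ∧ (W - 1) ^ 2 ≠ 0 := by
    have hW1 : W - 1 = !![0, 1, 1; 0, 0, -1; 0, 0, 0] := by
      rw [hW]; ext i j; fin_cases i <;> fin_cases j <;> simp
    have hW2 : (W - 1) ^ 2 = !![0, 0, -1; 0, 0, 0; 0, 0, 0] := by
      rw [pow_two, hW1]; ext i j; fin_cases i <;> fin_cases j <;> simp [Matrix.mul_apply, Fin.sum_univ_three]
    refine ⟨?_, fun h => ?_⟩
    · rw [pow_succ, hW2, hW1]
      ext i j
      fin_cases i <;> fin_cases j <;> simp [Matrix.mul_apply, Fin.sum_univ_three]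
    · have := congrFun (congrFun (hW2.symm.trans h) 0) 2
      simp at this
  have hPH : (P : Matrix (Fin 3) (Fin 3) F)ᴴ * H = ((P⁻¹ : GL (Fin 3) F) : Matrix (Fin 3) (Fin 3) F) := by
    calc _ = (P : Matrix (Fin 3) (Fin 3) F)ᴴ * H * (P : Matrix (Fin 3) (Fin 3) F) * ((P⁻¹ : GL (Fin 3) F) : Matrix (Fin 3) (Fin 3) F) := by
          rw [mul_assoc _ (P : Matrix (Fin 3) (Fin 3) F), P.mul_inv, mul_one]
      _ = _ := by rw [hP, one_mul]
  have hPH' : H * (P : Matrix (Fin 3) (Fin 3) F) = ((P⁻¹ : GL (Fin 3) F) : Matrix (Fin 3) (Fin 3) F)ᴴ := by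
    rw [← hPH, Matrix.conjTranspose_mul, Matrix.conjTranspose_conjTranspose, hHh]
  obtain ⟨c, hc⟩ : ∃ c : Matrix (Fin 3) (Fin 3) F →ₐ[F] Matrix (Fin 3) (Fin 3) F,
      ∀ X, c X = ((P⁻¹ : GL (Fin 3) F) : Matrix (Fin 3) (Fin 3) F) * X * (P : Matrix (Fin 3) (Fin 3) F) := by
    let e : Matrix (Fin 3) (Fin 3) F →ₐ[F] Matrix (Fin 3) (Fin 3) F :=
      { toFun := fun X => ((P⁻¹ : GL (Fin 3) F) : Matrix (Fin 3) (Fin 3) F) * X * (P : Matrix (Fin 3) (Fin 3) F)
        map_one' := by rw [mul_one, P.inv_mul]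
        map_zero' := by rw [mul_zero, zero_mul]
        map_add' := fun X Y => by rw [mul_add, add_mul]
        map_mul' := fun X Y => by simp only [mul_assoc]; rw [P.mul_inv_cancel_left]
        commutes' := fun r => by rw [← Algebra.commutes, mul_assoc, P.inv_mul, mul_one] }
    exact ⟨e, fun X => rfl⟩
  have hinj : ∀ X, c X = 0 → X = 0 := fun X h => by
    rwa [hc, Units.mul_left_eq_zero, Units.mul_right_eq_zero] at h
  refine ⟨c R, c W, ?_, ?_, ?_, ?_, ?_, ?_⟩
  · rw [hc, Matrix.conjTranspose_mul, Matrix.conjTranspose_mul, ← hPH', ← hPH]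
    calc _ = (P : Matrix (Fin 3) (Fin 3) F)ᴴ * (Rᴴ * H) * (P : Matrix (Fin 3) (Fin 3) F) := by simp only [mul_assoc]
      _ = _ := by rw [hRH]; simp only [mul_assoc]
  · rw [aeval_algHom_apply, hRp, map_zero]
  · rw [hc, Matrix.conjTranspose_mul, Matrix.conjTranspose_mul, ← hPH']
    calc _ = (P : Matrix (Fin 3) (Fin 3) F)ᴴ * (Wᴴ * H * W) * (P : Matrix (Fin 3) (Fin 3) F) := by
          simp only [mul_assoc]
          rw [P.mul_inv_cancel_left]
      _ = 1 := by rw [hWH, hP]
  · rw [show c W - 1 = c (W - 1) by rw [map_sub, map_one], ← map_pow, hW3.1, map_zero]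
  · rw [show c W - 1 = c (W - 1) by rw [map_sub, map_one], ← map_pow]
    exact fun h => hW3.2 (hinj _ h)
  · rw [← map_one c, ← map_add, ← map_mul, ← map_mul, hWR]

/-- An isometry of the plane at an isotropic eigenline. -/
theorem unip_of_isotropic (hstar : ∀ x : F, star x = x ^ q) (hF : Fintype.card F = q ^ 2) (g : ↥(Cfsg.SU 3 F q))
    (hiso : ∀ (r : F) (y : Fin 3 → F), mat g *ᵥ y = r • y → herm y y = 0) {v : Fin 3 → F} {lam : F} (hv0 : v ≠ 0)
    (hv : mat g *ᵥ v = lam • v) : (mat g - 1) ^ 3 = 0 ∧ (mat g - 1) ^ 2 ≠ 0 := by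
  classical
  have hvv : herm v v = 0 := hiso lam v hv
  have hl : lam ≠ 0 := fun h => hv0 (by
    rw [← Matrix.one_mulVec v, ← mat_inv_mul g, ← Matrix.mulVec_mulVec, hv, h, zero_smul, Matrix.mulVec_zero])
  obtain ⟨u0, hu0⟩ : ∃ u0, herm v u0 = 1 := by
    obtain ⟨k, hk⟩ : ∃ k, v k ≠ 0 := Function.ne_iff.mp hv0
    exact ⟨Pi.single k (star (v k))⁻¹, by rw [herm_single_right, mul_inv_cancel₀ (star_ne_zero hk)]⟩
  obtain ⟨a, ha⟩ := exists_trace hstar hF (star_herm u0 u0)
  obtain ⟨u, hu⟩ : ∃ u, u = u0 + a • v := ⟨_, rfl⟩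
  have hvu : herm v u = 1 := by rw [hu, herm_add_right, herm_smul_right, hvv, hu0, mul_zero, add_zero]
  have huv : herm u v = 1 := by rw [← star_herm, hvu, star_one]
  have huu : herm u u = 0 := by
    rw [hu, herm_add_left, herm_smul_left, herm_add_right, herm_add_right, herm_smul_right, herm_smul_right,
      hvv, hu0, show herm u0 v = 1 by rw [← star_herm, hu0, star_one]]
    linear_combination ha
  obtain ⟨w, hwv, hwu, hw0⟩ : ∃ w, herm v w = 0 ∧ herm u w = 0 ∧ w ≠ 0 := by
    let Φ : (Fin 3 → F) →ₗ[F] F × F :=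
      { toFun := fun z => (herm v z, herm u z)
        map_add' := fun x y => Prod.ext (herm_add_right _ _ _) (herm_add_right _ _ _)
        map_smul' := fun c x => Prod.ext (herm_smul_right _ _ _) (herm_smul_right _ _ _) }
    have hk : LinearMap.ker Φ ≠ ⊥ := fun h => by
      have := LinearMap.finrank_le_finrank_of_injective (LinearMap.ker_eq_bot.mp h)
      rw [Module.finrank_fin_fun, Module.finrank_prod, Module.finrank_self] at this
      omega
    obtain ⟨w, hw, hw0⟩ := Submodule.exists_mem_ne_zero_of_ne_bot hk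
    exact ⟨w, congrArg Prod.fst hw, congrArg Prod.snd hw, hw0⟩
  have hvw' : herm w v = 0 := by rw [← star_herm, hwv, star_zero]
  have huw' : herm w u = 0 := by rw [← star_herm, hwu, star_zero]
  have hindep : LinearIndependent F ![v, w, u] := by
    rw [Fintype.linearIndependent_iff]
    intro c hc
    simp only [Fin.sum_univ_three] at hc
    simp at hc
    have h2 := congrArg (herm v) hc
    have h0 := congrArg (herm u) hc
    simp only [herm_add_right, herm_smul_right, herm_zero_right, hvv, hwv, hvu, huv, hwu, huu, mul_zero, mul_one,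
      add_zero, zero_add] at h2 h0
    rw [h0, h2, zero_smul, zero_smul, zero_add, add_zero, smul_eq_zero] at hc
    intro i
    fin_cases i
    exacts [h0, hc.resolve_right hw0, h2]
  have hcoord : ∀ z, ∃ c : Fin 3 → F, z = c 0 • v + c 1 • w + c 2 • u := fun z => by
    have htop := hindep.span_eq_top_of_card_eq_finrank (by rw [Fintype.card_fin, Module.finrank_fin_fun])
    have hz : z ∈ Submodule.span F (Set.range ![v, w, u]) := htop ▸ trivial
    obtain ⟨c, hc⟩ := (Submodule.mem_span_range_iff_exists_fun F).mp hz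
    simp only [Fin.sum_univ_three] at hc
    simp at hc
    exact ⟨c, hc.symm⟩
  have hww : herm w w ≠ 0 := fun h => hw0 (herm_nondeg fun z => by
    obtain ⟨c, rfl⟩ := hcoord z
    simp only [herm_add_right, herm_smul_right, hvw', huw', h, mul_zero, add_zero])
  -- the images
  have hgv : ∀ z, star lam * herm v (mat g *ᵥ z) = herm v z := fun z => by
    rw [← herm_smul_left, ← hv, herm_mat hstar]
  have hgw0 : herm v (mat g *ᵥ w) = 0 := (mul_eq_zero.mp ((hgv w).trans hwv)).resolve_left (star_ne_zero hl)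
  obtain ⟨cw, hcw⟩ := hcoord (mat g *ᵥ w)
  have hcw2 : cw 2 = 0 := by
    have h := congrArg (herm v) hcw
    simpa [herm_add_right, herm_smul_right, hvv, hwv, hvu, hgw0] using h.symm
  rw [hcw2, zero_smul, add_zero] at hcw
  obtain ⟨cu, hcu⟩ := hcoord (mat g *ᵥ u)
  have hcu2 : star lam * cu 2 = 1 := by
    have h := hgv u
    rw [hcu, hvu] at h
    simpa [herm_add_right, herm_smul_right, hvv, hwv, hvu] using h
  have hmu : cw 1 = lam := by
    by_contra hne
    obtain ⟨s, hs⟩ : ∃ s, s * (cw 1 - lam) = cw 0 := ⟨_, div_mul_cancel₀ _ (sub_ne_zero.mpr hne)⟩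
    have h := hiso (cw 1) (w + s • v) (by
      rw [Matrix.mulVec_add, Matrix.mulVec_smul, hcw, hv, ← hs]
      module)
    simp only [herm_add_left, herm_add_right, herm_smul_left, herm_smul_right, hvv, hwv, hvw', mul_zero, add_zero] at h
    exact hww h
  rw [hmu] at hcw
  have hnorm : star lam * lam = 1 := by
    have h := herm_mat hstar g w w
    rw [hcw] at h
    simp only [herm_add_left, herm_add_right, herm_smul_left, herm_smul_right, hvv, hwv, hvw', mul_zero, add_zero,
      zero_add] at h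
    exact mul_right_cancel₀ hww (by linear_combination h)
  have hcu2' : cu 2 = lam := mul_left_cancel₀ (star_ne_zero hl) (hcu2.trans hnorm.symm)
  have hc0 : cw 0 ≠ 0 := fun h => hww (hiso lam w (by rw [hcw, h, zero_smul, zero_add]))
  have hcu1 : cu 1 ≠ 0 := fun h1 => by
    have h := herm_mat hstar g w u
    rw [hcw, hcu, huw', h1] at h
    simp only [herm_add_left, herm_add_right, herm_smul_left, herm_smul_right, hvv, hwv, hvw', huw', hvu, zero_smul,
      herm_zero_right, mul_zero, add_zero, zero_add, mul_one] at h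
    rcases mul_eq_zero.mp h with h | h
    · first
        | exact hl (by rw [← hcu2', h])
        | exact hc0 (star_eq_zero.mp h)
    · first
        | exact hl (by rw [← hcu2', h])
        | exact hc0 (star_eq_zero.mp h)
  -- the determinant
  have hl1 : lam = 1 := by
    obtain ⟨B, hB⟩ : ∃ B : Matrix (Fin 3) (Fin 3) F, B = Matrix.of fun i j => (![v, w, u] : Fin 3 → Fin 3 → F) j i :=
      ⟨_, rfl⟩
    have hBd : B.det ≠ 0 := fun h => by
      obtain ⟨c, hc0', hc⟩ := Matrix.exists_mulVec_eq_zero_iff.mpr h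
      refine hc0' (funext (Fintype.linearIndependent_iff.mp hindep c ?_))
      rw [← hc]
      funext i
      simp [hB, Matrix.mulVec, dotProduct, Fin.sum_univ_three]
      ring
    have he : mat g * B = B * !![lam, cw 0, cu 0; 0, lam, cu 1; 0, 0, lam] := by
      ext i j
      have e1 := congrFun hv i
      have e2 := congrFun hcw i
      have e3 := congrFun hcu i
      simp only [Matrix.mulVec, dotProduct, Pi.add_apply, Pi.smul_apply, smul_eq_mul, hcu2'] at e1 e2 e3
      fin_cases j <;> simp [hB, Matrix.mul_apply, Fin.sum_univ_three] at e1 e2 e3 ⊢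
      · linear_combination e1
      · linear_combination e2
      · linear_combination e3
    have h := congrArg Matrix.det he
    have hU : (!![lam, cw 0, cu 0; 0, lam, cu 1; 0, 0, lam] : Matrix (Fin 3) (Fin 3) F).det = lam ^ 3 := by
      simp [Matrix.det_fin_three]; ring
    rw [Matrix.det_mul, Matrix.det_mul, show (mat g).det = 1 from g.1.2, one_mul, hU] at h
    have h3 : lam ^ 3 = 1 := mul_left_cancel₀ hBd (by linear_combination -h)
    haveI : Fact (Nat.Prime 3) := ⟨Nat.prime_three⟩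
    exact (frobenius F 3).injective (show lam ^ 3 = 1 ^ 3 by rw [h3, one_pow])
  rw [hl1] at hv hcw
  rw [hl1] at hcu2'
  rw [hcu2'] at hcu
  have N0 : (mat g - 1) *ᵥ v = 0 := by rw [Matrix.sub_mulVec, Matrix.one_mulVec, hv, one_smul, sub_self]
  have N1 : (mat g - 1) *ᵥ w = cw 0 • v := by
    rw [Matrix.sub_mulVec, Matrix.one_mulVec, hcw]; module
  have N2 : (mat g - 1) *ᵥ u = cu 0 • v + cu 1 • w := by
    rw [Matrix.sub_mulVec, Matrix.one_mulVec, hcu]; module
  refine ⟨Matrix.toLin'.injective (LinearMap.ext fun z => ?_), fun h => ?_⟩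
  · obtain ⟨c, rfl⟩ := hcoord z
    rw [Matrix.toLin'_apply, map_zero, LinearMap.zero_apply]
    simp only [pow_succ, pow_zero, one_mul, ← Matrix.mulVec_mulVec, Matrix.mulVec_add, Matrix.mulVec_smul, N0, N1, N2,
      Matrix.mulVec_zero, smul_zero, add_zero, zero_add]
  · have h' := congrArg (fun X => X *ᵥ u) h
    simp only [pow_two, ← Matrix.mulVec_mulVec, N2, Matrix.mulVec_add, Matrix.mulVec_smul, N0, N1, smul_zero, zero_add,
      Matrix.zero_mulVec, smul_smul, smul_eq_zero, mul_eq_zero] at h'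
    rcases h' with (h' | h') | h'
    exacts [hcu1 h', hc0 h', hv0 h']

/-- A transvection outside the normaliser. -/
theorem normC_miss (hstar : ∀ x : F, star x = x ^ q) (hF : Fintype.card F = q ^ 2) {p : F[X]} (hp : Irreducible p)
    (hp3 : p.natDegree = 3) {S : Matrix (Fin 3) (Fin 3) F} (hS : aeval S p = 0) :
    ∃ t : ↥(Cfsg.SU 3 F q), t ∉ normC S := by
  classical
  obtain ⟨α, hα0, hα⟩ := Hermitian.exists_norm hstar hF (neg_ne_zero.mpr (one_ne_zero (α := F)))
    (by rw [star_neg, star_one])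
  obtain ⟨v, hv⟩ : ∃ v : Fin 3 → F, v = ![1, α, 0] := ⟨_, rfl⟩
  have hvv : herm v v = 0 := by
    rw [hv]; simp [herm, dotProduct, Fin.sum_univ_three]; linear_combination hα
  have hv0 : v ≠ 0 := fun h => by simpa [hv] using congrFun h 0
  obtain ⟨b, hb⟩ := Hermitian.exists_star_ne hstar hF
  obtain ⟨τ, hτ⟩ : ∃ τ : F, τ = b - star b := ⟨_, rfl⟩
  have hτ0 : τ ≠ 0 := hτ ▸ sub_ne_zero.mpr (Ne.symm hb)
  have hτs : star τ = -τ := by rw [hτ, star_sub, star_star, neg_sub]
  obtain ⟨t, ht⟩ : ∃ t : ↥(Cfsg.SU 3 F q), t = Unitary.trans hstar v hvv τ hτs := ⟨_, rfl⟩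
  have hact : ∀ x, mat t *ᵥ x = x + (τ * herm v x) • v := fun x => by rw [ht]; exact Unitary.act_trans hstar v hvv τ hτs x
  refine ⟨t, fun hmem => ?_⟩
  have hY := hmem S rfl
  obtain ⟨x, hx1, hx2, hx0⟩ : ∃ x, herm v x = 0 ∧ herm v (S *ᵥ x) = 0 ∧ x ≠ 0 := by
    let Φ : (Fin 3 → F) →ₗ[F] F × F :=
      { toFun := fun z => (herm v z, herm v (S *ᵥ z))
        map_add' := fun x y => Prod.ext (herm_add_right _ _ _) (by simp [Matrix.mulVec_add, herm_add_right])
        map_smul' := fun c x => Prod.ext (herm_smul_right _ _ _) (by simp [Matrix.mulVec_smul, herm_smul_right]) }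
    have hk : LinearMap.ker Φ ≠ ⊥ := fun h => by
      have := LinearMap.finrank_le_finrank_of_injective (LinearMap.ker_eq_bot.mp h)
      rw [Module.finrank_fin_fun, Module.finrank_prod, Module.finrank_self] at this
      omega
    obtain ⟨w, hw, hw0⟩ := Submodule.exists_mem_ne_zero_of_ne_bot hk
    exact ⟨w, congrArg Prod.fst hw, congrArg Prod.snd hw, hw0⟩
  have htx : ∀ z, herm v z = 0 → mat t *ᵥ z = z := fun z hz => by rw [hact, hz, mul_zero, zero_smul, add_zero]
  have hinvx : mat t⁻¹ *ᵥ x = x := by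
    conv_lhs => rw [← htx x hx1]
    rw [Matrix.mulVec_mulVec, mat_inv_mul, Matrix.one_mulVec]
  have hD : mat t * S * mat t⁻¹ - S = 0 := eq_zero_of_kernel hp hp3 hS (by rw [sub_mul, mul_sub, hY]) hx0 (by
    rw [Matrix.sub_mulVec, ← Matrix.mulVec_mulVec, ← Matrix.mulVec_mulVec, hinvx, htx _ hx2, sub_self])
  have hcomm : mat t * S = S * mat t := by
    have h := congrArg (fun X => X * mat t) (sub_eq_zero.mp hD)
    simpa [mul_assoc, mat_inv_mul] using h
  obtain ⟨y, hy⟩ : ∃ y, herm v y = 1 := by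
    refine ⟨Pi.single 0 1, ?_⟩
    rw [herm_single_right, hv]; simp
  have h := congrArg (fun X => X *ᵥ y) hcomm
  simp only [← Matrix.mulVec_mulVec, hact, hy, mul_one, Matrix.mulVec_add, Matrix.mulVec_smul, add_right_inj] at h
  have heig : S *ᵥ v = herm v (S *ᵥ y) • v := by
    refine smul_right_injective _ hτ0 ?_
    show τ • _ = τ • _
    rw [← h, smul_smul]
  have key : ∀ (c : F), S *ᵥ v = c • v → ∀ r : F[X], aeval S r *ᵥ v = r.eval c • v := fun c hc r => by
    clear hS hp3 hp hD hY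
    induction r using Polynomial.induction_on' with
    | add a b ha hb => rw [map_add, Matrix.add_mulVec, eval_add, add_smul, ha, hb]
    | monomial n a =>
      rw [aeval_monomial, eval_monomial, ← Algebra.smul_def, Matrix.smul_mulVec, ← smul_smul]
      congr 1
      induction n with
      | zero => simp
      | succ n ih => rw [pow_succ', ← Matrix.mulVec_mulVec, ih, Matrix.mulVec_smul, hc, smul_smul, pow_succ]
  have h0 := key _ heig p
  rw [hS, Matrix.zero_mulVec, eq_comm, smul_eq_zero] at h0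
  exact hp.not_isRoot_of_natDegree_ne_one (by omega) (h0.resolve_right hv0)

theorem psu_three (hF : Fintype.card F = q ^ 2) (hstar : ∀ x : F, star x = x ^ q) : TwoCovered (Cfsg.PSU 3 F q) := by
  classical
  obtain ⟨e, he, hirr⟩ := exists_irreducible_as (F := F) hstar
  obtain ⟨S, T, hSh, hSp, hTu, hT3, hT2, hTS⟩ := exists_model hstar hF he
  obtain ⟨t, ht⟩ := line_miss (q := q) hstar hF (l := 1)
  obtain ⟨t', ht'⟩ := normC_miss (q := q) hstar hF hirr (asPoly_natDegree e) hSp
  refine twoCovered_quotient _ _ _ (miss_of_scalar_invariant (center_le_subStab hF (by norm_num) _) ht)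
    (miss_of_scalar_invariant (center_le_normC hF (by norm_num) S) ht') fun g => ?_
  by_cases hex : ∃ (r : F) (y : Fin 3 → F), mat g *ᵥ y = r • y ∧ herm y y ≠ 0
  · obtain ⟨r, y, hy, hyy⟩ := hex
    exact Or.inl (to_line hstar hF g hyy hy)
  push Not at hex
  right
  by_cases hr : ∃ r, (mat g).charpoly.IsRoot r
  · obtain ⟨r, hr⟩ := hr
    rw [IsRoot, Matrix.eval_charpoly] at hr
    obtain ⟨v, hv0, hv⟩ := Matrix.exists_mulVec_eq_zero_iff.mpr hr
    rw [Matrix.sub_mulVec, Matrix.scalar_apply, ← Matrix.smul_one_eq_diagonal, Matrix.smul_mulVec, Matrix.one_mulVec,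
      sub_eq_zero] at hv
    obtain ⟨g3, g2⟩ := unip_of_isotropic hstar hF g hex hv0 hv.symm
    obtain ⟨x, hx⟩ := conj_unip hstar hF (mat g) T (mat_iso hstar g) hTu g3 g2 hT3 hT2
    refine ⟨x, ?_⟩
    have hxg : mat (x * g * x⁻¹) = T := by rw [mat_mul, mat_mul, hx, mul_assoc, mat_mul_inv, mul_one]
    intro X hX
    have hTi : mat (x * g * x⁻¹)⁻¹ = Tᴴ := by
      rw [← one_mul (mat (x * g * x⁻¹)⁻¹), ← hTu, mul_assoc, ← hxg, mat_mul_inv, mul_one]
    rw [hxg, hTi]
    have hTT : T * Tᴴ = 1 := mul_eq_one_comm.mp hTu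
    have e1 : Tᴴ * (S + 1) = S * Tᴴ := by
      calc Tᴴ * (S + 1) = Tᴴ * ((S + 1) * T) * Tᴴ := by rw [mul_assoc, mul_assoc (S + 1), hTT, mul_one]
        _ = S * Tᴴ := by rw [← hTS, ← mul_assoc, hTu, one_mul]
    have e2 : T * X * Tᴴ * (S + 1) = (S + 1) * (T * X * Tᴴ) := by
      rw [mul_assoc (T * X), e1, ← mul_assoc, mul_assoc T X S, hX, ← mul_assoc, hTS]
      simp only [mul_assoc]
    rw [mul_add, add_mul, mul_one, one_mul, add_left_inj] at e2
    exact e2
  · push Not at hr
    have hdeg : (mat g).charpoly.natDegree = 3 := by rw [Matrix.charpoly_natDegree_eq_dim, Fintype.card_fin]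
    have hf : Irreducible (mat g).charpoly :=
      irreducible_of_degree_le_three_of_not_isRoot (by rw [hdeg]; decide) hr
    obtain ⟨b, c, hc⟩ := exists_poly_root hirr hf (by rw [asPoly_natDegree, hdeg])
    obtain ⟨J, hJ⟩ : ∃ J, J = aeval (mat g) b := ⟨_, rfl⟩
    have hJp : aeval J (asPoly e) = 0 := by
      rw [hJ, ← Polynomial.aeval_comp, hc, map_mul, Matrix.aeval_self_charpoly, zero_mul]
    have hJg : Commute J (mat g) := by
      have h := congrArg (aeval (mat g)) (mul_comm b X)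
      rw [map_mul, map_mul, aeval_X, ← hJ] at h
      exact h
    have hJg' : Commute Jᴴ (mat g) := by
      have h1 : Commute Jᴴ (mat g)ᴴ := by
        show Jᴴ * (mat g)ᴴ = (mat g)ᴴ * Jᴴ
        rw [← Matrix.conjTranspose_mul, ← Matrix.conjTranspose_mul, hJg.eq]
      have hgg : mat g * (mat g)ᴴ = 1 := mul_eq_one_comm.mp (mat_iso hstar g)
      calc Jᴴ * mat g = mat g * ((mat g)ᴴ * Jᴴ) * mat g := by rw [← mul_assoc, hgg, one_mul]
        _ = mat g * (Jᴴ * (mat g)ᴴ) * mat g := by rw [h1.eq]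
        _ = mat g * Jᴴ := by rw [← mul_assoc, mul_assoc _ _ (mat g), mat_iso hstar g, mul_one]
    have hJJ : Commute Jᴴ J := by
      have hgen : ∀ r : F[X], Commute Jᴴ (aeval (mat g) r) := fun r => by
        induction r using Polynomial.induction_on' with
        | add u v hu hv => rw [map_add]; exact hu.add_right hv
        | monomial n d =>
          rw [aeval_monomial]
          exact (Algebra.commute_algebraMap_right d Jᴴ).mul_right (hJg'.pow_right n)
      have := hgen b
      rwa [← hJ] at this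
    obtain ⟨k, hk⟩ : ∃ k, k = Jᴴ - J := ⟨_, rfl⟩
    have hkg : Commute k (mat g) := hk ▸ hJg'.sub_left hJg
    have e1 : J ^ 3 - J - algebraMap F (Matrix (Fin 3) (Fin 3) F) e = 0 := by rw [← aeval_as, hJp]
    have e2 : Jᴴ ^ 3 - Jᴴ - algebraMap F (Matrix (Fin 3) (Fin 3) F) e = 0 := by
      have h := congrArg Matrix.conjTranspose e1
      rw [Matrix.conjTranspose_sub, Matrix.conjTranspose_sub, Matrix.conjTranspose_pow, Matrix.conjTranspose_zero,
        Algebra.algebraMap_eq_smul_one, Matrix.conjTranspose_smul, Matrix.conjTranspose_one, he] at h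
      rwa [Algebra.algebraMap_eq_smul_one]
    have hcube : k * (k - 1) * (k + 1) = 0 := by
      have h0 : k ^ 3 = Jᴴ ^ 3 - J ^ 3 := by
        have h : k ^ 3 = Jᴴ ^ 3 - J ^ 3 - (3 : ℕ) • (Jᴴ * Jᴴ * J - Jᴴ * J * J) := by
          rw [hk, pow_succ, pow_two, pow_succ, pow_two, pow_succ, pow_two]
          have c1 : J * Jᴴ = Jᴴ * J := hJJ.eq.symm
          simp only [sub_mul, mul_sub, mul_assoc, c1]
          simp only [← mul_assoc, c1]
          simp only [mul_assoc, c1]
          abel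
        rw [h, matThree, sub_zero]
      calc k * (k - 1) * (k + 1) = k ^ 3 - k := by noncomm_ring
        _ = (Jᴴ ^ 3 - Jᴴ - algebraMap F (Matrix (Fin 3) (Fin 3) F) e) -
            (J ^ 3 - J - algebraMap F (Matrix (Fin 3) (Fin 3) F) e) := by rw [h0, hk]; abel
        _ = 0 := by rw [e1, e2, sub_zero]
    have hdiv : ∀ X Y : Matrix (Fin 3) (Fin 3) F, Commute X (mat g) → X * Y = 0 → X = 0 ∨ Y = 0 := by
      intro X Y hX hXY
      by_cases hYz : Y = 0
      · exact Or.inr hYz
      · obtain ⟨z, hz⟩ : ∃ z, Y *ᵥ z ≠ 0 := by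
          by_contra! h
          exact hYz (Matrix.toLin'.injective (LinearMap.ext fun z => by
            rw [Matrix.toLin'_apply, map_zero, LinearMap.zero_apply]; exact h z))
        exact Or.inl (eq_zero_of_kernel hf hdeg (Matrix.aeval_self_charpoly _) hX hz
          (by rw [Matrix.mulVec_mulVec, hXY, Matrix.zero_mulVec]))
    have hskew : kᴴ = -k := by rw [hk, Matrix.conjTranspose_sub, Matrix.conjTranspose_conjTranspose, neg_sub]
    have hone : (1 : Matrix (Fin 3) (Fin 3) F) ≠ 0 := one_ne_zero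
    have hk0 : k = 0 := by
      rcases hdiv _ _ (hkg.mul_left (hkg.sub_left (Commute.one_left _))) hcube with h | h
      · rcases hdiv _ _ hkg h with h | h
        · exact h
        · exfalso
          rw [sub_eq_zero.mp h, Matrix.conjTranspose_one] at hskew
          refine hone ?_
          calc (1 : Matrix (Fin 3) (Fin 3) F) = (3 : ℕ) • (1 : Matrix (Fin 3) (Fin 3) F) - (1 + 1) := by abel
            _ = 0 := by rw [matThree]; nth_rw 1 [hskew]; abel
      · exfalso
        rw [eq_neg_of_add_eq_zero_left h, Matrix.conjTranspose_neg, Matrix.conjTranspose_one, neg_neg] at hskew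
        refine hone ?_
        calc (1 : Matrix (Fin 3) (Fin 3) F) = (3 : ℕ) • (1 : Matrix (Fin 3) (Fin 3) F) - (1 + 1) := by abel
          _ = 0 := by rw [matThree]; nth_rw 1 [← hskew]; abel
    rw [hk, sub_eq_zero] at hk0
    obtain ⟨x, hx⟩ := conj_roots hstar hF hirr (asPoly_natDegree e) J S hJp hSp hk0 hSh
    refine ⟨x, fun X hX => ?_⟩
    have hxS : mat x⁻¹ * S = J * mat x⁻¹ := by
      calc mat x⁻¹ * S = mat x⁻¹ * (S * mat x) * mat x⁻¹ := by rw [mul_assoc, mul_assoc S, mat_mul_inv, mul_one]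
        _ = J * mat x⁻¹ := by rw [← hx, ← mul_assoc, mat_inv_mul, one_mul]
    have hcomm : ∀ Y : ↥(Cfsg.SU 3 F q), Commute (mat Y) J → Commute (mat (x * Y * x⁻¹)) S := by
      intro Y hY
      show mat (x * Y * x⁻¹) * S = S * mat (x * Y * x⁻¹)
      rw [mat_mul, mat_mul]
      calc mat x * mat Y * mat x⁻¹ * S = mat x * (mat Y * J) * mat x⁻¹ := by rw [mul_assoc, hxS]; simp only [mul_assoc]
        _ = mat x * J * mat Y * mat x⁻¹ := by rw [hY.eq]; simp only [mul_assoc]
        _ = _ := by rw [hx]; simp only [mul_assoc]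
    have h1 := hcomm g hJg.symm
    have h2 : Commute (mat (x * g * x⁻¹)⁻¹) S := by
      have := hcomm g⁻¹ (by
        calc mat g⁻¹ * J = mat g⁻¹ * (J * mat g) * mat g⁻¹ := by rw [mul_assoc, mul_assoc J, mat_mul_inv, mul_one]
          _ = J * mat g⁻¹ := by rw [hJg.eq, ← mul_assoc, mat_inv_mul, one_mul])
      rwa [show (x * g * x⁻¹)⁻¹ = x * g⁻¹ * x⁻¹ by group]
    exact (h1.mul_left (show Commute X S from hX)).mul_left h2

end Cfsg.Agent.Small.Cover2.Herm
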